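import Cfsg.Agent.N2.Cl.SzG.Main_m3
import Cfsg.Agent.N2.Cl.FrSp.Num_m3
import Cfsg.Agent.TH.Sv.ClDat_m3
import Cfsg.Agent.SB.Tor.Refl_m3
import Cfsg.Agent.H326.CGU.Irr
import Cfsg.Agent.H727.GW.Isom
import Cfsg.Agent.H989.Fx.Ty_m3
import Cfsg.Agent.H955.QMinus
import Cfsg.Agent.H450.Ux.YcFour
import Cfsg.Agent.ClassicalGeometry.OrthSemiForms
import Cfsg.Agent.ClassicalGeometry.GUBasic
import Cfsg.Agent.S0243
import Cfsg.Agent.S0245
import Cfsg.Agent.S0246
import Cfsg.Agent.S0280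
import Cfsg.Agent.S0287
import Cfsg.Agent.S0288
import Cfsg.Agent.S0292
import Cfsg.Agent.S0293
import Cfsg.Agent.S0294
import Cfsg.Agent.LieClassical.HermBasic
import Cfsg.Agent.N2.Defs_m3
import Cfsg.Agent.H906.Cover_m3
import Cfsg.Agent.FP3.Aff.Scott
import Cfsg.Agent.H6.M11.Lin
import Mathlib
import Cfsg.Agent.CTwoTab.Base
import Cfsg.Agent.FastGrp
import Cfsg.Agent.Prune
set_option linter.all false

section
prune_inst 0x7fbca8f9abb829dfffff7e77a6d8cdfc39949fffa4dff94bbfe021dfab9f230209c5238d09e000fe0e86401410a87843b97eeeffe26bd87ffffd5ff41ffbee0ff5f7b508519488340f380ff683f0778e7f3fffffffffffffffffffffffffffbeffbfffffffff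

-- part: N2/Cl/Cyc/Ord
section
prune_inst 0x504440402200000000858041201c42860004b2004800000882004405c8080004800060a53000161a22000500310468110000004040000000000000011c00a08000100400000008460001000080000000000000000000000000000000000000000000000
set_option linter.all false
open scoped Cfsg.Agent.FastGrp

-- part: N2/Cl/Cyc/Cov
section
/-!
# N2 (S3519), classical socles: criteria in the cover, centralisers of cyclic isometries (helper58)

* `I0 F = [Iso, Iso]`, `cI F u ≤ cO F u ≤ cU u` the orders of the centralisers of `u` in `I0 F`, in `F.Iso`, in the unitary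
  elements; `cn_le`, `cn_mul_le`, `cI_mul_le`;
* the criteria `gd_of_cn`, `gd_of_cI`, `gd_of_lift`, `gd_of_cc`, `gd_of_cc_lift`;
* `IsCyc u` : the centraliser of `u` in the ring is commutative; `cU_le`, `cU_le_field`.
-/

set_option autoImplicit false
set_option linter.unusedSectionVars false

namespace Cfsg.Agent.N2C.Cyc

open Subgroup Cfsg.Agent.DS.Cl Cfsg.Agent.DS.Cl.Fwd
open Cfsg.Agent.FP3 (Good fx)
open Cfsg.Agent.N2 (cn cc)

section groups

variable {G T : Type*} [Group G] [Group T] [Finite G]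

theorem card_comap (π : G →* T) (hπ : Function.Surjective π) (B : Subgroup T) :
    Nat.card (B.comap π) = Nat.card B * Nat.card π.ker := by
  have : Finite T := Finite.of_surjective π hπ
  have h1 := (B.comap π).card_mul_index
  have h2 := B.card_mul_index
  have h3 := π.ker.card_mul_index
  rw [index_comap_of_surjective _ hπ] at h1
  rw [index_ker, MonoidHom.range_eq_top.2 hπ, card_top] at h3
  refine Nat.eq_of_mul_eq_mul_right (Nat.pos_of_ne_zero B.index_ne_zero_of_finite) ?_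
  rw [h1, ← h3, ← h2]
  ring

/-- central kernel; `k` bounds the number of `z` in the kernel such that `z g` is conjugate to `g` -/
theorem cn_mul_ker (π : G →* T) (hπ : Function.Surjective π) (g : G) {k : ℕ}
    (hk : Nat.card {z : G // z ∈ π.ker ∧ ∃ v, v * g = z * g * v} ≤ k) : cn (π g) * Nat.card π.ker ≤ k * cn g := by
  classical
  rw [cn, ← card_comap π hπ]
  let f : (centralizer {π g}).comap π → {z : G // z ∈ π.ker ∧ ∃ v, v * g = z * g * v} := fun v =>
    ⟨v * g * (v : G)⁻¹ * g⁻¹, by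
      have h1 : π g * π v = π v * π g := v.2 _ rfl
      rw [MonoidHom.mem_ker, map_mul, map_mul, map_mul, ← h1, map_inv, map_inv]
      group, v, by group⟩
  have := Fintype.ofFinite ((centralizer {π g}).comap π)
  have := Fintype.ofFinite {z : G // z ∈ π.ker ∧ ∃ v, v * g = z * g * v}
  rw [Nat.card_eq_fintype_card] at hk ⊢
  have h2 := Finset.card_le_mul_card_image_of_maps_to (f := f) (s := Finset.univ) (t := Finset.univ)
    (fun _ _ => Finset.mem_univ _) (cn g) (fun z _ => by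
      by_cases h0 : ∃ v, f v = z
      · obtain ⟨v₀, h0⟩ := h0
        rw [← Nat.card_eq_finsetCard]
        refine Nat.card_le_card_of_injective
          (fun v => (⟨(v₀ : G)⁻¹ * v.1, mem_centralizer_singleton_iff.2 ?_⟩ : centralizer {g})) fun v w e => ?_
        · have h3 : (v.1 : G) * g * (v.1 : G)⁻¹ * g⁻¹ = v₀ * g * (v₀ : G)⁻¹ * g⁻¹ :=
            congrArg Subtype.val ((Finset.mem_filter.1 v.2).2.trans h0.symm)
          have h4 := mul_right_cancel h3
          calc (v₀ : G)⁻¹ * v.1 * g = (v₀ : G)⁻¹ * (v.1 * g * (v.1 : G)⁻¹) * v.1 := by group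
            _ = g * ((v₀ : G)⁻¹ * v.1) := by rw [h4]; group
        · exact Subtype.ext (Subtype.ext (mul_left_cancel (congrArg Subtype.val e)))
      · rw [Finset.filter_eq_empty_iff.2 fun v _ e => h0 ⟨v, e⟩]
        exact Nat.zero_le _)
  rw [Finset.card_univ, Finset.card_univ] at h2
  exact h2.trans ((Nat.mul_le_mul_left _ hk).trans (mul_comm _ _).le)

theorem cn_map_le (π : G →* T) (hπ : Function.Surjective π) (g : G) : cn (π g) ≤ cn g := by
  have h1 := cn_mul_ker π hπ g (k := Nat.card π.ker)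
    (Nat.card_le_card_of_injective (fun z => ⟨z.1, z.2.1⟩) fun _ _ e => Subtype.ext (Subtype.mk.inj e))
  rw [mul_comm] at h1
  exact Nat.le_of_mul_le_mul_left h1 Nat.card_pos

end groups

variable {A : Type} [Ring A] [StarRing A]

/-- the quasisimple group -/
abbrev I0 (F : FR A) : Subgroup Aˣ := ⁅F.Iso, F.Iso⁆

/-- the central isometries -/
abbrev ZI (F : FR A) : Subgroup Aˣ := F.Iso ⊓ (cj A).ker

/-- the preimage of `H ⊓ F.S` in the quasisimple group -/
abbrev Lf (F : FR A) (H : Subgroup (RingAut A)) : Subgroup Aˣ := H.comap (cj A) ⊓ I0 F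

/-- the order of the centraliser in `I0 F` -/
noncomputable def cI (F : FR A) (u : Aˣ) : ℕ := Nat.card {v : Aˣ // v ∈ I0 F ∧ v * u = u * v}

/-- the order of the centraliser in `F.Iso` -/
noncomputable def cO (F : FR A) (u : Aˣ) : ℕ := Nat.card {v : Aˣ // v ∈ F.Iso ∧ v * u = u * v}

/-- the number of unitary elements commuting with `u` -/
noncomputable def cU (u : A) : ℕ := Nat.card {x : A // x * star x = 1 ∧ x * u = u * x}

/-- the covering map -/
def pr (F : FR A) : I0 F →* F.S := (cj A).subgroupMap (I0 F)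

theorem pr_surj (F : FR A) : Function.Surjective (pr F) := (cj A).subgroupMap_surjective _

/-- the element of `F.S` -/
def el {F : FR A} {u : Aˣ} (hu : u ∈ I0 F) : F.S := ⟨cj A u, u, hu, rfl⟩

variable [Finite A] {F : FR A} {H : Subgroup (RingAut A)} {u : Aˣ}

theorem finAut : Finite (RingAut A) := Finite.of_injective (fun γ : RingAut A => (γ : A → A)) DFunLike.coe_injective

theorem cI_le_cO (F : FR A) (u : Aˣ) : cI F u ≤ cO F u :=
  Nat.card_le_card_of_injective (fun v => ⟨v.1, F.comm_le_Iso v.2.1, v.2.2⟩)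
    fun _ _ e => Subtype.ext (Subtype.mk.inj e)

theorem cO_le_cU (F : FR A) (u : Aˣ) : cO F u ≤ cU (u : A) :=
  Nat.card_le_card_of_injective (fun v => ⟨v.1, v.2.1.1, congrArg Units.val v.2.2⟩)
    fun _ _ e => Subtype.ext (Units.ext (congrArg Subtype.val e))

theorem cI_le_cU (F : FR A) (u : Aˣ) : cI F u ≤ cU (u : A) := (cI_le_cO F u).trans (cO_le_cU F u)

omit [StarRing A] [Finite A] in
theorem cn_eq {K : Subgroup Aˣ} (hu : u ∈ K) : cn (⟨u, hu⟩ : K) = Nat.card {v : Aˣ // v ∈ K ∧ v * u = u * v} :=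
  Nat.card_congr
    { toFun := fun x => ⟨x.1, x.1.2, congrArg Subtype.val (mem_centralizer_singleton_iff.1 x.2)⟩
      invFun := fun v => ⟨⟨v.1, v.2.1⟩, mem_centralizer_singleton_iff.2 (Subtype.ext v.2.2)⟩
      left_inv := fun _ => rfl
      right_inv := fun _ => rfl }

/-- the centraliser in the simple group is at most as large as the one in the cover -/
theorem cn_le (hu : u ∈ I0 F) : cn (el hu) ≤ cI F u := (cn_map_le (pr F) (pr_surj F) ⟨u, hu⟩).trans (cn_eq hu).le

/-- dividing by the scalars: `k` bounds the number of central isometries `z` such that `z u` is conjugate to `u` -/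
theorem cn_mul_le (hu : u ∈ I0 F) {k : ℕ}
    (hk : Nat.card {z : Aˣ // z ∈ ZI F ∧ ∃ v ∈ F.Iso, v * u = z * u * v} ≤ k) :
    cn (el hu) * Nat.card (ZI F) ≤ k * cO F u := by
  have := finAut (A := A)
  let π : F.Iso →* F.PI := (cj A).subgroupMap F.Iso
  have h1 := cn_mul_ker π ((cj A).subgroupMap_surjective _) ⟨u, F.comm_le_Iso hu⟩ (k := k)
    (le_trans (Nat.card_le_card_of_injective (fun z => ⟨z.1, ⟨z.1.2, congrArg Subtype.val z.2.1⟩,
      z.2.2.choose, z.2.2.choose.2, congrArg Subtype.val z.2.2.choose_spec⟩)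
      fun _ _ e => Subtype.ext (Subtype.ext (by simpa only [_root_.SetLike.coe_eq_coe, _root_.Subtype.mk.injEq] using e))) hk)
  have h2 : Nat.card π.ker = Nat.card (ZI F) := Nat.card_congr
    { toFun := fun z => ⟨z.1, z.1.2, congrArg Subtype.val z.2⟩
      invFun := fun z => ⟨⟨z.1, z.2.1⟩, Subtype.ext z.2.2⟩
      left_inv := fun _ => rfl
      right_inv := fun _ => rfl }
  rw [h2, cn_eq] at h1
  refine le_trans (Nat.mul_le_mul_right _ ?_) h1
  exact Nat.card_le_card_of_injective (fun x => (⟨⟨x.1, F.S_le_PI x.1.2⟩, mem_centralizer_singleton_iff.2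
    (Subtype.ext (congrArg (fun y : F.S => (y : RingAut A)) (mem_centralizer_singleton_iff.1 x.2)))⟩ :
      centralizer {π ⟨u, _⟩}))
    fun _ _ e => Subtype.ext (Subtype.ext (congrArg (fun x => (x.1 : RingAut A)) e))

/-- no scalar multiple of `u` is conjugate to `u` -/
theorem cn_mul_le_one (hu : u ∈ I0 F) (hk : ∀ z ∈ ZI F, ∀ v ∈ F.Iso, v * u = z * u * v → z = 1) :
    cn (el hu) * Nat.card (ZI F) ≤ cO F u := by
  rw [← one_mul (cO F u)]
  refine cn_mul_le hu (Finite.card_le_one_iff_subsingleton.2 ⟨fun a b => Subtype.ext ?_⟩)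
  obtain ⟨v, hv, e⟩ := a.2.2
  obtain ⟨w, hw, e'⟩ := b.2.2
  rw [hk _ a.2.1 v hv e, hk _ b.2.1 w hw e']

omit [Finite A] in
theorem ZI_comm {z : Aˣ} (hz : z ∈ ZI F) (x : A) : (z : A) * x = x * z := by
  have h1 : (z : A) * x * (z⁻¹ : Aˣ) = x := DFunLike.congr_fun (MonoidHom.mem_ker.1 hz.2) x
  rw [← Units.mul_inv_eq_iff_eq_mul, h1]

omit [Finite A] in
theorem mem_ZI {z : Aˣ} (h1 : z ∈ F.Iso) (h2 : (z : A) ∈ Subring.center A) : z ∈ ZI F :=
  ⟨h1, RingEquiv.ext fun x => by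
    change (z : A) * x * (z⁻¹ : Aˣ) = x
    rw [← Subring.mem_center_iff.1 h2 x, Units.mul_inv_cancel_right]⟩

omit [Finite A] in
theorem card_sub (F : FR A) (H : Subgroup (RingAut A)) : Nat.card (H.subgroupOf F.S) = Nat.card ↥(H ⊓ F.S) := by
  rw [← inf_subgroupOf_right]
  exact Nat.card_congr (subgroupOfEquivOfLe inf_le_right).toEquiv

/-- **crude criterion** -/
theorem gd_of_cn (hu : u ∈ I0 F) (hH : cj A u ∈ H) {c : ℕ} (h : cn (el hu) ≤ c)
    (hc : c ^ 3 * Nat.card ↥(H ⊓ F.S) ≤ Nat.card F.S) : Gd F H :=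
  have := finAut (A := A)
  N2.good_of_cn (a := el hu) hH h (by rwa [card_sub])

theorem gd_of_cI (hu : u ∈ I0 F) (hH : cj A u ∈ H) {c : ℕ} (h : cI F u ≤ c)
    (hc : c ^ 3 * Nat.card ↥(H ⊓ F.S) ≤ Nat.card F.S) : Gd F H := gd_of_cn hu hH ((cn_le hu).trans h) hc

theorem card_I0 (F : FR A) : Nat.card (I0 F) = Nat.card F.S * Nat.card (pr F).ker := by
  rw [← card_top, ← comap_top (pr F), card_comap _ (pr_surj F), card_top]

theorem card_Lf (F : FR A) (H : Subgroup (RingAut A)) :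
    Nat.card (Lf F H) = Nat.card ↥(H ⊓ F.S) * Nat.card (pr F).ker := by
  rw [← card_sub, ← card_comap _ (pr_surj F)]
  exact (Nat.card_congr (subgroupOfEquivOfLe (inf_le_right : Lf F H ≤ I0 F)).toEquiv).symm.trans
    (by rw [inf_subgroupOf_right]; rfl)

/-- **crude criterion in the cover** -/
theorem gd_of_lift (hu : u ∈ I0 F) (hH : cj A u ∈ H) {c : ℕ} (h : cn (el hu) ≤ c)
    (hc : c ^ 3 * Nat.card (Lf F H) ≤ Nat.card (I0 F)) : Gd F H := by
  refine gd_of_cn hu hH h (Nat.le_of_mul_le_mul_right ?_ (Nat.card_pos (α := (pr F).ker)))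
  rwa [card_Lf, card_I0, ← mul_assoc] at hc

/-! ### commutative centralisers -/

omit [StarRing A] [Finite A] in
/-- the centraliser of `u` in the ring is commutative -/
def IsCyc (u : A) : Prop := ∀ x y : A, x * u = u * x → y * u = u * y → x * y = y * x

omit [Finite A] in
theorem star_comm {u x : A} (hu : u * star u = 1) (hu' : star u * u = 1) (hx : x * u = u * x) :
    star x * u = u * star x := by
  have h1 := congrArg star hx
  rw [star_mul, star_mul] at h1
  calc star x * u = u * (star u * star x) * u := by rw [← mul_assoc, hu, one_mul]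
    _ = u * star x := by rw [h1, mul_assoc, mul_assoc, hu', mul_one]

/-- the centraliser as a type -/
def Cn {u : A} (_h : IsCyc u) : Type := Subring.centralizer ({u} : Set A)

instance Cn.instCommRingN2C {u : A} (h : IsCyc u) : CommRing (Cn h) :=
  { (inferInstance : Ring (Subring.centralizer ({u} : Set A))) with
    mul_comm := fun x y => Subtype.ext (h _ _ (x.2 u rfl).symm (y.2 u rfl).symm) }

instance Cn.instFiniteN2C {u : A} (h : IsCyc u) : Finite (Cn h) :=
  inferInstanceAs (Finite (Subring.centralizer ({u} : Set A)))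

/-- an element of the centraliser -/
def Cn.mk {u : A} (h : IsCyc u) (x : A) (hx : x * u = u * x) : Cn h := ⟨x, by rintro _ rfl; exact hx.symm⟩

/-- the inclusion -/
def Cn.val {u : A} {h : IsCyc u} : Cn h →+* A := (Subring.centralizer ({u} : Set A)).subtype

omit [StarRing A] [Finite A] in
theorem Cn.val_inj {u : A} {h : IsCyc u} : Function.Injective (Cn.val (h := h)) := Subtype.val_injective

omit [StarRing A] [Finite A] in
theorem Cn.comm {u : A} {h : IsCyc u} (x : Cn h) : Cn.val x * u = u * Cn.val x := (x.2 u rfl).symm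

/-- the involution of the centraliser -/
def Cn.sg {u : A} (h : IsCyc u) (hu : u * star u = 1) : Cn h →+* Cn h where
  toFun x := Cn.mk h (star (Cn.val x)) (star_comm hu (mul_eq_one_comm.1 hu) x.comm)
  map_one' := Cn.val_inj (star_one A)
  map_mul' x y := Cn.val_inj (by
    rw [mul_comm x y]
    exact star_mul _ _)
  map_zero' := Cn.val_inj (star_zero A)
  map_add' x y := Cn.val_inj (star_add _ _)

theorem Cn.val_sg {u : A} (h : IsCyc u) (hu : u * star u = 1) (x : Cn h) : Cn.val (Cn.sg h hu x) = star (Cn.val x) := rfl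

theorem Cn.sg_sg {u : A} (h : IsCyc u) (hu : u * star u = 1) (x : Cn h) : Cn.sg h hu (Cn.sg h hu x) = x :=
  Cn.val_inj (star_star _)

theorem cU_eq {u : A} (h : IsCyc u) (hu : u * star u = 1) : cU u = N2.Cy.uu (Cn.sg h hu) :=
  Nat.card_congr
    { toFun := fun x => ⟨Cn.mk h x.1 x.2.2, Cn.val_inj x.2.1⟩
      invFun := fun x => ⟨Cn.val x.1, congrArg Cn.val x.2, x.1.comm⟩
      left_inv := fun _ => rfl
      right_inv := fun _ => rfl }

/-- the number of skew elements commuting with `u` -/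
noncomputable def cS (u : A) : ℕ := Nat.card {x : A // star x = -x ∧ x * u = u * x}

theorem cS_eq {u : A} (h : IsCyc u) (hu : u * star u = 1) : cS u = N2.Cy.sk (Cn.sg h hu) ⊤ :=
  Nat.card_congr
    { toFun := fun x => ⟨Cn.mk h x.1 x.2.2, trivial, Cn.val_inj x.2.1⟩
      invFun := fun x => ⟨Cn.val x.1, congrArg Cn.val x.2.2, x.1.comm⟩
      left_inv := fun _ => rfl
      right_inv := fun _ => rfl }

omit [StarRing A] in
theorem Cn.isUnit {u : A} {h : IsCyc u} {x : Cn h} (hx : IsUnit (Cn.val x)) : IsUnit x :=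
  (IsLeftRegular.isUnit_of_finite) fun a b (e : x * a = x * b) =>
    Cn.val_inj (hx.mul_left_cancel (by rw [← map_mul, ← map_mul, e]))

/-- the centraliser is a field -/
theorem cU_le_field {u : A} (hu : u * star u = 1) (h : IsCyc u) (hf : ∀ x : A, x * u = u * x → x ≠ 0 → IsUnit x)
    {y : A} (hy : y * u = u * y) (hy' : star y ≠ y) : cU u ≤ cS u + 1 := by
  rw [cU_eq h hu, cS_eq h hu]
  have h1 : N2.Cy.Mi (Cn.sg h hu) ⊤ 1 := ⟨Cn.sg_sg h hu, fun _ _ => trivial, trivial, fun x _ => mul_one x,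
    fun J hJ _ _ => by
      obtain ⟨x, hx, h0⟩ := J.exists_mem_ne_zero_of_ne_bot hJ
      exact (J.eq_top_of_isUnit_mem hx (Cn.isUnit (hf _ x.comm fun e => h0 (Cn.val_inj (by rw [e, map_zero]))))).ge⟩
  refine le_trans (le_of_eq (Nat.card_congr (Equiv.subtypeEquivRight fun x => ?_)))
    (h1.uk_le (y := Cn.mk h y hy) trivial fun e => hy' (congrArg Cn.val e))
  exact ⟨fun k => ⟨k, trivial⟩, fun k => k.1⟩

/-- **the unit lemma in the star ring**.  `E` : symmetric elements commuting with `u` with invertible differences (a field);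
`T` : elements `b` such that the centraliser modulo `b` is a field; every maximal ideal with trivial involution contains
one of them -/
theorem cU_le {u : A} (hu : u * star u = 1) (h : IsCyc u) {c : A} (hc : c * u = u * c) (hc' : c + star c = 1)
    {ι : Type*} (E : ι → A) (hE : ∀ i, E i * u = u * E i) (hE' : ∀ i, star (E i) = E i)
    (hE'' : ∀ i j, i ≠ j → IsUnit (E i - E j)) (T : Finset (Ideal (Cn h)))
    (hT : ∀ M : Ideal (Cn h), M.IsMaximal → (∀ x, x - Cn.sg h hu x ∈ M) → M ∈ T) {ν : ℕ} (h2 : 2 ≤ Nat.card ι)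
    (hν : cS u ≤ Nat.card ι ^ ν) : cU u ≤ 2 ^ T.card * (Nat.card ι + 1) ^ ν := by
  rw [cU_eq h hu]
  rw [cS_eq h hu] at hν
  exact N2.Cy.uu_le_pow (c := Cn.mk h c hc) (E := fun i => Cn.mk h (E i) (hE i)) (Cn.sg_sg h hu) (Cn.val_inj hc')
    (fun i => Cn.val_inj (hE' i)) (fun i j hij => Cn.isUnit (hE'' i j hij)) hT h2 hν

/-- the number of elements commuting with `u` -/
noncomputable def cA (u : A) : ℕ := Nat.card {x : A // x * u = u * x}

omit [StarRing A] [Finite A] in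
theorem cA_eq {u : A} (h : IsCyc u) : cA u = Nat.card (Cn h) :=
  Nat.card_congr
    { toFun := fun x => Cn.mk h x.1 x.2
      invFun := fun x => ⟨Cn.val x, x.comm⟩
      left_inv := fun _ => rfl
      right_inv := fun _ => rfl }

/-- there is a skew unit (linear and unitary groups, or `u - u⁻¹` invertible) -/
theorem cS_sq_le_unit {u : A} (hu : u * star u = 1) (h : IsCyc u) {c δ : A} (hc : c * u = u * c) (hc' : c + star c = 1)
    (hδ : δ * u = u * δ) (hδ' : star δ = -δ) (hδ'' : IsUnit δ) : cS u ^ 2 ≤ cA u := by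
  rw [cS_eq h hu, cA_eq h]
  exact N2.Cy.sk_sq_le_unit (c := Cn.mk h c hc) (δ := Cn.mk h δ hδ) (Cn.sg_sg h hu) (Cn.val_inj hc') (Cn.val_inj hδ')
    (Cn.isUnit hδ'')

/-- with a skew unit no maximal ideal has trivial involution -/
theorem cU_le_unit {u : A} (hu : u * star u = 1) (h : IsCyc u) {c θ : A} (hc : c * u = u * c) (hc' : c + star c = 1)
    (hθ : θ * u = u * θ) (hθ' : IsUnit (θ - star θ))
    {ι : Type*} (E : ι → A) (hE : ∀ i, E i * u = u * E i) (hE' : ∀ i, star (E i) = E i)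
    (hE'' : ∀ i j, i ≠ j → IsUnit (E i - E j)) {ν : ℕ} (h2 : 2 ≤ Nat.card ι)
    (hν : cA u ≤ (Nat.card ι ^ ν) ^ 2) : cU u ≤ (Nat.card ι + 1) ^ ν := by
  have h1 := cU_le hu h hc hc' E hE hE' hE'' ∅ (fun M hM k => absurd (M.eq_top_of_isUnit_mem (k (Cn.mk h θ hθ))
    (Cn.isUnit hθ')) hM.ne_top) h2 (ν := ν) ((Nat.pow_le_pow_iff_left two_ne_zero).1 ((cS_sq_le_unit hu h hc hc' (δ := θ - star θ)
      (by rw [sub_mul, mul_sub, hθ, star_comm hu (mul_eq_one_comm.1 hu) hθ]) (by rw [star_sub, star_star, neg_sub])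
      hθ').trans hν))
  simpa only [_root_.ge_iff_le, _root_.Finset.card_empty, _root_.pow_zero, _root_.one_mul] using h1

/-- an element of trace one commuting with `u`: no eigenvalue one -/
theorem exists_tr_of_unit {u : A} (hu : u * star u = 1) (h : IsUnit (u - 1)) : ∃ c, c * u = u * c ∧ c + star c = 1 := by
  obtain ⟨w, hw⟩ := h
  have h1 : (w : A) * u = u * w := by rw [hw, sub_mul, mul_sub, one_mul, mul_one]
  have h2 : ((w⁻¹ : Aˣ) : A) * u = u * (w⁻¹ : Aˣ) := by
    rw [Units.inv_mul_eq_iff_eq_mul, ← mul_assoc, h1, Units.mul_inv_cancel_right]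
  refine ⟨-(w⁻¹ : Aˣ), by rw [neg_mul, mul_neg, h2], ?_⟩
  have h3 : star (w : A) * u = -w := by rw [hw, star_sub, star_one, sub_mul, mul_eq_one_comm.1 hu, one_mul, neg_sub]
  have h4 : star ((w⁻¹ : Aˣ) : A) * star (w : A) = 1 := by rw [← star_mul, Units.mul_inv, star_one]
  have h5 : star ((w⁻¹ : Aˣ) : A) = -(u * (w⁻¹ : Aˣ)) := by
    calc star ((w⁻¹ : Aˣ) : A) = -(star ((w⁻¹ : Aˣ) : A) * (star (w : A) * u) * (w⁻¹ : Aˣ)) := by
          rw [h3, mul_neg, neg_mul, neg_neg, Units.mul_inv_cancel_right]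
      _ = _ := by rw [← mul_assoc, h4, one_mul]
  rw [star_neg, h5, neg_neg, neg_add_eq_sub, ← Units.mul_inv w, hw, sub_mul, one_mul]

/-- an element of trace one commuting with `u`: odd characteristic -/
theorem exists_tr_of_two (h : IsUnit (2 : A)) (u : A) : ∃ c, c * u = u * c ∧ c + star c = 1 := by
  obtain ⟨w, hw⟩ := h
  have h1 : (w : A) * u = u * w := by rw [hw, two_mul, mul_two]
  have h2 : star ((w⁻¹ : Aˣ) : A) = (w⁻¹ : Aˣ) := by
    have h3 : star ((w⁻¹ : Aˣ) : A) * w = 1 := by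
      rw [show (w : A) = star (w : A) by rw [hw, star_ofNat], ← star_mul, Units.mul_inv, star_one]
    rw [← Units.mul_left_inj w, h3, Units.inv_mul]
  refine ⟨(w⁻¹ : Aˣ), by rw [Units.inv_mul_eq_iff_eq_mul, ← mul_assoc, h1, Units.mul_inv_cancel_right], ?_⟩
  rw [h2, ← two_mul, ← hw, Units.mul_inv]

/-- an element of trace one commuting with `u`: semisimple elements -/
theorem exists_tr_of_pow (F : FR A) {u : A} (hu : u * star u = 1) {m : ℕ} (hm : u ^ m = 1) (h : IsUnit (m : A)) :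
    ∃ c, c * u = u * c ∧ c + star c = 1 := by
  obtain ⟨w, hw⟩ := h
  have hu' := mul_eq_one_comm.1 hu
  have h0 : ∀ x : A, (w : A) * x = x * w := fun x => by rw [hw, Nat.cast_comm]
  have h1 : ∀ x : A, ((w⁻¹ : Aˣ) : A) * x = x * (w⁻¹ : Aˣ) := fun x => by
    rw [Units.inv_mul_eq_iff_eq_mul, ← mul_assoc, h0, Units.mul_inv_cancel_right]
  have h2 : star ((w⁻¹ : Aˣ) : A) = (w⁻¹ : Aˣ) := by
    have h3 : star ((w⁻¹ : Aˣ) : A) * w = 1 := by
      rw [show (w : A) = star (w : A) by rw [hw, star_natCast], ← star_mul, Units.mul_inv, star_one]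
    rw [← Units.mul_left_inj w, h3, Units.inv_mul]
  have h3 : ∀ i : ℕ, u ^ i * star u ^ i = 1 := fun i => by
    rw [← (show Commute u (star u) from hu.trans hu'.symm).mul_pow, hu, one_pow]
  let s := ∑ i ∈ Finset.range m, u ^ i * F.l * star u ^ i
  have h4 : u * s * star u = s := by
    have h5 := Finset.sum_range_succ' (fun i => u ^ i * F.l * star u ^ i) m
    rw [Finset.sum_range_succ, ← star_pow, hm, star_one, pow_zero, pow_zero] at h5
    rw [Finset.mul_sum, Finset.sum_mul]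
    refine Eq.trans (Finset.sum_congr rfl fun i _ => ?_) (add_right_cancel h5).symm
    rw [pow_succ', pow_succ]
    simp only [mul_assoc]
  refine ⟨(w⁻¹ : Aˣ) * s, ?_, ?_⟩
  · rw [mul_assoc, ← mul_assoc u, ← h1, mul_assoc]
    congr 1
    conv_lhs => rw [← h4]
    rw [mul_assoc, hu', mul_one]
  · rw [star_mul, h2, ← h1, ← mul_add, Units.inv_mul_eq_iff_eq_mul, mul_one, hw, star_sum, ← Finset.sum_add_distrib,
      Finset.sum_congr rfl (g := fun _ => 1) fun i _ => by
        rw [star_mul, star_mul, star_pow, star_star, star_pow, ← mul_assoc, ← add_mul, ← mul_add, F.l_add, mul_one, h3]]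
    simp

end Cfsg.Agent.N2C.Cyc
end

-- part: N2/Cl/Cyc/Ord
section
/-!
# N2 (S3519), classical socles: the orders of the groups of the four kinds (helper58)

* arbitrary spaces (blocks): `card_GLV`, `card_IsoV_U`, `card_IsoV_Sp`, `card_O_odd`, `card_O_plus`, `card_O_minus`,
  `card_O_le`;
* `card_Iso_L U Sp O`, `card_I0_L U Sp O`, `card_S_L U Sp O`, `card_ZI_*`, `ZI_pow_*`.
-/

set_option autoImplicit false
set_option linter.unusedSectionVars false

namespace Cfsg.Agent.N2C.Cyc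

open Subgroup Module Cfsg.Agent.DS.Cl Cfsg.Agent.DS.Cl.Fwd Cfsg.Agent.SB.Cl
open Cfsg.Agent.TH.Cl (KL KU KSp KO)
open Cfsg.Agent.SB.Fld (prL)
open Cfsg.Agent.LieClassical.OrthCore (O E Nondeg E_le_O)
open Cfsg.Agent.LieClassical.QuadForms
open scoped Matrix

variable {K V : Type} [Field K] [Fintype K] [AddCommGroup V] [Module K V] [Finite V]

theorem two_le_q (K : Type) [Field K] [Fintype K] : 2 ≤ Fintype.card K := Fintype.one_lt_card

theorem card_GL (n : ℕ) (K : Type) [Field K] [Fintype K] : Nat.card (GL (Fin n) K) = oGL n (Fintype.card K) := by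
  rw [Matrix.card_GL_field, prod_eq_oGL]

/-- the isometries of a form -/
def IsoV (h : HF K V) : Subgroup (V ≃ₗ[K] V) where
  carrier := {g | ∀ x y, h.b (g x) (g y) = h.b x y}
  one_mem' := fun _ _ => rfl
  mul_mem' := fun {a b} ha hb x y => (ha (b x) (b y)).trans (hb x y)
  inv_mem' := fun {a} ha x y => by
    rw [← ha (a⁻¹ x) (a⁻¹ y)]
    exact congrArg₂ _ (a.apply_symm_apply x) (a.apply_symm_apply y)

/-- the restriction of a form to a non-degenerate subspace -/
def res (h : HF K V) (W : Submodule K V) (hW : ∀ v ∈ W, (∀ u ∈ W, h.b u v = 0) → v = 0) : HF K W where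
  τ := h.τ
  ε := h.ε
  b x y := h.b x y
  add_left _ _ _ := h.add_left _ _ _
  smul_left _ _ _ := h.smul_left _ _ _
  swap _ _ := h.swap _ _
  τ_τ := h.τ_τ
  nondeg v hv := Subtype.ext (hW v v.2 fun u hu => hv ⟨u, hu⟩)

variable {h : HF K V} {F : FR h.EB}

theorem tau_pow (hU : IsU h) {q : ℕ} (hq : Fintype.card K = q ^ 2) (a : K) : h.τ a = a ^ q := by
  obtain ⟨s, h1, h2⟩ := H326.CGU.exists_frobenius (TH.Cl.IsU.tau_ne hU) h.τ_τ
  rw [h2, Nat.pow_left_injective two_ne_zero (h1.symm.trans hq)]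

theorem card_IsoV_U (hU : IsU h) {q : ℕ} (hq : Fintype.card K = q ^ 2) : Nat.card (IsoV h) = oGU (finrank K V) q := by
  have : Module.Finite K V := Module.Finite.of_finite
  let B : V →ₛₗ[h.τ] V →ₗ[K] K := LinearMap.mk₂'ₛₗ h.τ (RingHom.id K) (fun v w => h.b w v)
    (fun _ _ _ => h.add_right _ _ _) (fun _ _ _ => h.smul_right _ _ _) (fun _ _ _ => h.add_left _ _ _)
    fun _ _ _ => h.smul_left _ _ _
  refine Eq.trans ?_ (H326.CGU.card_isom (TH.Cl.IsU.tau_ne hU) h.τ_τ B ⟨fun v w => by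
      change h.τ (h.b w v) = h.b v w
      rw [h.swap w v, hU.1, one_mul]⟩ (fun v hv => h.nondeg v hv) hq (tau_pow hU hq))
  exact Nat.card_congr (Equiv.subtypeEquivRight fun g => ⟨fun k u v => k v u, fun k u v => k v u⟩)

theorem card_IsoV_Sp (h1 : ∀ c, h.τ c = c) (h2 : ∀ v, h.b v v = 0) {k : ℕ} (hk : finrank K V = 2 * k) :
    Nat.card (IsoV h) = oSp k (Fintype.card K) := by
  have : Module.Finite K V := Module.Finite.of_finite
  let B : LinearMap.BilinForm K V := LinearMap.mk₂ K h.b h.add_left h.smul_left h.add_right fun c u v => by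
    rw [h.smul_right, h1, smul_eq_mul]
  exact H727.GW.card_isomGroup B h2
    (fun v hv => h.nondeg v fun w => by rw [h.swap v w, show h.b v w = 0 from hv w, map_zero, mul_zero]) hk

section O

variable {Q : QuadraticForm K V}

theorem card_O_plus (hQ : Nondeg Q) {m : ℕ} (hm : 1 ≤ m) (hd : finrank K V = 2 * m) (hP : H955.IsPlus Q) :
    Nat.card (O Q) = 2 * oP m (Fintype.card K) := by
  have : Module.Finite K V := Module.Finite.of_finite
  obtain ⟨e, he⟩ := H955.exists_plus_equiv m Q hQ hd hP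
  rw [← H989.Fx.card_O_congr e he, ClassicalGeometry.OrthSemiForms.card_O, coe_plusForm, S0287.result rfl m hm, oP, PP]
  ring

theorem card_O_minus (hQ : Nondeg Q) {m : ℕ} (hm : 1 ≤ m) (hd : finrank K V = 2 * m) (hP : ¬ H955.IsPlus Q) :
    Nat.card (O Q) = 2 * oM m (Fintype.card K) := by
  have : Module.Finite K V := Module.Finite.of_finite
  obtain ⟨a, b, hab⟩ := H955.exists_aniso_coeff K
  obtain ⟨e, he⟩ := H955.exists_minus_equiv hab (m - 1) Q hQ (by omega) hP
  rw [← H989.Fx.card_O_congr e he, ClassicalGeometry.OrthSemiForms.card_O, coe_minusForm,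
    S0288.result rfl m hm a b hab, oM, PP]
  ring

theorem two_ne_of_odd (hQ : Nondeg Q) (hd : Odd (finrank K V)) : (2 : K) ≠ 0 := fun h2 => by
  have : Module.Finite K V := Module.Finite.of_finite
  exact Nat.not_even_iff_odd.2 hd (H727.GW.even_finrank _ V (QuadraticMap.polarBilin Q)
    (fun x => by rw [QuadraticMap.polarBilin_apply_apply, QuadraticMap.polar_self, two_smul, ← two_mul, h2, zero_mul])
    hQ rfl)

theorem card_O_odd (hQ : Nondeg Q) {m : ℕ} (hd : finrank K V = 2 * m + 1) :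
    Nat.card (O Q) = 2 * oSp m (Fintype.card K) := by
  have : Module.Finite K V := Module.Finite.of_finite
  have h2 := two_ne_of_odd hQ ⟨m, hd⟩
  obtain ⟨ε, hε⟩ := H989.Fx.exists_ty h2 _ V Q hQ hd
  have h1 := hε.card_odd h2
  have h3 : ∀ j, H989.Fx.PP (Nat.card K) j = (PP j (Fintype.card K) : ℕ) := fun j => by
    rw [H989.Fx.PP, PP, Nat.cast_prod, Nat.card_eq_fintype_card]
    refine Finset.prod_congr rfl fun i _ => ?_
    rw [Nat.cast_sub (Nat.one_le_pow _ _ Fintype.card_pos)]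
    simp
  rw [h3, Nat.card_eq_fintype_card (α := K)] at h1
  rw [oSp, ← mul_assoc]
  exact_mod_cast h1

theorem card_O_even_le (hQ : Nondeg Q) {m : ℕ} (hm : 1 ≤ m) (hd : finrank K V = 2 * m) :
    2 * oP m (Fintype.card K) ≤ Nat.card (O Q) ∧ Nat.card (O Q) ≤ 2 * oM m (Fintype.card K) := by
  have h1 := Nat.mul_le_mul_left 2 (oP_le_oM m (Fintype.card K))
  by_cases hP : H955.IsPlus Q
  · rw [card_O_plus hQ hm hd hP]
    exact ⟨le_rfl, h1⟩
  · rw [card_O_minus hQ hm hd hP]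
    exact ⟨h1, le_rfl⟩

theorem card_O_two (hQ : Nondeg Q) (hd : finrank K V = 2) : Nat.card (O Q) ≤ 2 * (Fintype.card K + 1) := by
  simpa only [oM, PP, _root_.tsub_self, _root_.MulZeroClass.mul_zero, _root_.pow_zero, _root_.pow_one, _root_.one_mul, _root_.Finset.range_zero, _root_.Finset.prod_empty, _root_.mul_one] using (card_O_even_le hQ le_rfl hd).2

/-- `|O(Q)| ≤ 2 q^(n (n - 1) / 2)` unless `n = 2` -/
theorem card_O_le (hQ : Nondeg Q) (hd : finrank K V ≠ 2) :
    Nat.card (O Q) ≤ 2 * Fintype.card K ^ (finrank K V * (finrank K V - 1) / 2) := by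
  have : Module.Finite K V := Module.Finite.of_finite
  obtain ⟨m, hm | hm⟩ := Nat.even_or_odd' (finrank K V)
  · rcases Nat.eq_zero_or_pos m with rfl | h0
    · rw [H989.Fx.card_O_zero hm, hm]
      simp only [_root_.MulZeroClass.mul_zero, _root_.zero_tsub, _root_.Nat.zero_div, _root_.pow_zero, _root_.mul_one, _root_.Nat.one_le_ofNat]
    obtain ⟨m, rfl⟩ := Nat.exists_eq_add_of_le' h0
    rw [hm, show 2 * (m + 1) * (2 * (m + 1) - 1) / 2 = 2 * m ^ 2 + 3 * m + 1 by
      rw [show 2 * (m + 1) - 1 = 2 * m + 1 by omega, mul_assoc, Nat.mul_div_cancel_left _ two_pos]; ring]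
    exact (card_O_even_le hQ h0 hm).2.trans (Nat.mul_le_mul_left _ (oM_le Fintype.card_pos (by omega)))
  · rw [card_O_odd hQ hm, hm, show (2 * m + 1) * (2 * m + 1 - 1) / 2 = 2 * m ^ 2 + m by
      rw [Nat.add_sub_cancel, mul_left_comm, Nat.mul_div_cancel_left _ two_pos]; ring]
    exact Nat.mul_le_mul_left _ (oSp_le _ _)

end O

/-! ### the rings of forms -/

variable (h) in
/-- units and linear automorphisms -/
def unE : h.EBˣ ≃* (V ≃ₗ[K] V) := LinearMap.GeneralLinearGroup.generalLinearEquiv K V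

theorem map_Iso_max (hL : F.L = Lmax _) : F.Iso.map (unE h).toMonoidHom = IsoV h := by
  ext g
  obtain ⟨u, rfl⟩ := (unE h).surjective g
  exact (mem_map_iff_mem (unE h).injective).trans
    ⟨fun k => (h.unit_iff u).1 k.1, fun k => mem_Iso_max hL ((h.unit_iff u).2 k)⟩

theorem map_Iso_O {Q : QuadraticForm K V} (o : IsO h F Q) : F.Iso.map (unE h).toMonoidHom = O Q := by
  ext g
  obtain ⟨u, rfl⟩ := (unE h).surjective g
  exact (mem_map_iff_mem (unE h).injective).trans (SB.Tor.mem_Iso_O o u)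

theorem map_I0_O {Q : QuadraticForm K V} (k : KO h F Q) : (I0 F).map (unE h).toMonoidHom = E Q := by
  rw [map_commutator, map_Iso_O k.o, k.good.commutator_eq_E]

theorem mem_I0_O {Q : QuadraticForm K V} (k : KO h F Q) (u : h.EBˣ) : u ∈ I0 F ↔ unE h u ∈ E Q := by
  rw [← map_I0_O k]
  exact (mem_map_iff_mem (f := (unE h).toMonoidHom) (unE h).injective).symm

theorem card_map_unE (X : Subgroup h.EBˣ) : Nat.card (X.map (unE h).toMonoidHom) = Nat.card X :=
  card_map_of_injective (unE h).injective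

theorem nondeg_of_O {Q : QuadraticForm K V} (o : IsO h F Q) : Nondeg Q :=
  fun x hx => h.nondeg x fun y => by rw [o.2.1, QuadraticMap.polar_comm, hx]

theorem card_Iso_U {q : ℕ} (k : KU h F q) : Nat.card F.Iso = oGU (finrank K V) q := by
  rw [← card_map_unE, map_Iso_max k.L, card_IsoV_U k.u k.card]

theorem card_Iso_Sp {j : ℕ} (k : KSp h F j) : Nat.card F.Iso = oSp j (Fintype.card K) := by
  rw [← card_map_unE, map_Iso_max k.sp.2.2, card_IsoV_Sp k.sp.1 k.sp.2.1 k.dim]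

theorem card_Iso_O {Q : QuadraticForm K V} (o : IsO h F Q) : Nat.card F.Iso = Nat.card (O Q) := by
  rw [← card_map_unE, map_Iso_O o]

theorem card_I0_O {Q : QuadraticForm K V} (k : KO h F Q) : Nat.card (I0 F) = Nat.card (E Q) := by
  rw [← card_map_unE, map_I0_O k]

theorem card_S_U {q : ℕ} (k : KU h F q) :
    Nat.gcd (finrank K V) (q + 1) * ((q + 1) * Nat.card F.S) = oGU (finrank K V) q := by
  obtain ⟨e⟩ := k.iso
  rw [Nat.card_congr e.toEquiv]
  exact S0280.result k.card _ (by have := k.dim; omega)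

theorem card_S_Sp {j : ℕ} (k : KSp h F j) : Nat.gcd 2 (Fintype.card K - 1) * Nat.card F.S = oSp j (Fintype.card K) := by
  obtain ⟨e⟩ := k.iso
  rw [Nat.card_congr e.toEquiv, ← S0246.result rfl j (by have := k.two; omega), oSp, PP, ← S0245.result rfl j]
  exact card_mul_index (center ↥(Matrix.symplecticGroup (Fin j) K))

/-- the three types -/
theorem card_S_O {Q : QuadraticForm K V} (k : KO h F Q) :
    (∃ m, finrank K V = 2 * m + 1 ∧ Odd (Fintype.card K) ∧ 2 * Nat.card F.S = oSp m (Fintype.card K)) ∨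
    (∃ m, finrank K V = 2 * m ∧ H955.IsPlus Q ∧
      Nat.gcd 4 (Fintype.card K ^ m - 1) * Nat.card F.S = oP m (Fintype.card K)) ∨
    ∃ m, finrank K V = 2 * m ∧ ¬ H955.IsPlus Q ∧
      Nat.gcd 4 (Fintype.card K ^ m + 1) * Nat.card F.S = oM m (Fintype.card K) := by
  have h7 := k.dim
  have hQ := nondeg_of_O k.o
  rcases k.iso with ⟨m, h1, h2, ⟨e⟩, -⟩ | ⟨m, h1, ⟨e⟩, f, hf⟩ | ⟨m, a, b, h1, h2, ⟨e⟩, f, hf⟩
  · exact Or.inl ⟨m, h1, h2, by rw [Nat.card_congr e.toEquiv]; exact S0292.result rfl h2 m (by omega)⟩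
  · refine Or.inr (Or.inl ⟨m, h1, ?_, by rw [Nat.card_congr e.toEquiv]; exact S0293.result rfl m (by omega)⟩)
    by_contra hP
    have h3 := card_O_minus hQ (by omega) h1 hP
    rw [← H989.Fx.card_O_congr (Q := plusForm m K) f (fun v => by rw [coe_plusForm, hf]),
      ClassicalGeometry.OrthSemiForms.card_O, coe_plusForm, S0287.result rfl m (by omega), oM, PP, ← mul_assoc,
      ← mul_assoc] at h3
    have h4 : 0 < ∏ i ∈ Finset.range (m - 1), (Fintype.card K ^ (2 * (i + 1)) - 1) :=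
      Finset.prod_pos fun i _ => Nat.sub_pos_of_lt (Nat.one_lt_pow (by omega) Fintype.one_lt_card)
    have h5 := Nat.eq_of_mul_eq_mul_left (by positivity) (Nat.eq_of_mul_eq_mul_right h4 h3)
    omega
  · refine Or.inr (Or.inr ⟨m, h1, fun hP => ?_, by
      rw [Nat.card_congr e.toEquiv]; exact S0294.result rfl m (by omega) a b h2⟩)
    have h3 := card_O_plus hQ (by omega) h1 hP
    rw [← H989.Fx.card_O_congr (Q := minusForm (m - 1) K a b) f (fun v => by rw [coe_minusForm, hf]),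
      ClassicalGeometry.OrthSemiForms.card_O, coe_minusForm, S0288.result rfl m (by omega) a b h2, oP, PP, ← mul_assoc,
      ← mul_assoc] at h3
    have h4 : 0 < ∏ i ∈ Finset.range (m - 1), (Fintype.card K ^ (2 * (i + 1)) - 1) :=
      Finset.prod_pos fun i _ => Nat.sub_pos_of_lt (Nat.one_lt_pow (by omega) Fintype.one_lt_card)
    have h5 := Nat.eq_of_mul_eq_mul_left (by positivity) (Nat.eq_of_mul_eq_mul_right h4 h3)
    omega

theorem card_O_le_I0 {Q : QuadraticForm K V} (k : KO h F Q) : Nat.card (O Q) ≤ 4 * Nat.card (I0 F) := by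
  have : Module.Finite K V := Module.Finite.of_finite
  rw [card_I0_O k]
  exact H450.Ux.card_O_le (nondeg_of_O k.o) (le_trans (by norm_num) k.dim)

theorem card_O_eq_S_two {Q : QuadraticForm K V} (k : KO h F Q) (h2 : Even (Fintype.card K)) :
    Nat.card (O Q) = 2 * Nat.card F.S := by
  have h7 := k.dim
  have hQ := nondeg_of_O k.o
  have h4 : ∀ x, Odd x → Nat.gcd 4 x = 1 := fun x hx =>
    Nat.Coprime.pow_left 2 (Nat.coprime_two_left.2 hx)
  rcases card_S_O k with ⟨m, -, h1, -⟩ | ⟨m, h1, hP, h3⟩ | ⟨m, h1, hP, h3⟩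
  · exact absurd h2 (Nat.not_even_iff_odd.2 h1)
  · rw [h4 _ (Nat.Even.sub_odd (Nat.one_le_pow _ _ Fintype.card_pos) (h2.pow_of_ne_zero (by omega)) odd_one),
      one_mul] at h3
    rw [card_O_plus hQ (by omega) h1 hP, h3]
  · rw [h4 _ ((h2.pow_of_ne_zero (by omega)).add_one), one_mul] at h3
    rw [card_O_minus hQ (by omega) h1 hP, h3]

/-- `|O(Q)| ≥ (5 / 4) q^(n (n - 1) / 2)` -/
theorem card_O_ge {Q : QuadraticForm K V} (hQ : Nondeg Q) (h7 : 7 ≤ finrank K V) :
    5 * Fintype.card K ^ (finrank K V * (finrank K V - 1) / 2) ≤ 4 * Nat.card (O Q) := by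
  obtain ⟨m, hm | hm⟩ := Nat.even_or_odd' (finrank K V)
  · obtain ⟨m, rfl⟩ := Nat.exists_eq_add_of_le' (show 1 ≤ m by omega)
    rw [hm, show 2 * (m + 1) * (2 * (m + 1) - 1) / 2 = 2 * m ^ 2 + 3 * m + 1 by
      rw [show 2 * (m + 1) - 1 = 2 * m + 1 by omega, mul_assoc, Nat.mul_div_cancel_left _ two_pos]; ring]
    have h1 := (card_O_even_le hQ (by omega) hm).1
    have h2 := oP_ge (two_le_q K) (show 3 ≤ m by omega)
    omega
  · rw [card_O_odd hQ hm, hm, show (2 * m + 1) * (2 * m + 1 - 1) / 2 = 2 * m ^ 2 + m by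
      rw [Nat.add_sub_cancel, mul_left_comm, Nat.mul_div_cancel_left _ two_pos]; ring]
    have h2 := oSp_ge' (two_le_q K) m
    omega

/-- the determinant -/
noncomputable def detE (h : HF K V) : h.EBˣ →* Kˣ := Units.map (LinearMap.det : End K V →* K)

theorem detE_val (u : h.EBˣ) : (detE h u : K) = LinearMap.det (h.ap u) := rfl

theorem card_pow_eq_one_le (K : Type) [Field K] {m : ℕ} (hm : 0 < m) : Nat.card {c : Kˣ // c ^ m = 1} ≤ m := by
  have : NeZero m := ⟨hm.ne'⟩
  exact le_trans (le_of_eq (Nat.card_congr (Equiv.refl _))) (card_rootsOfUnity K m)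

/-- the kernel of a character -/
theorem card_le_of_char {G : Type} [Group G] [Finite G] (f : G →* Kˣ) {X Y : Subgroup G} {m : ℕ} (hm : 0 < m)
    (h1 : ∀ u ∈ X, f u ^ m = 1) (h2 : ∀ u ∈ X, f u = 1 → u ∈ Y) : Nat.card X ≤ m * Nat.card Y := by
  rw [← (f.comp X.subtype).ker.index_mul_card, index_ker]
  refine Nat.mul_le_mul (le_trans ?_ (card_pow_eq_one_le K hm)) ?_
  · exact Nat.card_le_card_of_injective (fun c => ⟨c.1, by obtain ⟨u, hu⟩ := c.2; exact hu ▸ h1 u u.2⟩)
      fun _ _ e => Subtype.ext (Subtype.mk.inj e)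
  · exact Nat.card_le_card_of_injective (fun u => ⟨u.1, h2 _ u.1.2 u.2⟩)
      fun _ _ e => Subtype.ext (Subtype.ext (Subtype.mk.inj e))

open SB.Idem in
theorem det_unit {u : h.EBˣ} (hu : (u : h.EB) * star (u : h.EB) = 1) :
    LinearMap.det (h.ap u) * h.τ (LinearMap.det (h.ap u)) = 1 := by
  classical
  have : Module.Finite K V := Module.Finite.of_finite
  let c := Module.finBasis K V
  have h1 : (piB h c u)ᵀ * gram h c * (piB h c u).map h.τ = gram h c :=
    Matrix.ext fun i j => (b_ap_ap h c u i j).symm.trans ((h.unit_iff u).1 hu _ _)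
  have h2 : (gram h c).det ≠ 0 := fun h0 => by
    obtain ⟨x, hx, e⟩ := Matrix.exists_mulVec_eq_zero_iff.2 h0
    have h3 : ∑ i, h.τ (x i) • c i = 0 := h.nondeg _ fun w => by
      rw [← c.sum_repr w, b_sum_left]
      refine Finset.sum_eq_zero fun i _ => mul_eq_zero_of_right _ ?_
      rw [b_sum_right, ← show _ = (0 : K) from congrFun e i]
      exact Finset.sum_congr rfl fun j _ => by rw [h.τ_τ, mul_comm]; rfl
    exact hx (funext fun i => (map_eq_zero h.τ).1 (Fintype.linearIndependent_iff.1 c.linearIndependent _ h3 i))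
  have h4 := congrArg Matrix.det h1
  rw [Matrix.det_mul, Matrix.det_mul, Matrix.det_transpose, ← RingHom.mapMatrix_apply, ← RingHom.map_det, piB_apply,
    LinearMap.det_toMatrix, mul_right_comm] at h4
  exact mul_right_cancel₀ h2 (h4.trans (one_mul _).symm)

theorem det_pow_U {q : ℕ} (k : KU h F q) {u : h.EBˣ} (hu : u ∈ F.Iso) : LinearMap.det (h.ap u) ^ (q + 1) = 1 := by
  rw [pow_succ', ← tau_pow k.u k.card, det_unit hu.1]

/-- `|GU_n(q)| ≤ (q + 1) |SU_n(q)|` -/
theorem card_I0_U {q : ℕ} (k : KU h F q) : oGU (finrank K V) q ≤ (q + 1) * Nat.card (I0 F) := by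
  rw [← card_Iso_U k]
  exact card_le_of_char (detE h) q.succ_pos (fun u hu => Units.ext (det_pow_U k hu))
    fun u hu e => k.mem_comm hu (congrArg Units.val e)

/-! ### central isometries -/

variable (h) in
/-- the scalars -/
def scU : Kˣ →* h.EBˣ := Units.map (algebraMap K (End K V) : K →* End K V)

theorem ap_scU (c : Kˣ) (v : V) : h.ap (scU h c) v = (c : K) • v := rfl

theorem scU_cen (c : Kˣ) : (scU h c : h.EB) ∈ Subring.center h.EB := h.smul_mem_center c

theorem scU_inj [Nontrivial V] : Function.Injective (scU h) := fun c d e => by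
  obtain ⟨v, hv⟩ := exists_ne (0 : V)
  exact Units.ext (smul_left_injective K hv (congrArg (fun u : h.EBˣ => h.ap u v) e))

theorem scU_unit {c : Kˣ} (hc : (c : K) * h.τ c = 1) : (scU h c : h.EB) * star (scU h c : h.EB) = 1 :=
  (h.unit_iff _).2 fun x y => by rw [ap_scU, ap_scU, h.smul_left, h.smul_right, ← mul_assoc, hc, one_mul]

theorem exists_sc_ZI [Nontrivial V] {z : h.EBˣ} (hz : z ∈ ZI F) : ∃ c : Kˣ, z = scU h c ∧ (c : K) * h.τ c = 1 := by
  obtain ⟨c, hc⟩ := SB.Tor.exists_sc h (z := z) (Subring.mem_center_iff.2 fun x => (ZI_comm hz x).symm)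
  obtain ⟨v, hv⟩ := exists_ne (0 : V)
  obtain ⟨w, hw⟩ := h.exists_ne hv
  have h1 := (h.unit_iff z).1 hz.1.1 w v
  rw [hc, hc, h.smul_left, h.smul_right, ← mul_assoc] at h1
  have h2 : c * h.τ c = 1 := mul_right_cancel₀ hw (h1.trans (one_mul _).symm)
  exact ⟨Units.mkOfMulEqOne _ _ h2, Units.ext (h.ap_ext hc), h2⟩

theorem nontrivial_of_dim (h0 : 0 < finrank K V) : Nontrivial V := Module.nontrivial_of_finrank_pos h0

theorem ZI_pow_U {q : ℕ} (k : KU h F q) {z : h.EBˣ} (hz : z ∈ ZI F) : z ^ (q + 1) = 1 := by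
  have := nontrivial_of_dim (K := K) (V := V) (by have := k.dim; omega)
  obtain ⟨c, rfl, hc⟩ := exists_sc_ZI hz
  rw [← map_pow, show c ^ (q + 1) = 1 from Units.ext (by
    rw [Units.val_pow_eq_pow_val, pow_succ', ← tau_pow k.u k.card, hc, Units.val_one]), map_one]

theorem card_ZI_U {q : ℕ} (k : KU h F q) : q + 1 ≤ Nat.card (ZI F) := by
  have := nontrivial_of_dim (K := K) (V := V) (by have := k.dim; omega)
  rw [← ClassicalGeometry.GUBasic.card_rootsOfUnity_eq k.card]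
  exact Nat.card_le_card_of_injective (fun c => ⟨scU h c, mem_ZI (mem_Iso_max k.L (scU_unit (by
    rw [tau_pow k.u k.card, ← pow_succ']; exact congrArg Units.val c.2))) (scU_cen _)⟩)
    fun _ _ e => Subtype.ext (scU_inj (Subtype.mk.inj e))

/-- bilinear forms -/
theorem ZI_cases [Nontrivial V] (hτ : ∀ c, h.τ c = c) {z : h.EBˣ} (hz : z ∈ ZI F) : z = 1 ∨ z = -1 := by
  obtain ⟨c, rfl, hc⟩ := exists_sc_ZI hz
  rw [hτ] at hc
  rcases mul_self_eq_one_iff.1 hc with h1 | h1
  · exact Or.inl (Units.ext (h.ap_ext fun v => by rw [ap_scU, h1, one_smul]; rfl))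
  · exact Or.inr (Units.ext (h.ap_ext fun v => by rw [ap_scU, h1, neg_one_smul]; rfl))

theorem ZI_pow_two [Nontrivial V] (hτ : ∀ c, h.τ c = c) {z : h.EBˣ} (hz : z ∈ ZI F) : z ^ 2 = 1 := by
  rcases ZI_cases hτ hz with rfl | rfl <;> simp only [_root_.one_pow, _root_.even_two, _root_.Even.neg_pow]

theorem neg_one_mem_ZI {A : Type} [Ring A] [StarRing A] (F : FR A) : -1 ∈ ZI F :=
  mem_ZI (FR.mem_Iso_of_cj (by simp) (by rw [cj_eq_one_iff.2 (by simp)]; exact one_mem _)) (by simp)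

theorem card_ZI_two (F : FR h.EB) [Nontrivial V] (h2 : (2 : K) ≠ 0) : 2 ≤ Nat.card (ZI F) := by
  refine Finite.one_lt_card_iff_nontrivial.2 ⟨⟨-1, neg_one_mem_ZI F⟩, 1, fun e => h2 ?_⟩
  obtain ⟨v, hv⟩ := exists_ne (0 : V)
  have h1 : -v = v := congrArg (fun u : ZI F => h.ap (u : h.EBˣ) v) e
  exact (smul_eq_zero_iff_left hv).1 (by rw [two_smul, add_eq_zero_iff_neg_eq, h1])

/-- the order of `u` is prime to the exponent of the group of central isometries -/
theorem cn_mul_le_cop' {A : Type} [Ring A] [StarRing A] [Finite A] {F : FR A} {u : Aˣ} (hu : u ∈ I0 F) {m e : ℕ}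
    (hm : u ^ m = 1) (he : ∀ z ∈ ZI F, z ^ e = 1) (hc : m.Coprime e) : N2.cn (el hu) * Nat.card (ZI F) ≤ cO F u :=
  cn_mul_le_one hu fun z hz v _ k => by
    have h1 : Commute z u := Units.ext (ZI_comm hz u)
    have h2 : (z * u) ^ m = 1 := by
      rw [show z * u = v * u * v⁻¹ by rw [k, mul_inv_cancel_right], conj_pow, hm, mul_one, mul_inv_cancel]
    rw [h1.mul_pow, hm, mul_one] at h2
    exact (pow_eq_one_iff_of_coprime hc).1 ⟨h2, he z hz⟩

/-! ### linear groups -/

section L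

variable {n : ℕ} {F : FR (LR (Fin n) K)}

theorem Iso_L (F : FR (LR (Fin n) K)) : F.Iso = (LR.gl (ι := Fin n) (F := K)).range :=
  Subgroup.ext fun u => ⟨fun k => (LR.mem_gl u).2 k.1,
    fun k => mem_Iso_max (F.L_eq SB.Fld.luL.c_cen LR.half) ((LR.mem_gl u).1 k)⟩

theorem gl_inj : Function.Injective (LR.gl (ι := Fin n) (F := K)) := fun _ _ e =>
  Units.ext (congrArg (fun u : (LR (Fin n) K)ˣ => (u : LR (Fin n) K).1) e)

theorem card_Iso_L (F : FR (LR (Fin n) K)) : Nat.card F.Iso = oGL n (Fintype.card K) := by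
  rw [Iso_L, ← card_GL]
  exact (Nat.card_congr (MonoidHom.ofInjective gl_inj).toEquiv).symm

theorem card_S_L (k : KL F) :
    Nat.gcd n (Fintype.card K - 1) * ((Fintype.card K - 1) * Nat.card F.S) = oGL n (Fintype.card K) := by
  obtain ⟨e⟩ := k.iso
  rw [Nat.card_congr e.toEquiv, ← prod_eq_oGL]
  exact S0243.result rfl n (by have := k.dim; omega)

/-- the determinant -/
noncomputable def detL (n : ℕ) (K : Type) [Field K] : (LR (Fin n) K)ˣ →* Kˣ :=
  Units.map ((LinearMap.det : End K (Fin n → K) →* K).comp (prL n K : LR (Fin n) K →* End K (Fin n → K)))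

theorem detL_val (u : (LR (Fin n) K)ˣ) : (detL n K u : K) = LinearMap.det (prL n K u) := rfl

/-- `|GL_n(q)| ≤ (q - 1) |SL_n(q)|` -/
theorem card_I0_L (k : KL F) : oGL n (Fintype.card K) ≤ (Fintype.card K - 1) * Nat.card (I0 F) := by
  rw [← card_Iso_L F]
  exact card_le_of_char (detL n K) (Nat.sub_pos_of_lt Fintype.one_lt_card)
    (fun u _ => Units.ext (FiniteField.pow_card_sub_one_eq_one _ (Units.ne_zero _)))
    fun u hu e => k.mem_comm hu (congrArg Units.val e)

theorem ZI_pow_L {z : (LR (Fin n) K)ˣ} (hz : z ∈ ZI F) : z ^ (Fintype.card K - 1) = 1 := by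
  obtain ⟨g, rfl⟩ := (Iso_L F).le hz.1
  obtain ⟨y, hy⟩ : (g : Matrix (Fin n) (Fin n) K) ∈ Set.range (Matrix.scalar (Fin n)) :=
    Matrix.mem_range_scalar_iff_commute_single'.2 fun i j =>
      (congrArg Prod.fst (ZI_comm hz (LR.mk (Matrix.single i j 1) 0))).symm
  rw [← map_pow, show g ^ (Fintype.card K - 1) = 1 from ?_, map_one]
  rcases Nat.eq_zero_or_pos n with rfl | hn
  · exact Subsingleton.elim _ _
  have : Nonempty (Fin n) := ⟨⟨0, hn⟩⟩
  refine Units.ext ?_
  rw [Units.val_pow_eq_pow_val, ← hy, ← map_pow, FiniteField.pow_card_sub_one_eq_one _ fun h0 => g.ne_zero (by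
    rw [← hy, h0, map_zero]), map_one, Units.val_one]

theorem card_ZI_L (F : FR (LR (Fin n) K)) (hn : 0 < n) : Fintype.card K - 1 ≤ Nat.card (ZI F) := by
  classical
  have : Nonempty (Fin n) := ⟨⟨0, hn⟩⟩
  let s : Kˣ →* GL (Fin n) K := Units.map (Matrix.scalar (α := K) (Fin n)).toMonoidHom
  rw [← Fintype.card_units, ← Nat.card_eq_fintype_card]
  refine Nat.card_le_card_of_injective (fun c => ⟨LR.gl (s c), mem_ZI ((Iso_L F).ge ⟨_, rfl⟩) ?_⟩)
    fun _ _ e => Units.ext (Matrix.scalar_inj.1 (congrArg Units.val (gl_inj (Subtype.mk.inj e))))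
  refine Subring.mem_center_iff.2 fun x => Prod.ext (Matrix.scalar_commute (c : K) (fun _ => .all _ _) x.1).symm ?_
  change x.2 * (Matrix.scalar (Fin n) ((c⁻¹ : Kˣ) : K))ᵀ = (Matrix.scalar (Fin n) ((c⁻¹ : Kˣ) : K))ᵀ * x.2
  rw [Matrix.scalar_apply, Matrix.diagonal_transpose]
  exact (Matrix.scalar_commute _ (fun _ => .all _ _) x.2).symm

end L

end Cfsg.Agent.N2C.Cyc
end

private theorem dce_04a9a74fcab5 : _root_.True := by
  try have : _root_.True := by simp only [_root_.Cfsg.Agent.N2C.Cyc.cI.eq_1]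
  try have : _root_.True := by simp only [_root_.Cfsg.Agent.N2.cn.eq_1]
  try have : _root_.True := by simp only [_root_.Cfsg.Agent.H989.Fx.PP.eq_1]
  exact _root_.True.intro
end

-- part: N2/Cl/Cyc/Vec
section
prune_inst 0x4347041407d4000000018809061001c22b2000002004b04002482010605c88c0084430a20b630010618a2104448380468111000000240000000000400011f00800080100400000008400000000000000000000000000000000000000000000000000000000
set_option linter.all false
open scoped Cfsg.Agent.FastGrp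

/-!
# N2 (S3519), classical socles: isometries with a cyclic vector (helper58)

* `CycV g`, constructors `cycV_of_irr`, `cycV_of_minpoly`, `cycV_of_two`, `orb_add`;
* `cO_le_L` (`q^n - 1`), `cU_le_U` (`(q + 1)^n`), `cU_le_bil` (`2^s (q + 1)^(n / 2)`), `cU_le_irr_U`, `cU_le_irr_bil`;
* blocks: `cU_le_mul`, `cO_le_O_mul`, `cU_le_IsoV`.
-/

set_option autoImplicit false
set_option linter.unusedSectionVars false

namespace Cfsg.Agent.N2C.Cyc

open Subgroup Module Polynomial Cfsg.Agent.DS.Cl Cfsg.Agent.DS.Cl.Fwd Cfsg.Agent.SB.Cl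
open Cfsg.Agent.SB.Fld (prL)
open Cfsg.Agent.LieClassical.OrthCore (O)

section lin

variable {K V : Type} [Field K] [AddCommGroup V] [Module K V] {g : End K V}

/-- `g` has a cyclic vector -/
def CycV (g : End K V) : Prop := ∃ v, ∀ x, ∃ f : K[X], aeval g f v = x

/-- `g` is irreducible -/
def IrrV (g : End K V) : Prop := ∀ W : Submodule K V, (∀ w ∈ W, g w ∈ W) → W = ⊥ ∨ W = ⊤

theorem aeval_comm {x : End K V} (hx : x * g = g * x) (f : K[X]) : x * aeval g f = aeval g f * x :=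
  Algebra.commute_of_mem_adjoin_singleton_of_commute (aeval_mem_adjoin_singleton K g) hx

theorem aeval_mul_apply (g : End K V) (f f' : K[X]) (v : V) : aeval g (f * f') v = aeval g f (aeval g f' v) := by
  rw [map_mul, End.mul_apply]

/-- the kernel of a polynomial in `g` is invariant under the centraliser -/
theorem ker_inv {x : End K V} (hx : x * g = g * x) (f : K[X]) {v : V} (hv : aeval g f v = 0) : aeval g f (x v) = 0 := by
  rw [← End.mul_apply, ← aeval_comm hx, End.mul_apply, hv, map_zero]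

/-- the cyclic submodule -/
def orb (g : End K V) (v : V) : Submodule K V where
  carrier := {x | ∃ f : K[X], aeval g f v = x}
  zero_mem' := ⟨0, by simp⟩
  add_mem' := by
    rintro _ _ ⟨f, rfl⟩ ⟨f', rfl⟩
    exact ⟨f + f', by simp⟩
  smul_mem' := by
    rintro c _ ⟨f, rfl⟩
    exact ⟨c • f, by simp⟩

theorem self_mem_orb (g : End K V) (v : V) : v ∈ orb g v := ⟨1, by simp⟩

theorem map_mem_orb {v x : V} (hx : x ∈ orb g v) : g x ∈ orb g v := by
  obtain ⟨f, rfl⟩ := hx
  exact ⟨X * f, by rw [aeval_mul_apply, aeval_X]⟩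

theorem pow_mem_orb (g : End K V) (v : V) (i : ℕ) : (g ^ i) v ∈ orb g v := ⟨X ^ i, by simp⟩

theorem orb_le {v w : V} (hw : w ∈ orb g v) : orb g w ≤ orb g v := by
  obtain ⟨f, rfl⟩ := hw
  rintro _ ⟨f', rfl⟩
  exact ⟨f' * f, aeval_mul_apply _ _ _ _⟩

theorem cycV_iff : CycV g ↔ ∃ v, orb g v = ⊤ := exists_congr fun v => (Submodule.eq_top_iff' (p := orb g v)).symm

/-- vectors with coprime annihilators -/
theorem orb_add {v w : V} {f f' : K[X]} (hc : IsCoprime f f') (hv : aeval g f v = 0) (hw : aeval g f' w = 0) :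
    orb g v ⊔ orb g w ≤ orb g (v + w) ∧ aeval g (f * f') (v + w) = 0 := by
  obtain ⟨a, b, hab⟩ := hc
  have h1 : ∀ x, aeval g a (aeval g f x) + aeval g b (aeval g f' x) = x := fun x => by
    rw [← aeval_mul_apply, ← aeval_mul_apply, ← LinearMap.add_apply, ← map_add, hab, map_one, End.one_apply]
  refine ⟨sup_le (orb_le ⟨b * f', ?_⟩) (orb_le ⟨a * f, ?_⟩), ?_⟩
  · simpa only [aeval_mul_apply, map_add, hv, hw, map_zero, zero_add, add_zero] using h1 v
  · simpa only [aeval_mul_apply, map_add, hv, hw, map_zero, zero_add, add_zero] using h1 w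
  · rw [map_add, aeval_mul_apply g f f' w, hw, map_zero, add_zero, mul_comm, aeval_mul_apply, hv, map_zero]

theorem cycV_of_two {v w : V} {f f' : K[X]} (hc : IsCoprime f f') (hv : aeval g f v = 0) (hw : aeval g f' w = 0)
    (h : orb g v ⊔ orb g w = ⊤) : CycV g := cycV_iff.2 ⟨v + w, top_unique (h.ge.trans (orb_add hc hv hw).1)⟩

theorem cycV_of_irr (h : IrrV g) : CycV g := by
  rcases subsingleton_or_nontrivial V with _ | _
  · exact ⟨0, fun x => ⟨0, Subsingleton.elim _ _⟩⟩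
  obtain ⟨v, hv⟩ := exists_ne (0 : V)
  exact cycV_iff.2 ⟨v, (h _ fun _ => map_mem_orb).resolve_left fun e => hv (e.le (self_mem_orb g v))⟩

/-- the minimal polynomial has the largest possible degree -/
theorem cycV_of_minpoly [Module.Finite K V] (h : finrank K V ≤ (minpoly K g).natDegree) : CycV g := by
  obtain ⟨v, hv⟩ := Module.exists_ker_toSpanSingleton_eq_annihilator (R := K[X]) (M := AEval' g)
  let w : V := (AEval'.of g).symm v
  have h1 : ∀ f : K[X], aeval g f w = 0 → minpoly K g ∣ f := fun f hf => by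
    have h2 : f ∈ Module.annihilator K[X] (AEval' g) := hv.le (show f • v = 0 from hf)
    exact minpoly.dvd K g (LinearMap.ext fun x => Module.mem_annihilator.1 h2 (AEval'.of g x))
  refine cycV_iff.2 ⟨w, Submodule.eq_top_of_finrank_eq (le_antisymm (Submodule.finrank_le _) ?_)⟩
  have h3 : LinearIndependent K fun i : Fin (finrank K V) => (⟨(g ^ (i : ℕ)) w, pow_mem_orb g w i⟩ : orb g w) := by
    refine Fintype.linearIndependent_iff.2 fun c hc i => ?_
    have h4 := h1 (∑ j : Fin (finrank K V), C (c j) * X ^ (j : ℕ)) (by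
      simpa only [Algebra.algebraMap_eq_smul_one, _root_.map_sum, _root_.map_mul, _root_.Polynomial.aeval_C, _root_.map_pow, _root_.Polynomial.aeval_X, _root_.Algebra.smul_mul_assoc, _root_.one_mul, _root_.LinearMap.coe_sum, _root_.LinearMap.coe_smul, _root_.Finset.sum_apply, _root_.Pi.smul_apply, _root_.SetLike.mk_smul_mk, _root_.AddSubmonoidClass.coe_finsetSum, _root_.ZeroMemClass.coe_zero] using congrArg Subtype.val hc)
    have h5 : (∑ j : Fin (finrank K V), C (c j) * X ^ (j : ℕ) : K[X]) = 0 :=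
      eq_zero_of_dvd_of_degree_lt h4 ((degree_sum_fin_lt c).trans_le (by
        rw [degree_eq_natDegree (minpoly.ne_zero (LinearMap.isIntegral g))]
        exact_mod_cast h))
    simpa only [coeff_X_pow, Fin.val_inj, _root_.Polynomial.finsetSum_coeff, _root_.Polynomial.coeff_C_mul, _root_.mul_ite, _root_.mul_one, _root_.MulZeroClass.mul_zero, _root_.Finset.sum_ite_eq, _root_.Finset.mem_univ, ↓ _root_.reduceIte, _root_.Polynomial.coeff_zero] using congrArg (coeff · i) h5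
  simpa only [_root_.ge_iff_le, _root_.Fintype.card_fin] using h3.fintype_card_le_finrank

theorem CycV.exists_poly (hg : CycV g) {x : End K V} (hx : x * g = g * x) : ∃ f : K[X], x = aeval g f := by
  obtain ⟨v, hv⟩ := hg
  obtain ⟨f, hf⟩ := hv (x v)
  refine ⟨f, LinearMap.ext fun w => ?_⟩
  obtain ⟨f', rfl⟩ := hv w
  rw [← End.mul_apply, aeval_comm hx, End.mul_apply, ← hf, ← aeval_mul_apply, mul_comm, aeval_mul_apply]

theorem CycV.comm (hg : CycV g) {x y : End K V} (hx : x * g = g * x) (hy : y * g = g * y) : x * y = y * x := by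
  obtain ⟨f, rfl⟩ := hg.exists_poly hy
  exact aeval_comm hx f

theorem CycV.inj (hg : CycV g) : ∃ v, ∀ x y : End K V, x * g = g * x → y * g = g * y → x v = y v → x = y := by
  obtain ⟨v, hv⟩ := hg
  refine ⟨v, fun x y hx hy e => LinearMap.ext fun w => ?_⟩
  obtain ⟨f, rfl⟩ := hv w
  rw [← End.mul_apply, aeval_comm hx, ← End.mul_apply y, aeval_comm hy, End.mul_apply, End.mul_apply, e]

theorem IrrV.isUnit [Module.Finite K V] (h : IrrV g) {x : End K V} (hx : x * g = g * x) (h0 : x ≠ 0) : IsUnit x :=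
  (LinearMap.isUnit_iff_ker_eq_bot x).2 ((h _ fun w hw => by
    rw [LinearMap.mem_ker, ← End.mul_apply, hx, End.mul_apply, LinearMap.mem_ker.1 hw, map_zero]).resolve_right
      fun e => h0 (LinearMap.ker_eq_top.1 e))

end lin

/-- the centraliser is a field with at most `ν²` elements and a non-trivial involution -/
theorem cU_le_field' {A : Type} [Ring A] [StarRing A] [Finite A] {u : A} (hu : u * star u = 1) (h : IsCyc u)
    (hf : ∀ x : A, x * u = u * x → x ≠ 0 → IsUnit x) {y : A} (hy : y * u = u * y) (hy' : star y ≠ y) {ν : ℕ}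
    (hν : cA u ≤ ν ^ 2) : cU u ≤ ν + 1 := by
  have h1 : (y - star y) * u = u * (y - star y) := by
    rw [sub_mul, mul_sub, hy, star_comm hu (mul_eq_one_comm.1 hu) hy]
  have h2 := hf _ h1 (sub_ne_zero.2 hy'.symm)
  obtain ⟨w, hw⟩ := Cn.isUnit (h := h) (x := Cn.mk h _ h1) h2
  have h3 : Cn.sg h hu w = -w := Cn.val_inj (by
    rw [Cn.val_sg, map_neg, hw]
    exact (star_sub _ _).trans (by rw [star_star]; exact (neg_sub _ _).symm))
  have h4 : Cn.sg h hu (w⁻¹ : (Cn h)ˣ) = -(w⁻¹ : (Cn h)ˣ) := by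
    rw [← Units.mul_right_inj w, mul_neg, Units.mul_inv, ← neg_eq_iff_eq_neg, ← neg_mul, ← h3, ← map_mul, Units.mul_inv,
      map_one]
  have h5 : Cn.mk h y hy * (w⁻¹ : (Cn h)ˣ) + Cn.sg h hu (Cn.mk h y hy * (w⁻¹ : (Cn h)ˣ)) = 1 := by
    rw [map_mul, h4, mul_neg, ← sub_eq_add_neg, ← sub_mul, Units.mul_inv_eq_one, hw]
    rfl
  refine (cU_le_field hu h hf hy hy').trans (Nat.succ_le_succ ((Nat.pow_le_pow_iff_left two_ne_zero).1 (le_trans ?_ hν)))
  exact cS_sq_le_unit hu h (Cn.comm (Cn.mk h y hy * ((w⁻¹ : (Cn h)ˣ) : Cn h))) (congrArg Cn.val h5) h1 (by rw [star_sub, star_star, neg_sub]) h2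

variable {K V : Type} [Field K] [Fintype K] [AddCommGroup V] [Module K V] [Finite V]

theorem card_V (K V : Type) [Field K] [Fintype K] [AddCommGroup V] [Module K V] [Finite V] :
    Nat.card V = Fintype.card K ^ finrank K V := by
  have : Module.Finite K V := Module.Finite.of_finite
  rw [Module.natCard_eq_pow_finrank (K := K), Nat.card_eq_fintype_card]

theorem CycV.card_le {g : End K V} (hg : CycV g) :
    Nat.card {x : End K V // x * g = g * x} ≤ Fintype.card K ^ finrank K V := by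
  obtain ⟨v, hv⟩ := hg.inj
  rw [← card_V]
  exact Nat.card_le_card_of_injective (fun x => x.1 v) fun x y e => Subtype.ext (hv _ _ x.2 y.2 e)

/-- **linear groups** -/
theorem cO_le_L {n : ℕ} (hn : 0 < n) (F : FR (LR (Fin n) K)) {u : (LR (Fin n) K)ˣ} (hu : CycV (prL n K u)) :
    cO F u ≤ Fintype.card K ^ n - 1 := by
  classical
  have : Nonempty (Fin n) := ⟨⟨0, hn⟩⟩
  obtain ⟨v, hv⟩ := hu.inj
  have h1 : ∀ x : (LR (Fin n) K)ˣ, x * u = u * x → prL n K x * prL n K u = prL n K u * prL n K x := fun x hx => by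
    rw [← map_mul, ← map_mul, ← Units.val_mul, hx, Units.val_mul]
  have h2 : Nat.card {w : Fin n → K // w ≠ 0} = Fintype.card K ^ n - 1 := by
    simp only [Fintype.card_subtype_compl, _root_.ne_eq, _root_.Nat.card_eq_fintype_card, _root_.Fintype.card_pi, _root_.Finset.prod_const, _root_.Finset.card_univ, _root_.Fintype.card_fin, _root_.Fintype.card_unique]
  rw [← h2]
  refine Nat.card_le_card_of_injective (fun x => ⟨prL n K x.1 v, fun e => ?_⟩) fun x y e => Subtype.ext ?_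
  · exact ((Units.isUnit x.1).map (prL n K)).ne_zero (hv _ 0 (h1 _ x.2.2) (by simp) e)
  · obtain ⟨a, ha⟩ := (Iso_L F).le x.2.1
    obtain ⟨b, hb⟩ := (Iso_L F).le y.2.1
    have h3 := hv _ _ (h1 _ x.2.2) (h1 _ y.2.2) (Subtype.mk.inj e)
    rw [← ha, ← hb] at h3 ⊢
    exact congrArg _ (Units.ext (Matrix.toLinAlgEquiv'.injective h3))

variable {h : HF K V} {u : h.EB}

theorem CycV.isCyc (hu : CycV (h.ap u)) : IsCyc u := fun _ _ hx hy => hu.comm hx hy

theorem CycV.cA_le (hu : CycV (h.ap u)) : cA u ≤ Fintype.card K ^ finrank K V := hu.card_le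

theorem sc_comm (c : K) (x : h.EB) : h.eb (c • 1) * x = x * h.eb (c • 1) :=
  (Subring.mem_center_iff.1 (h.smul_mem_center c) x).symm

theorem sc_star (c : K) : star (h.eb (c • 1)) = h.eb (h.τ c • 1) := h.ap_ext fun y => h.ext_right fun x => by
  rw [h.b_star]
  exact (h.smul_left c x y).trans (by
    change _ = h.b x (h.τ c • y)
    rw [h.smul_right, h.τ_τ])

theorem sc_unit {c d : K} (hcd : c ≠ d) : IsUnit (h.eb (c • 1) - h.eb (d • 1)) :=
  IsUnit.of_mul_eq_one (h.eb ((c - d)⁻¹ • 1)) (h.ap_ext fun v => by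
    change c • (c - d)⁻¹ • v - d • (c - d)⁻¹ • v = v
    rw [← sub_smul, smul_smul, mul_inv_cancel₀ (sub_ne_zero.2 hcd), one_smul])

/-- **unitary groups** -/
theorem cU_le_U (hU : IsU h) {q : ℕ} (hq : Fintype.card K = q ^ 2) (hu : u * star u = 1) (hc : CycV (h.ap u)) :
    cU u ≤ (q + 1) ^ finrank K V := by
  obtain ⟨θ, hθ⟩ := hU.2
  have l := SB.Fld.luU h hθ
  have h1 := LieClassical.HermBasic.card_fixed hq
  have h2 := cU_le_unit hu hc.isCyc (Subring.mem_center_iff.1 l.c_cen u).symm l.c_add (sc_comm θ u) l.θ_unit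
    (fun c : {x : K // x ^ q = x} => h.eb (c.1 • 1)) (fun c => sc_comm _ u) (fun c => by rw [sc_star, tau_pow hU hq, c.2])
    (fun c d hcd => sc_unit fun e => hcd (Subtype.ext e)) (ν := finrank K V)
    (by rw [h1]; exact ClassicalGeometry.GUBasic.two_le hq) (by rw [h1, ← pow_mul, mul_comm, pow_mul, ← hq]; exact hc.cA_le)
  rwa [h1] at h2

/-- the skew elements form a subspace -/
theorem cS_le_of_sq (hτ : ∀ c, h.τ c = c) {n : ℕ} (H : cS u ^ 2 ≤ Fintype.card K ^ n) :
    cS u ≤ Fintype.card K ^ (n / 2) := by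
  let W : Submodule K (End K V) :=
    { carrier := {x | star (h.eb x) = -h.eb x ∧ h.eb x * u = u * h.eb x}
      zero_mem' := ⟨(star_zero h.EB).trans neg_zero.symm, (zero_mul u).trans (mul_zero u).symm⟩
      add_mem' := fun {a b} ha hb => ⟨(star_add (h.eb a) (h.eb b)).trans (by rw [ha.1, hb.1]; exact (neg_add _ _).symm),
        (add_mul (h.eb a) (h.eb b) u).trans (by rw [ha.2, hb.2]; exact (mul_add _ _ _).symm)⟩
      smul_mem' := fun c a ha => ⟨by rw [h.eb_smul, star_mul, ha.1, sc_star, hτ, sc_comm, neg_mul],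
        by rw [h.eb_smul, mul_assoc, ha.2, ← mul_assoc, sc_comm, mul_assoc]⟩ }
  have : Finite (End K V) := inferInstanceAs (Finite h.EB)
  have h1 : cS u = Fintype.card K ^ finrank K W := card_V K W
  rw [h1, ← pow_mul, Nat.pow_le_pow_iff_right Fintype.one_lt_card] at H
  rw [h1]
  exact Nat.pow_le_pow_right Fintype.card_pos (by omega)

/-- the scalars of the centraliser -/
def scC (hc : IsCyc u) : K →+* Cn hc where
  toFun c := Cn.mk hc (h.eb (c • 1)) (sc_comm c u)
  map_one' := Cn.val_inj (one_smul K (1 : End K V))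
  map_mul' c d := Cn.val_inj (h.ap_ext fun v => mul_smul c d v)
  map_zero' := Cn.val_inj (zero_smul K (1 : End K V))
  map_add' c d := Cn.val_inj (add_smul c d (1 : End K V))

theorem CycV.eval (hc : CycV (h.ap u)) (x : Cn hc.isCyc) : ∃ f : K[X], x = f.eval₂ (scC hc.isCyc) (Cn.mk _ u rfl) := by
  obtain ⟨f, hf⟩ := hc.exists_poly (x := h.ap (Cn.val x)) x.comm
  refine ⟨f, Cn.val_inj ?_⟩
  rw [hom_eval₂]
  exact hf

/-- **symplectic and orthogonal groups**.  `c` : `exists_tr_of_unit`, `exists_tr_of_two`, `exists_tr_of_pow`;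
`S` contains the eigenvalues `1`, `-1` of `u` -/
theorem cU_le_bil (hτ : ∀ c, h.τ c = c) (hu : u * star u = 1) (hc : CycV (h.ap u)) {c : h.EB} (h1 : c * u = u * c)
    (h2 : c + star c = 1) (S : Finset K) (hS : ∀ ε : K, ε = 1 ∨ ε = -1 → ¬ IsUnit (u - h.eb (ε • 1)) → ε ∈ S) :
    cU u ≤ 2 ^ S.card * (Fintype.card K + 1) ^ (finrank K V / 2) := by
  classical
  let a : Cn hc.isCyc := Cn.mk _ u rfl
  have ha : a * Cn.sg hc.isCyc hu a = 1 := Cn.val_inj hu
  have h3 : ∀ k, Cn.sg hc.isCyc hu (scC hc.isCyc k) = scC hc.isCyc k := fun k => Cn.val_inj ((sc_star k).trans (by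
    rw [hτ]; rfl))
  have h4 : cS u ^ 2 ≤ cA u := by
    rw [cS_eq hc.isCyc hu, cA_eq hc.isCyc]
    refine N2.Cy.sk_sq_le_gen (c := Cn.mk _ c h1) (Cn.sg_sg _ hu) (Cn.val_inj h2) ha fun P k1 k2 => top_unique fun x _ => ?_
    obtain ⟨f, rfl⟩ := hc.eval x
    rw [eval₂_eq_sum_range]
    exact sum_mem fun i _ => mul_mem (k1 _ (h3 _)) (pow_mem k2 _)
  have h5 := cU_le hu hc.isCyc h1 h2 (fun k : K => h.eb (k • 1)) (fun k => sc_comm k u) (fun k => by rw [sc_star, hτ])
    (fun _ _ => sc_unit) (S.image fun ε => Ideal.span {a - scC _ ε}) (fun M hM k => ?_) (ν := finrank K V / 2)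
    (by rw [Nat.card_eq_fintype_card]; exact two_le_q K)
    (by rw [Nat.card_eq_fintype_card]; exact cS_le_of_sq hτ (h4.trans hc.cA_le))
  · rw [Nat.card_eq_fintype_card] at h5
    exact h5.trans (Nat.mul_le_mul_right _ (Nat.pow_le_pow_right two_pos Finset.card_image_le))
  obtain ⟨ε, e1, e2⟩ : ∃ ε : K, (ε = 1 ∨ ε = -1) ∧ a - scC _ ε ∈ M := by
    rcases N2.Cy.triv_cases ha hM k with e | e
    · exact ⟨1, Or.inl rfl, by rwa [map_one]⟩
    · exact ⟨-1, Or.inr rfl, by rwa [map_neg, map_one, sub_neg_eq_add]⟩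
  refine Finset.mem_image.2 ⟨ε, hS ε e1 fun e => hM.ne_top (M.eq_top_of_isUnit_mem e2 (Cn.isUnit e)),
    (N2.Cy.eq_span (fun x => ?_) hM e2).symm⟩
  obtain ⟨f, rfl⟩ := hc.eval x
  refine ⟨scC _ (f.eval ε), (eq_or_ne (f.eval ε) 0).imp (fun e => by rw [e, map_zero]) fun e => (IsUnit.mk0 _ e).map _, ?_⟩
  rw [Ideal.mem_span_singleton, ← eval₂_at_apply, eval₂_eq_eval_map, eval₂_eq_eval_map]
  exact sub_dvd_eval_sub _ _ _

theorem cU_le_bil_four (hτ : ∀ c, h.τ c = c) (hu : u * star u = 1) (hc : CycV (h.ap u)) {c : h.EB} (h1 : c * u = u * c)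
    (h2 : c + star c = 1) : cU u ≤ 4 * (Fintype.card K + 1) ^ (finrank K V / 2) := by
  classical
  exact (cU_le_bil hτ hu hc h1 h2 {1, -1} fun ε e _ => by simpa using e).trans
    (Nat.mul_le_mul_right _ (Nat.pow_le_pow_right two_pos Finset.card_le_two))

/-- no eigenvalue `1`, `-1` -/
theorem cU_le_bil_one (hτ : ∀ c, h.τ c = c) (hu : u * star u = 1) (hc : CycV (h.ap u)) (h1 : IsUnit (u - 1))
    (h1' : IsUnit (u + 1)) : cU u ≤ (Fintype.card K + 1) ^ (finrank K V / 2) := by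
  obtain ⟨c, h2, h3⟩ := exists_tr_of_unit hu h1
  rw [← one_mul (_ ^ _)]
  refine cU_le_bil hτ hu hc h2 h3 ∅ fun ε e k => (k ?_).elim
  rcases e with rfl | rfl
  · rwa [one_smul]
  · rw [neg_smul, one_smul]
    exact sub_neg_eq_add u 1 ▸ h1'

/-- an irreducible isometry which is not an involution -/
theorem cU_le_irr_bil (hτ : ∀ c, h.τ c = c) (hu : u * star u = 1) (hc : IrrV (h.ap u)) (h2 : u * u ≠ 1) :
    cU u ≤ Fintype.card K ^ (finrank K V / 2) + 1 := by
  have : Module.Finite K V := Module.Finite.of_finite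
  have h0 := cycV_of_irr hc
  have h1 : star u ≠ u := fun e => h2 (by rwa [e] at hu)
  have h3 : IsUnit (u - 1) := hc.isUnit (x := h.ap (u - 1))
    (show (u - 1) * u = u * (u - 1) by rw [sub_mul, mul_sub, one_mul, mul_one])
    fun e => h2 (by rw [sub_eq_zero.1 (show u - 1 = 0 from e), mul_one])
  obtain ⟨c, h4, h5⟩ := exists_tr_of_unit hu h3
  have h6 : (u - star u) * u = u * (u - star u) := by rw [sub_mul, mul_sub, hu, mul_eq_one_comm.1 hu]
  exact (cU_le_field hu h0.isCyc (fun x hx => hc.isUnit hx) rfl h1).trans (Nat.succ_le_succ (cS_le_of_sq hτ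
    ((cS_sq_le_unit hu h0.isCyc h4 h5 h6 (by rw [star_sub, star_star, neg_sub])
      (hc.isUnit h6 (sub_ne_zero.2 h1.symm))).trans h0.cA_le)))

/-! ### blocks -/

theorem b_of_unit {x : h.EB} (hx : x * star x = 1) (v w : V) : h.b (h.ap x v) (h.ap x w) = h.b v w := by
  rw [← h.b_star, ← h.ap_mul, mul_eq_one_comm.1 hx, h.ap_one]

/-- the restriction to an invariant non-degenerate subspace -/
def rs {W : Submodule K V} (hW : ∀ v ∈ W, (∀ w ∈ W, h.b w v = 0) → v = 0) (x : h.EB) (hx : ∀ v ∈ W, h.ap x v ∈ W) :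
    (res h W hW).EB := (res h W hW).eb ((h.ap x).restrict hx)

theorem rs_unit {W : Submodule K V} (hW : ∀ v ∈ W, (∀ w ∈ W, h.b w v = 0) → v = 0) {x : h.EB}
    (hx : ∀ v ∈ W, h.ap x v ∈ W) (hu : x * star x = 1) : rs hW x hx * star (rs hW x hx) = 1 :=
  SB.Idem.mul_star_of_b _ fun v w => b_of_unit hu v w

theorem eq_of_sup {W W' : Submodule K V} (hs : W ⊔ W' = ⊤) {x y : h.EB} (h1 : ∀ v ∈ W, h.ap x v = h.ap y v)
    (h2 : ∀ v ∈ W', h.ap x v = h.ap y v) : x = y := h.ap_ext fun v => by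
  obtain ⟨a, ha, b, hb, rfl⟩ := Submodule.mem_sup.1 (hs.ge (Submodule.mem_top (x := v)))
  rw [map_add, map_add, h1 a ha, h2 b hb]

/-- the same with the orthogonal group of the first block -/
theorem cO_le_O_mul {F : FR h.EB} {Q : QuadraticForm K V} (o : IsO h F Q) {u : h.EBˣ} {W W' : Submodule K V}
    (hW' : ∀ v ∈ W', (∀ w ∈ W', h.b w v = 0) → v = 0) (hs : W ⊔ W' = ⊤)
    (h1 : ∀ x : h.EB, x * u = u * x → ∀ v ∈ W, h.ap x v ∈ W) (h2 : ∀ x : h.EB, x * u = u * x → ∀ v ∈ W', h.ap x v ∈ W') :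
    cO F u ≤ Nat.card (O (Q.comp W.subtype)) * cU (rs hW' u (h2 u rfl)) := by
  have : Module.Finite K W := Module.Finite.of_finite
  have : Finite (W ≃ₗ[K] W) := Finite.of_injective _ DFunLike.coe_injective
  rw [cO, cU, ← Nat.card_prod]
  exact Nat.card_le_card_of_injective (fun x => (⟨LinearEquiv.ofInjectiveEndo
      ((h.ap x.1).restrict (h1 _ (congrArg Units.val x.2.2))) fun a b e =>
        Subtype.ext ((unE h x.1).injective (congrArg Subtype.val e)), fun v => (SB.Tor.mem_Iso_O o _).1 x.2.1 v⟩,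
    ⟨rs hW' x.1 (h2 _ (congrArg Units.val x.2.2)), rs_unit hW' _ x.2.1.1,
      (res h W' hW').ap_ext fun v => Subtype.ext (congrArg (fun y : h.EBˣ => h.ap y v) x.2.2)⟩))
    fun x y e => Subtype.ext (Units.ext (eq_of_sup hs
      (fun v hv => congrArg (fun z => (z.1.1 ⟨v, hv⟩ : V)) e)
      fun v hv => congrArg (fun z => ((res h W' hW').ap z ⟨v, hv⟩ : V)) (Subtype.mk.inj (Prod.mk.inj e).2)))

end Cfsg.Agent.N2C.Cyc

private theorem dce_218158ce5994 : _root_.True := by
  try have : _root_.True := by simp only [_root_.Cfsg.Agent.N2C.Cyc.cO.eq_1]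
  try have : _root_.True := by simp only [_root_.Cfsg.Agent.N2C.Cyc.cU.eq_1]
  exact _root_.True.intro
end

-- part: N2/Cl/RX/Defs
section
set_option linter.all false
open scoped Cfsg.Agent.FastGrp

/-!
# N2 (S3519), class S with alternating, sporadic or cross characteristic socle: interface (helper85)

`Rp` collects everything that the sieve uses of the ring frame.  See `notes/N2/classS-x.md`.
-/

set_option autoImplicit false

namespace Cfsg.Agent.N2C.RX

open Cfsg Cfsg.Geo Subgroup Cfsg.Agent.DS.Cl Cfsg.Agent.N2C.Cyc Cfsg.Agent.H915.LD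
open Cfsg.Agent.N2 (Cf Fam)

/-- the kinds: linear, unitary, symplectic, orthogonal (odd dimension, plus type, minus type) -/
inductive Kd
  | L | U | S | O | P | M
  deriving DecidableEq

/-- the number of scalar isometries -/
def zz : Kd → ℕ → ℕ
  | .L, q => q - 1
  | .U, q => q + 1
  | _, q => Nat.gcd 2 (q - 1)

/-- the order of the field -/
def kq : Kd → ℕ → ℕ
  | .U, q => q ^ 2
  | _, q => q

/-- the dimensions -/
def dimOk : Kd → ℕ → ℕ → Prop
  | .L, n, _ => 5 ≤ n
  | .U, n, _ => 5 ≤ n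
  | .S, n, _ => 6 ≤ n ∧ n % 2 = 0
  | .O, n, q => 7 ≤ n ∧ n % 2 = 1 ∧ q % 2 = 1
  | .P, n, _ => 8 ≤ n ∧ n % 2 = 0
  | .M, n, _ => 8 ≤ n ∧ n % 2 = 0

/-- the order of the simple group is `oI / oD` -/
def oI : Kd → ℕ → ℕ → ℕ
  | .L, n, q => oGL n q
  | .U, n, q => oGU n q
  | .S, n, q => oSp (n / 2) q
  | .O, n, q => oSp (n / 2) q
  | .P, n, q => oP (n / 2) q
  | .M, n, q => oM (n / 2) q

def oD : Kd → ℕ → ℕ → ℕ
  | .L, n, q => Nat.gcd n (q - 1) * (q - 1)
  | .U, n, q => Nat.gcd n (q + 1) * (q + 1)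
  | .S, _, q => Nat.gcd 2 (q - 1)
  | .O, _, _ => 2
  | .P, n, q => Nat.gcd 4 (q ^ (n / 2) - 1)
  | .M, n, q => Nat.gcd 4 (q ^ (n / 2) + 1)

/-- a bilinear form is fixed -/
def bil : Kd → Prop
  | .L => False
  | .U => False
  | _ => True

/-- the forms fixed by the core -/
def Frm {n : ℕ} {K : Type} [Field K] (P : Subgroup (GL (Fin n) K)) : Kd → ℕ → Prop
  | .L, _ => ¬ SD P
  | .U, q => Cj P q ∧ ¬ SD P
  | .S, _ => FixA P ∧ SD P ∧ ¬ FixQ P
  | _, _ => FixQ P ∧ SD P

/-- the core -/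
def Cr (t : Kd) (n q p : ℕ) (N : Type) [Group N] : Prop :=
  ∃ (K : Type) (_ : Field K) (_ : Fintype K) (P : Subgroup (GL (Fin n) K)), CharP K p ∧ Fintype.card K = kq t q ∧ Core P ∧
    Nonempty (H915.LD.Soc P ≃* N) ∧ Nat.card ((scalars (Fin n) K).subgroupOf P) ∣ Nat.gcd n (zz t q) ∧ Frm P t q

/-- the square of the crude bound for the centraliser is `q ^ ec` -/
def ec : Kd → ℕ → ℕ → ℕ
  | .L, _, d => 2 * d
  | .U, n, d => 2 * (d + n)
  | _, n, d => d + n

/-- the permutation of the eigenvalues induced by the field -/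
def fr : Kd → ℕ → ℤ
  | .U, q => -q
  | _, q => q

/-- semisimple elements: the exponent -/
def es : Kd → ℕ → ℕ → ℕ
  | .L, d, _ => d
  | .U, d, _ => d
  | .S, d, m => (d + m) / 2
  | _, d, m => (d - m) / 2

/-- the components off the fixed space are unitary groups over the field of `q ^ eq` elements, or linear groups if `eq = 0`;
`e` is the order of `fr` -/
def eq : Kd → ℕ → ℕ
  | .L, _ => 0
  | .U, e => if e % 2 = 1 then e else 0
  | _, e => if e % 2 = 0 then e / 2 else 0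

/-- the number of unitary components; `z` is the number of eigenvalues other than one -/
def nu (t : Kd) (e z : ℕ) : ℕ := if eq t e = 0 then 0 else z / e

/-- the fixed space: exponent of `(q + 1) / q` -/
def dl : Kd → ℕ → ℕ
  | .L, _ => 0
  | .U, m => if m = 0 then 0 else 1
  | .S, _ => 0
  | _, m => if m = 2 then 1 else 0

/-- the fixed space: constant -/
def kp : Kd → ℕ → ℕ
  | .L, _ => 1
  | .U, _ => 1
  | .S, _ => 1
  | _, m => if m = 0 then 1 else 2

/-- the number of scalars `c` such that `c u` is conjugate to `u` -/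
def ww (t : Kd) (n q r : ℕ) : ℕ := if r ∣ zz t q ∧ r ∣ n then r else 1

/-- `a` blocks of size `p`, one block of size `b` : the dimension of the centraliser -/
def dG (n p : ℕ) : ℕ := (n / p) ^ 2 * p + 2 * (n / p) * (n % p) + n % p

/-- the bound for the centraliser of a unipotent element with `a ≤ 2` blocks of size `p` and one block of size `b` -/
def gB : Kd → ℕ → ℕ → ℕ → ℕ → ℕ
  | .L, q, _, _, d => q ^ d
  | .U, q, a, b, d => (if a = 0 then 1 else (q + 1) * q ^ (a ^ 2 - 1)) * (if b = 0 then 1 else q + 1) * q ^ d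
  | .S, q, a, b, d => (if a = 0 then 1 else q ^ 3) * (if b = 0 then 1 else 2) * q ^ (d / 2 + a + 1)
  | _, q, a, b, d => (if a = 0 then 1 else if a = 1 then 2 else 2 * (q + 1)) * (if b = 0 then 1 else 2) * q ^ (d / 2)

section

variable (t : Kd) (n q p T : ℕ) (N : Type) [Group N] (G : Prop) (c d : N → ℕ)

/-- elements of prime order other than the characteristic; `μ i` is the multiplicity of the eigenvalue `ζ ^ i` of the lift
`u` with `u ^ r = 1`, `h u h⁻¹ = u ^ j` -/
def Semi : Prop := ∀ (r : ℕ) [Fact r.Prime] (g : N) (j : ℕ), r ≠ p → 2 < r → orderOf g = r → IsConj g (g ^ j) →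
  (j : ZMod r) ≠ 1 → ∃ μ : ZMod r → ℕ, ∑ i, μ i = n ∧ μ 0 ≠ n ∧ d g = ∑ i, μ i ^ 2 ∧ (∀ i, μ (j * i) = μ i) ∧
    (∀ i, μ ((fr t q : ℤ) * i) = μ i) ∧ (bil t → ∀ i, μ (-i) = μ i) ∧
    ∀ e z : ℕ, orderOf ((fr t q : ℤ) : ZMod r) = e → (Finset.univ.filter fun i => i ≠ 0 ∧ μ i ≠ 0).card = z →
      c g * zz t q * (q ^ eq t e) ^ nu t e z * q ^ dl t (μ 0) ≤
        ww t n q r * kp t (μ 0) * q ^ es t (d g) (μ 0) * (q ^ eq t e + 1) ^ nu t e z * (q + 1) ^ dl t (μ 0)

/-- self-centralising elements of order `p` : all Jordan blocks but one have size `p` -/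
def Green : Prop := ∀ g : N, 5 ≤ p → orderOf g = p → ¬ p ^ 2 ∣ Nat.card N → centralizer {g} ≤ zpowers g →
  (t = .S → (n / p) % 2 = 0) ∧ (c g * zz t q) ^ 2 ≤ q ^ ec t n (dG n p) ∧
    (n / p ≤ 2 → c g * zz t q ≤ gB t q (n / p) (n % p) (dG n p))

/-- `T` is the order of the simple classical group, `G` is the goal, `c g` is the order of the centraliser of `g` in the
classical group, `d g` is the dimension of the centraliser of a lift of `g` in `End V` -/
structure Rp0 : Prop where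
  prime : p.Prime
  pow : ∃ f, 0 < f ∧ q = p ^ f
  dim : dimOk t n q
  ord : oD t n q * T = oI t n q
  dvd : Nat.card N ∣ T
  core : Cr t n q p N
  sq : n ^ 2 ≤ Nat.card N
  good1 : ∀ g : N, c g ^ 3 * Nat.card (MulAut N) ≤ T → G
  good2 : ∀ (g : N) (r : ℕ), r.Prime → orderOf g = r → ¬ r ^ 2 ∣ Nat.card (MulAut N) →
    (c g * (r - 1)) ^ 3 * Nat.card N ≤ T * Nat.card (normalizer (zpowers g : Set N)) ^ 3 → G
  scott : ∀ x y : N, closure ({x, y} : Set N) = ⊤ → d x + d y + d (x * y) ≤ n ^ 2 + 2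
  low : ∀ (x : N) (a : ℕ), 0 < a → a ≤ 6 → x ^ a = 1 → n ^ 2 ≤ a * d x
  crude : ∀ g : N, (c g * zz t q) ^ 2 ≤ Nat.gcd n (zz t q) ^ 2 * q ^ ec t n (d g)

/-- all facts -/
structure Rp : Prop extends Rp0 t n q p T N G c d where
  semi : Semi t n q p N c d
  green : Green t n q p N c

end

/-! ### the ring frame -/

section ring

variable {A : Type} [Ring A] [StarRing A]

/-- the order of the centraliser in `F.S` -/
noncomputable def cc (F : FR A) (N : Subgroup (RingAut A)) (g : N) : ℕ :=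
  Nat.card ↥(centralizer {(g : RingAut A)} ⊓ F.S)

/-- the dimension of the centraliser of a lift in `End V`: the ring automorphism `g` fixes `kA ^ d` elements; `kA` is the
order of the centre of `A` -/
noncomputable def dd (N : Subgroup (RingAut A)) (g : N) : ℕ :=
  Nat.log (Nat.card (Subring.center A)) (Nat.card {x : A // (g : RingAut A) x = x})

end ring

/-- a statement about the data `t n q p F H N` -/
abbrev St : Type 1 := ∀ (A : Type) [Ring A] [StarRing A], Kd → ℕ → ℕ → ℕ → FR A → Subgroup (RingAut A) → Subgroup (RingAut A) → Prop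

/-- a statement for all four kinds (the type `t` of an orthogonal group is determined by the order of `F.S`) -/
structure Box (X : St) : Prop where
  l : ∀ (K : Type) [Field K] [Fintype K] (n : ℕ) (F : FR (Fwd.LR (Fin n) K)) (H N : Subgroup (RingAut (Fwd.LR (Fin n) K)))
    (p : ℕ), TH.Cl.KL F → 5 ≤ n → Ctx F H p → Res F H N → X _ .L n (Fintype.card K) p F H N
  u : ∀ (K V : Type) [Field K] [Fintype K] [AddCommGroup V] [Module K V] [Finite V] (h : Fwd.HF K V) (F : FR h.EB) (q : ℕ)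
    (H N : Subgroup (RingAut h.EB)) (p : ℕ), TH.Cl.KU h F q → 5 ≤ Module.finrank K V → Ctx F H p → Res F H N →
    X _ .U (Module.finrank K V) q p F H N
  s : ∀ (K V : Type) [Field K] [Fintype K] [AddCommGroup V] [Module K V] [Finite V] (h : Fwd.HF K V) (F : FR h.EB) (k : ℕ)
    (H N : Subgroup (RingAut h.EB)) (p : ℕ), TH.Cl.KSp h F k → 3 ≤ k → Ctx F H p → Res F H N →
    X _ .S (Module.finrank K V) (Fintype.card K) p F H N
  o : ∀ (K V : Type) [Field K] [Fintype K] [AddCommGroup V] [Module K V] [Finite V] (h : Fwd.HF K V) (F : FR h.EB)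
    (Q : QuadraticForm K V) (H N : Subgroup (RingAut h.EB)) (p : ℕ) (t : Kd), TH.Cl.KO h F Q → Ctx F H p → Res F H N →
    t = .O ∨ t = .P ∨ t = .M → dimOk t (Module.finrank K V) (Fintype.card K) →
    oD t (Module.finrank K V) (Fintype.card K) * Nat.card F.S = oI t (Module.finrank K V) (Fintype.card K) →
    X _ t (Module.finrank K V) (Fintype.card K) p F H N

/-- [Rp0] -/
def BoxRp0 : Prop := Box fun _ _ _ t n q p F H N => Rp0 t n q p (Nat.card F.S) N (Gd F H) (cc F N) (dd N)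
/-- [Semi] -/
def BoxSemi : Prop := Box fun _ _ _ t n q p F _ N => Semi t n q p N (cc F N) (dd N)
/-- [Green] -/
def BoxGreen : Prop := Box fun _ _ _ t n q p F _ N => Green t n q p N (cc F N)

/-- a row: the goal follows from `Rp` for the simple groups in the family `Q` -/
def RowX (Q : ℕ → Fam) : Prop := Cf → ∀ (t : Kd) (n q p T : ℕ) (N : Type) [Group N] [Finite N] [IsSimpleGroup N] (G : Prop)
  (c d : N → ℕ), ¬ IsMulCommutative N → Q p N → Rp t n q p T N G c d → G

/-- **assembly** -/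
theorem on_of (b0 : BoxRp0) (bs : BoxSemi) (bg : BoxGreen) {Q : ℕ → Fam} (h : RowX Q) : On (pRes Q) := by
  refine ⟨fun K _ _ n F H p k hn c ⟨_, _, N, r, hQ⟩ => ?_, fun K V _ _ _ _ _ f F q H p k hn c ⟨_, _, N, r, hQ⟩ => ?_,
    fun K V _ _ _ _ _ f F j H p k hn c ⟨_, _, N, r, hQ⟩ => ?_, fun K V _ _ _ _ _ f F Q' H p k c ⟨_, _, N, r, hQ⟩ => ?_⟩ <;>
    rw [c.ringChar_eq] at hQ <;> have := r.simple
  · have := finAut (A := Fwd.LR (Fin n) K)
    exact h c.cf _ _ _ _ _ N _ _ _ r.noncomm hQ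
      ⟨b0.l K n F H N p k hn c r, bs.l K n F H N p k hn c r, bg.l K n F H N p k hn c r⟩
  · have := finAut (A := f.EB)
    exact h c.cf _ _ _ _ _ N _ _ _ r.noncomm hQ
      ⟨b0.u K V f F q H N p k hn c r, bs.u K V f F q H N p k hn c r, bg.u K V f F q H N p k hn c r⟩
  · have := finAut (A := f.EB)
    exact h c.cf _ _ _ _ _ N _ _ _ r.noncomm hQ
      ⟨b0.s K V f F j H N p k hn c r, bs.s K V f F j H N p k hn c r, bg.s K V f F j H N p k hn c r⟩
  · have := finAut (A := f.EB)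
    have h7 := k.dim
    obtain ⟨t, h1, h2, h3⟩ : ∃ t, (t = .O ∨ t = .P ∨ t = .M) ∧ dimOk t (Module.finrank K V) (Fintype.card K) ∧
        oD t (Module.finrank K V) (Fintype.card K) * Nat.card F.S = oI t (Module.finrank K V) (Fintype.card K) := by
      rcases card_S_O k with ⟨m, h1, h2, h3⟩ | ⟨m, h1, -, h3⟩ | ⟨m, h1, -, h3⟩
      · exact ⟨.O, Or.inl rfl, ⟨h7, by omega, Nat.odd_iff.1 h2⟩, by
          rw [oD, oI, show Module.finrank K V / 2 = m by omega]; exact h3⟩
      · exact ⟨.P, Or.inr (Or.inl rfl), ⟨by omega, by omega⟩, by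
          rw [oD, oI, show Module.finrank K V / 2 = m by omega]; exact h3⟩
      · exact ⟨.M, Or.inr (Or.inr rfl), ⟨by omega, by omega⟩, by
          rw [oD, oI, show Module.finrank K V / 2 = m by omega]; exact h3⟩
    exact h c.cf _ _ _ _ _ N _ _ _ r.noncomm hQ
      ⟨b0.o K V f F Q' H N p t k c r h1 h2 h3, bs.o K V f F Q' H N p t k c r h1 h2 h3,
        bg.o K V f F Q' H N p t k c r h1 h2 h3⟩

end Cfsg.Agent.N2C.RX

private theorem dce_58a967008085 : _root_.True := by
  try have : _root_.True := by simp only [_root_.Cfsg.Agent.N2C.RX.ec.eq_3]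
  try have : _root_.True := by simp only [_root_.Cfsg.Agent.N2C.RX.zz.eq_3]
  try have : _root_.True := by simp only [_root_.Cfsg.Agent.N2C.RX.Frm.eq_4]
  try have : _root_.True := by simp only [_root_.Cfsg.Agent.N2C.RX.bil.eq_def]
  try have : _root_.True := by simp only [_root_.Cfsg.Agent.N2C.RX.bil.eq_1]
  try have : _root_.True := by simp only [_root_.Cfsg.Agent.N2C.RX.oI.eq_6]
  try have : _root_.True := by simp only [_root_.Cfsg.Agent.N2C.RX.oI.eq_3]
  try have : _root_.True := by simp only [_root_.Cfsg.Agent.N2C.RX.ec.eq_def]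
  try have : _root_.True := by simp only [_root_.Cfsg.Agent.N2C.RX.zz._sparseCasesOn_1.else_eq]
  try have : _root_.True := by simp only [_root_.Cfsg.Agent.N2C.RX.eq.eq_3]
  try have : _root_.True := by simp only [_root_.Cfsg.Agent.N2C.RX.oD.eq_3]
  try have : _root_.True := by simp only [_root_.Cfsg.Agent.N2C.RX.kq._sparseCasesOn_1.else_eq]
  try have : _root_.True := by simp only [_root_.Cfsg.Agent.N2C.RX.oI.eq_2]
  try have : _root_.True := by simp only [_root_.Cfsg.Agent.N2C.RX.kp.eq_4]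
  try have : _root_.True := by simp only [_root_.Cfsg.Agent.N2C.RX.kq.eq_1]
  try have : _root_.True := by simp only [_root_.Cfsg.Agent.N2C.RX.zz.eq_1]
  try have : _root_.True := by simp only [_root_.Cfsg.Agent.N2C.RX.dl.eq_1]
  try have : _root_.True := by simp only [_root_.Cfsg.Agent.N2C.RX.oD.eq_2]
  try have : _root_.True := by simp only [_root_.Cfsg.Agent.N2C.RX.eq.eq_2]
  try have : _root_.True := by simp only [_root_.Cfsg.Agent.N2C.RX.gB.eq_1]
  try have : _root_.True := by simp only [_root_.Cfsg.Agent.N2C.RX.oD.eq_5]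
  try have : _root_.True := by simp only [_root_.Cfsg.Agent.N2C.RX.eq.eq_def]
  try have : _root_.True := by simp only [_root_.Cfsg.Agent.N2C.RX.oD.eq_1]
  try have : _root_.True := by simp only [_root_.Cfsg.Agent.N2C.RX.eq.eq_1]
  try have : _root_.True := by simp only [_root_.Cfsg.Agent.N2C.RX.es.eq_4]
  try have : _root_.True := by simp only [_root_.Cfsg.Agent.N2C.RX.gB.eq_def]
  try have : _root_.True := by simp only [_root_.Cfsg.Agent.N2C.RX.oI.eq_4]
  try have : _root_.True := by simp only [_root_.Cfsg.Agent.N2C.RX.kp.eq_2]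
  try have : _root_.True := by simp only [_root_.Cfsg.Agent.N2C.RX.oD.eq_6]
  try have : _root_.True := by simp only [_root_.Cfsg.Agent.N2C.RX.oD.eq_4]
  try have : _root_.True := by simp only [_root_.Cfsg.Agent.N2C.RX.fr.eq_1]
  try have : _root_.True := by simp only [_root_.Cfsg.Agent.N2C.RX.Frm._sparseCasesOn_1.else_eq]
  try have : _root_.True := by simp only [_root_.Cfsg.Agent.N2C.RX.ec.eq_2]
  try have : _root_.True := by simp only [_root_.Cfsg.Agent.N2C.RX.es.eq_1]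
  try have : _root_.True := by simp only [_root_.Cfsg.Agent.N2C.RX.gB.eq_3]
  try have : _root_.True := by simp only [_root_.Cfsg.Agent.N2C.RX.fr.eq_2]
  try have : _root_.True := by simp only [_root_.Cfsg.Agent.N2C.RX.ec.eq_1]
  try have : _root_.True := by simp only [_root_.Cfsg.Agent.N2C.RX.es.eq_2]
  try have : _root_.True := by simp only [_root_.Cfsg.Agent.N2C.RX.bil.eq_2]
  try have : _root_.True := by simp only [_root_.Cfsg.Agent.N2C.RX.dl.eq_4]
  try have : _root_.True := by simp only [_root_.Cfsg.Agent.N2C.RX.es.eq_3]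
  try have : _root_.True := by simp only [_root_.Cfsg.Agent.N2C.RX.zz.eq_2]
  try have : _root_.True := by simp only [_root_.Cfsg.Agent.N2C.RX.oI.eq_1]
  try have : _root_.True := by simp only [_root_.Cfsg.Agent.N2C.RX.kq.eq_2]
  try have : _root_.True := by simp only [_root_.Cfsg.Agent.N2C.RX.dl.eq_2]
  try have : _root_.True := by simp only [_root_.Cfsg.Agent.N2C.RX.Frm.eq_def]
  try have : _root_.True := by simp only [_root_.Cfsg.Agent.N2C.RX.fr.eq_def]
  try have : _root_.True := by simp only [_root_.Cfsg.Agent.N2C.RX.gB.eq_4]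
  try have : _root_.True := by simp only [_root_.Cfsg.Agent.N2C.RX.es.eq_def]
  try have : _root_.True := by simp only [_root_.Cfsg.Agent.N2C.RX.dl.eq_3]
  try have : _root_.True := by simp only [_root_.Cfsg.Agent.N2C.RX.kp.eq_1]
  try have : _root_.True := by simp only [_root_.Cfsg.Agent.N2C.RX.Frm.eq_3]
  try have : _root_.True := by simp only [_root_.Cfsg.Agent.N2C.RX.kp.eq_def]
  try have : _root_.True := by simp only [_root_.Cfsg.Agent.N2C.RX.gB.eq_2]
  try have : _root_.True := by simp only [_root_.Cfsg.Agent.N2C.RX.Frm.eq_2]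
  try have : _root_.True := by simp only [_root_.Cfsg.Agent.N2C.RX.dl.eq_def]
  try have : _root_.True := by simp only [_root_.Cfsg.Agent.N2C.RX.kq.eq_def]
  try have : _root_.True := by simp only [_root_.Cfsg.Agent.N2C.RX.zz.eq_def]
  try have : _root_.True := by simp only [_root_.Cfsg.Agent.N2C.RX.bil.eq_3]
  try have : _root_.True := by simp only [_root_.Cfsg.Agent.N2C.RX.kp.eq_3]
  try have : _root_.True := by simp only [_root_.Cfsg.Agent.N2C.RX.Frm.eq_1]
  try have : _root_.True := by simp only [_root_.Cfsg.Agent.N2C.RX.oI.eq_5]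
  exact _root_.True.intro
end

-- part: N2/Cl/Sz/Mu
section
prune_inst 0x4301041005d0000000000051042201c62b2000022000b0400048201000588044000420620b11001110080004408300060001000800040000000000000011d00800000000000000000020000000000000000000000000000000000000000000000000000000
set_option linter.all false
open scoped Cfsg.Agent.FastGrp

-- part: N2/Cl/Sz/Scott
section
/-!
# N2: Scott's lemma on the ring `A` and on the Lie algebra `F.L` (helper96)

* `scott_card` : finite elementary abelian groups;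
* `scott_A`, `scott_End` : `cA x * cA y * cA (x * y) ≤ |A| * |centre| ^ 2` if `x`, `y` and the centre generate `A`;
* `scott_L` : the same on `F.L = Lmin A`; `sq_le_cL`, `sq_le_cA` : involutions in characteristic two;
* `span_of_gen` : the hypothesis for class `S`.
-/

set_option autoImplicit false
set_option linter.unusedSectionVars false

namespace Cfsg.Agent.N2C.Sz

open Cfsg Cfsg.Agent.DS.Cl Module
open Cfsg.Agent.N2C.Cyc (cA cO)
open Cfsg.Agent.FP3 (fixSp comSp dfx mem_fixSp sub_mem_comSp scott_corr)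

section ring

variable {A : Type} [Ring A] [Finite A]

theorem cj_eq_iff' (u : Aˣ) (a : A) : cj A u a = a ↔ a * u = u * a := by
  rw [cj_apply, Units.mul_inv_eq_iff_eq_mul, eq_comm]

variable {x y : Aˣ} {X : AddSubgroup A} {n : ℕ} {E : Fin n → Fin n → A}

end ring

variable {A : Type} [Ring A] [StarRing A] [Finite A] {F : FR A} {x y : Aˣ}

end Cfsg.Agent.N2C.Sz
end

-- part: N2/Cl/Sz/Mu
section
/-!
# N2, size lemma: multiplicities of eigenvalues (helper96)

* `Mu q n u μ` : `μ i` is the multiplicity of `ζ ^ i` for `u ^ m = 1`; `exists_mu`, `exists_mu_End`;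
* `card_le_cA_pow` : `|A| ≤ cA x ^ a` if `x ^ a` is central and `a` is a prime power;
* `Ts` : the eigenvalues on the range of an idempotent (used by the sharp size lemma).
-/

set_option autoImplicit false
set_option linter.unusedSectionVars false
set_option maxHeartbeats 200000

namespace Cfsg.Agent.N2C.Sz

open Cfsg Cfsg.Agent.DS.Cl Module Matrix
open Cfsg.Agent.N2C.Cyc (cA cO cU)
open Cfsg.Agent.H6.M11 (sp isProj_sp sp_mul_sp sum_sp finrank_top_eq_sum)

theorem cA_map {A B : Type} [Ring A] [Ring B] (φ : A ≃+* B) (u : A) : cA (φ u) = cA u :=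
  (Nat.card_congr (Equiv.subtypeEquiv φ.toEquiv fun a => by
    show _ ↔ φ a * φ u = φ u * φ a
    rw [← map_mul, ← map_mul, φ.injective.eq_iff])).symm

/-! ### the split case -/

section split

variable {L W : Type} [Field L] [AddCommGroup W] [Module L W] [FiniteDimensional L W] {T : End L W} {ζ : L} {m : ℕ}

theorem pow_apply_eig {c : L} {v : W} (h : T v = c • v) (k : ℕ) : (T ^ k) v = c ^ k • v := by
  induction k with
  | zero => rw [pow_zero, pow_zero, one_smul, End.one_apply]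
  | succ k ih => rw [pow_succ, End.mul_apply, h, map_smul, ih, smul_smul, pow_succ']

theorem eig_pow {c : L} (hT : T ^ m = 1) (hc : c ^ m = 1) {j : ℕ} (hj : j.Coprime m) :
    (T ^ j).eigenspace (c ^ j) = T.eigenspace c := by
  ext v
  rw [End.mem_eigenspace_iff, End.mem_eigenspace_iff]
  refine ⟨fun h => ?_, fun h => pow_apply_eig h j⟩
  obtain ⟨k, hk⟩ := exists_pow_eq_self_of_coprime (x := (T, c)) (hj.coprime_dvd_right (orderOf_dvd_of_pow_eq_one (Prod.ext hT hc)))
  have h1 := pow_apply_eig h k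
  rwa [show (T ^ j) ^ k = T from congrArg Prod.fst hk, show (c ^ j) ^ k = c from congrArg Prod.snd hk] at h1

theorem ext_sp (hζ : IsPrimitiveRoot ζ m) (hm : 0 < m) (hT : T ^ m = 1) {X Y : End L W}
    (h : ∀ b : Fin m, ∀ v ∈ T.eigenspace (ζ ^ (b : ℕ)), X v = Y v) : X = Y := by
  have : NeZero m := ⟨hm.ne'⟩
  rw [← mul_one X, ← mul_one Y, ← sum_sp (X := T) hζ hm, Finset.mul_sum, Finset.mul_sum]
  exact Finset.sum_congr rfl fun b _ => LinearMap.ext fun v =>
    h b _ ((isProj_sp hζ.neZero'.out (hζ.ne_zero hm.ne') hζ.pow_eq_one hT b).map_mem v)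

theorem exists_glue (hζ : IsPrimitiveRoot ζ m) (hm : 0 < m) (hT : T ^ m = 1) (f : ∀ b : Fin m, End L (T.eigenspace (ζ ^ (b : ℕ)))) :
    ∃ X : End L W, X * T = T * X ∧ ∀ (b : Fin m) (v : T.eigenspace (ζ ^ (b : ℕ))), X v = f b v := by
  have : NeZero m := ⟨hm.ne'⟩
  have hp := fun b : Fin m => isProj_sp hζ.neZero'.out (hζ.ne_zero hm.ne') hζ.pow_eq_one hT b
  let X : End L W := ∑ b : Fin m, (T.eigenspace _).subtype ∘ₗ f b ∘ₗ (hp b).codRestrict
  have h1 : ∀ (b : Fin m) (v : T.eigenspace (ζ ^ (b : ℕ))), X v = f b v := fun b v => by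
    rw [LinearMap.sum_apply, Finset.sum_eq_single b (fun c _ hc => ?_) fun h => absurd (Finset.mem_univ b) h]
    · exact congrArg (fun w => (f b w : W)) ((hp b).codRestrict_apply_cod v)
    · have h2 : (hp c).codRestrict v = 0 := Subtype.ext (by
        rw [LinearMap.IsProj.codRestrict_apply, ← (hp b).map_id v v.2, ← End.mul_apply,
          sp_mul_sp hζ hm hT c.2 b.2 fun h => hc (Fin.ext h)]
        rfl)
      rw [LinearMap.comp_apply, LinearMap.comp_apply, h2, map_zero, map_zero]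
  refine ⟨X, ext_sp hζ hm hT fun b v hv => ?_, h1⟩
  rw [End.mul_apply, End.mul_apply, End.mem_eigenspace_iff.1 hv, map_smul, h1 b ⟨v, hv⟩, End.mem_eigenspace_iff.1 (f b _).2]

theorem exists_trans [NeZero m] (hζ : IsPrimitiveRoot ζ m) (hT : T ^ m = 1) {k : ℕ} {v w : W} (h0 : v ≠ 0) (hv : T v = ζ ^ k • v)
    (hw : T w = ζ ^ k • w) : ∃ X : End L W, X * T = T * X ∧ X v = w := by
  obtain ⟨φ, hφ⟩ := Module.Projective.exists_dual_eq_one L h0
  have h1 := hζ.ne_zero (NeZero.ne m)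
  refine ⟨φ.smulRight w * sp m ζ T k, ?_, ?_⟩
  · rw [mul_assoc, ← show T * sp m ζ T k = sp m ζ T k * T from H6.M11.comm_av ((Commute.refl T).smul_right _),
      H6.M11.mul_sp h1 hζ.pow_eq_one hT]
    exact LinearMap.ext fun x => by simp [hw, smul_smul, mul_comm]
  · rw [End.mul_apply, (isProj_sp hζ.neZero'.out h1 hζ.pow_eq_one hT k).map_id v (End.mem_eigenspace_iff.2 hv),
      LinearMap.smulRight_apply, hφ, one_smul]

theorem cA_split [Finite L] (hζ : IsPrimitiveRoot ζ m) (hm : 0 < m) (hT : T ^ m = 1) :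
    cA T = Nat.card L ^ ∑ b : Fin m, finrank L (T.eigenspace (ζ ^ (b : ℕ))) ^ 2 := by
  rw [← Finset.prod_pow_eq_pow_sum, ← Finset.prod_congr rfl fun b _ => SB.C2.card_end L _, ← Nat.card_pi]
  refine Nat.card_congr (Equiv.ofBijective (fun X b => X.1.restrict fun v hv => End.mem_eigenspace_iff.2 (by
    rw [← End.mul_apply, ← X.2, End.mul_apply, End.mem_eigenspace_iff.1 hv, map_smul])) ⟨fun X Y e => ?_, fun f => ?_⟩)
  · exact Subtype.ext (ext_sp hζ hm hT fun b v hv => congrArg (fun f => (f b ⟨v, hv⟩ : W)) e)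
  · obtain ⟨X, h1, h2⟩ := exists_glue hζ hm hT f
    exact ⟨⟨X, h1⟩, funext fun b => LinearMap.ext fun v => Subtype.ext (h2 b v)⟩

end split

/-! ### matrices -/

section mat

variable {K L ι : Type} [Field K] [Field L] [Fintype ι] [DecidableEq ι]

theorem rank_map (f : K →+* L) (M : Matrix ι ι K) : (M.map f).rank = M.rank := by
  classical
  obtain ⟨T, T', D, rfl⟩ := Matrix.Pivot.exists_list_transvec_mul_diagonal_mul_list_transvec M
  have h1 : ∀ T : List (TransvectionStruct ι K), IsUnit (T.map TransvectionStruct.toMatrix).prod.det := fun T => by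
    rw [TransvectionStruct.det_toMatrix_prod]; exact isUnit_one
  have h2 : ∀ T : List (TransvectionStruct ι K), IsUnit ((T.map TransvectionStruct.toMatrix).prod.map f).det := fun T => by
    rw [← RingHom.mapMatrix_apply, ← RingHom.map_det]; exact (h1 T).map f
  rw [Matrix.map_mul, Matrix.map_mul, rank_mul_eq_left_of_isUnit_det _ _ (h1 _), rank_mul_eq_right_of_isUnit_det _ _ (h1 _),
    rank_mul_eq_left_of_isUnit_det _ _ (h2 _), rank_mul_eq_right_of_isUnit_det _ _ (h2 _), diagonal_map (map_zero f),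
    rank_diagonal, rank_diagonal]
  simp only [_root_.ne_eq, _root_.map_eq_zero, _root_.Fintype.card_subtype_compl]

/-- the multiplicity of an eigenvalue -/
noncomputable def ml (M : Matrix ι ι L) (c : L) : ℕ := finrank L (End.eigenspace (toLinAlgEquiv' M) c)

theorem ml_add (M : Matrix ι ι L) (c : L) : (M - c • 1).rank + ml M c = Fintype.card ι := by
  have h1 : toLinAlgEquiv' M - c • 1 = (M - c • 1).mulVecLin := LinearMap.ext fun v => by
    simp only [toLinAlgEquiv'_apply, _root_.LinearMap.sub_apply, _root_.LinearMap.smul_apply, _root_.Module.End.one_apply, _root_.map_sub, _root_.map_smul, _root_.Matrix.mulVecLin_one, _root_.Matrix.mulVecBilin_apply, _root_.LinearMap.id_coe, _root_.id_eq]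
  rw [ml, End.eigenspace_def, h1, ← Module.finrank_fintype_fun_eq_card L]
  exact LinearMap.finrank_range_add_finrank_ker _

theorem ml_congr {M : Matrix ι ι L} {N : Matrix ι ι K} {c : L} {d : K} (h : (M - c • 1).rank = (N - d • 1).rank) : ml M c = ml N d := by
  have h1 := ml_add M c
  have h2 := ml_add N d
  omega

theorem ml_map (f : K →+* L) (M : Matrix ι ι K) (c : K) : ml (M.map f) (f c) = ml M c :=
  ml_congr (by rw [← rank_map f, ← RingHom.mapMatrix_apply, ← RingHom.mapMatrix_apply, map_sub]; congr 2; ext i j; simp only [one_apply, apply_ite f, _root_.Matrix.smul_apply, _root_.smul_eq_mul, _root_.mul_ite, _root_.mul_one, _root_.MulZeroClass.mul_zero, _root_.RingHom.mapMatrix_apply, _root_.Matrix.map_apply, _root_.map_zero])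

theorem ml_transpose (M : Matrix ι ι L) (c : L) : ml Mᵀ c = ml M c :=
  ml_congr (by rw [← rank_transpose, transpose_sub, transpose_transpose, transpose_smul, transpose_one])

theorem ml_conj {M N g : Matrix ι ι L} (hg : IsUnit g) (h : g * M = N * g) (c : L) : ml M c = ml N c :=
  ml_congr (by
    rw [← rank_mul_eq_right_of_isUnit_det g _ ((isUnit_iff_isUnit_det _).1 hg),
      ← rank_mul_eq_left_of_isUnit_det g (N - _) ((isUnit_iff_isUnit_det _).1 hg), mul_sub, sub_mul, h, mul_smul_comm,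
      smul_mul_assoc, mul_one, one_mul])

theorem ml_inv {M N J : Matrix ι ι L} (hJ : J.det ≠ 0) (h : M * J * N = J) {c d : L} (hc : d * c = 1) : ml N d = ml M c := by
  have h1 : (M * J).det ≠ 0 := fun h0 => hJ (by rw [← h, det_mul, h0, zero_mul])
  refine ml_congr ?_
  rw [← rank_mul_eq_right_of_det_ne_zero _ _ h1, ← rank_mul_eq_left_of_det_ne_zero J (M - _) hJ,
    ← rank_smul_of_mem_nonZeroDivisors (c := -d) ((M - _) * J) (mem_nonZeroDivisors_of_ne_zero (neg_ne_zero.2 (left_ne_zero_of_mul_eq_one hc))),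
    mul_sub, h, sub_mul, smul_sub, mul_smul_comm, smul_mul_assoc, smul_smul, neg_mul, hc, mul_one, one_mul, neg_smul, neg_smul,
    one_smul, neg_sub_neg]

theorem ml_ne_zero {M : Matrix ι ι L} {c : L} : ml M c ≠ 0 ↔ ∃ v, v ≠ 0 ∧ M *ᵥ v = c • v := by
  rw [ml, Ne, Submodule.finrank_eq_zero, ← Ne, Submodule.ne_bot_iff]
  exact exists_congr fun v => and_comm.trans (and_congr_right fun _ => End.mem_eigenspace_iff)

theorem ml_pow {M : Matrix ι ι L} {c : L} {m j : ℕ} (hM : M ^ m = 1) (hc : c ^ m = 1) (hj : j.Coprime m) :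
    ml (M ^ j) (c ^ j) = ml M c := by
  rw [ml, map_pow, eig_pow (by rw [← map_pow, hM, map_one]) hc hj, ml]

theorem cA_toLin (M : Matrix ι ι L) : cA (toLinAlgEquiv' M : End L (ι → L)) = cA M :=
  cA_map (toLinAlgEquiv' (R := L) (n := ι)).toRingEquiv M

end mat

/-! ### base change -/

section bc

variable {A K ι : Type} [Ring A] [Field K] [Fintype ι] [DecidableEq ι] (e : A ≃+* Matrix ι ι K) (L : Type) [Field L] [Algebra K L]

/-- extension of scalars -/
def ex : A →+* Matrix ι ι L := (algebraMap K L).mapMatrix.comp e.toRingHom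

theorem ex_apply (a : A) : ex e L a = (e a).map (algebraMap K L) := rfl

theorem ex_inj : Function.Injective (ex e L) := fun _ _ h =>
  e.injective (Matrix.map_injective (algebraMap K L).injective h)

variable {e L} {κ : Type} [Fintype κ] (b : Basis κ K L)

theorem bc_inj {x y : κ → A} (h : ∑ k, b k • ex e L (x k) = ∑ k, b k • ex e L (y k)) : x = y := by
  refine funext fun k => e.injective (Matrix.ext fun i j => ?_)
  have h1 := congrFun (congrFun h i) j
  simp only [Matrix.sum_apply, Matrix.smul_apply, ex_apply, map_apply, smul_eq_mul, mul_comm (b _), ← Algebra.smul_def] at h1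
  exact congrFun (b.equivFun.symm.injective (a₁ := fun k => e (x k) i j) (a₂ := fun k => e (y k) i j) (by
    rw [Basis.equivFun_symm_apply, Basis.equivFun_symm_apply, h1])) k

theorem bc_surj (X : Matrix ι ι L) : ∃ x : κ → A, X = ∑ k, b k • ex e L (x k) := by
  refine ⟨fun k => e.symm (X.map fun c => b.repr c k), Matrix.ext fun i j => ?_⟩
  simp only [Matrix.sum_apply, Matrix.smul_apply, ex_apply, map_apply, smul_eq_mul, mul_comm (b _), ← Algebra.smul_def,
    RingEquiv.apply_symm_apply, b.sum_repr]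

theorem bc_comm {x : κ → A} {u : A} :
    (∑ k, b k • ex e L (x k)) * ex e L u = ex e L u * ∑ k, b k • ex e L (x k) ↔ ∀ k, x k * u = u * x k := by
  simp only [Finset.sum_mul, Finset.mul_sum, smul_mul_assoc, mul_smul_comm, ← map_mul]
  exact ⟨fun h => congrFun (bc_inj b h), fun h => Finset.sum_congr rfl fun k _ => by rw [h k]⟩

variable [FiniteDimensional K L] {u : A}

theorem cA_ex (u : A) : cA (ex e L u) = cA u ^ finrank K L := by
  let b := finBasis K L
  rw [← Nat.card_fin (finrank K L), cA, cA, ← Nat.card_fun]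
  refine (Nat.card_congr (Equiv.ofBijective (fun x => ⟨∑ k, b k • ex e L (x k).1, (bc_comm b).2 fun k => (x k).2⟩)
    ⟨fun x y h => funext fun k => Subtype.ext (congrFun (bc_inj b (Subtype.mk.inj h)) k), fun X => ?_⟩)).symm
  obtain ⟨x, hx⟩ := bc_surj (e := e) b X.1
  exact ⟨fun k => ⟨x k, (bc_comm b).1 (hx ▸ X.2) k⟩, Subtype.ext hx.symm⟩

theorem comm_ex {z : A} (hz : ∀ x, x * u = u * x → z * x = x * z) {X : Matrix ι ι L} (hX : X * ex e L u = ex e L u * X) :
    X * ex e L z = ex e L z * X := by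
  obtain ⟨x, rfl⟩ := bc_surj (e := e) (finBasis K L) X
  exact (bc_comm _).2 fun k => (hz _ ((bc_comm _).1 hX k)).symm

end bc

/-! ### multiplicities -/

theorem pow_val_mul {M : Type} [Monoid M] {ζ : M} {m : ℕ} [NeZero m] (h : ζ ^ m = 1) (k : ℕ) (i : ZMod m) :
    ζ ^ ((k : ZMod m) * i).val = (ζ ^ i.val) ^ k := by
  rw [ZMod.val_mul, ← pow_eq_pow_mod _ h, ZMod.val_natCast, pow_mul, ← pow_eq_pow_mod _ h, ← pow_mul, mul_comm, pow_mul]

theorem pow_val_neg {M : Type} [Monoid M] {ζ : M} {m : ℕ} [NeZero m] (h : ζ ^ m = 1) (i : ZMod m) :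
    ζ ^ i.val * ζ ^ (-i).val = 1 := by
  rw [← pow_add, pow_eq_pow_mod _ h, ← ZMod.val_add, add_neg_cancel, ZMod.val_zero, pow_zero]

theorem pow_val_pow {M : Type} [Monoid M] {ζ : M} {m : ℕ} (h : ζ ^ m = 1) (k : ℕ) : (ζ ^ k) ^ m = 1 := by
  rw [← pow_mul, mul_comm, pow_mul, h, one_pow]

/-- `μ i` is the multiplicity of the eigenvalue `ζ ^ i` of `u` -/
structure Mu {A : Type} [Ring A] (q n : ℕ) {m : ℕ} [NeZero m] (u : A) (μ : ZMod m → ℕ) : Prop where
  sum : ∑ i, μ i = n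
  card : cA u = q ^ ∑ i, μ i ^ 2
  frob : ∀ i, μ (q * i) = μ i
  conj : ∀ (g : A) (j : ℕ), IsUnit g → g * u = u ^ j * g → j.Coprime m → ∀ i, μ (j * i) = μ i

section mu

variable {A K ι : Type} [Ring A] [Field K] [Fintype K] [Fintype ι] [DecidableEq ι] (e : A ≃+* Matrix ι ι K) {L : Type} [Field L]
  [Algebra K L] [FiniteDimensional K L] (ζ : L) (m : ℕ) [NeZero m]

/-- the multiplicities -/
noncomputable def mu (u : A) (i : ZMod m) : ℕ := ml (ex e L u) (ζ ^ i.val)

open Classical in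
/-- the eigenvalues of `u` on the fixed space of `f` -/
noncomputable def Ts (u f : A) : Finset (ZMod m) :=
  Finset.univ.filter fun i => ∃ v, v ≠ 0 ∧ ex e L f *ᵥ v = v ∧ ex e L u *ᵥ v = ζ ^ i.val • v

variable {e ζ m} {u f g : A} {i : ZMod m}

theorem mem_Ts : i ∈ Ts e ζ m u f ↔ ∃ v, v ≠ 0 ∧ ex e L f *ᵥ v = v ∧ ex e L u *ᵥ v = ζ ^ i.val • v := by
  simp only [Ts, Finset.mem_filter, Finset.mem_univ, true_and]

theorem ex_frob (a : A) : (ex e L a).map (FiniteField.frobeniusAlgHom K L : L →+* L) = ex e L a :=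
  Matrix.ext fun _ _ => (FiniteField.frobeniusAlgHom K L).commutes _

theorem mu_mu (hζ : IsPrimitiveRoot ζ m) (hu : u ^ m = 1) : Mu (Fintype.card K) (Fintype.card ι) u (mu e ζ m u) := by
  have : Finite L := Module.finite_of_finite K
  have h1 : ex e L u ^ m = 1 := by rw [← map_pow, hu, map_one]
  have h2 : toLinAlgEquiv' (ex e L u) ^ m = 1 := by rw [← map_pow, h1, map_one]
  refine ⟨?_, ?_, fun i => ?_, fun g j hg h hj i => ?_⟩
  · obtain ⟨m, rfl⟩ := Nat.exists_eq_succ_of_ne_zero (NeZero.ne m)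
    exact (finrank_top_eq_sum hζ m.succ_pos h2).symm.trans (Module.finrank_fintype_fun_eq_card L)
  · obtain ⟨m, rfl⟩ := Nat.exists_eq_succ_of_ne_zero (NeZero.ne m)
    have h3 := cA_split hζ m.succ_pos h2
    rw [cA_toLin, cA_ex,
      Module.natCard_eq_pow_finrank (K := K) (V := L), ← pow_mul, mul_comm, pow_mul, Nat.card_eq_fintype_card] at h3
    exact Nat.pow_left_injective finrank_pos.ne' h3
  · rw [mu, mu, pow_val_mul hζ.pow_eq_one, ← ml_map (FiniteField.frobeniusAlgHom K L : L →+* L) _ (ζ ^ i.val), ex_frob]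
    rfl
  · rw [mu, mu, pow_val_mul hζ.pow_eq_one, ml_conj (N := ex e L u ^ j) (hg.map (ex e L)) (by rw [← map_pow, ← map_mul, ← map_mul, h]),
      ml_pow h1 (pow_val_pow hζ.pow_eq_one _) hj]

theorem mu_eq {c : K} (h : algebraMap K L c = ζ ^ i.val) : mu e ζ m u i = ml (e u) c := by
  rw [mu, ← h, ex_apply, ml_map]

theorem mu_tw (hζ : ζ ^ m = 1) (σ : L →+* L) (τ : K →+* K) {k : ℕ} (hσ : ∀ x, σ x = x ^ k) (hτ : ∀ x, τ x = x ^ k) {J : Matrix ι ι K}
    (hJ : J.det ≠ 0) (h : (e u)ᵀ * J * (e u).map τ = J) (i : ZMod m) : mu e ζ m u (-(k * i)) = mu e ζ m u i := by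
  have h1 : (ex e L u)ᵀ * J.map (algebraMap K L) * (ex e L u).map σ = J.map (algebraMap K L) := by
    conv_rhs => rw [← h, Matrix.map_mul, Matrix.map_mul]
    congr 1
    ext i j
    simp only [ex_apply, map_apply, hσ, hτ, map_pow]
  rw [mu, mu, ← ml_transpose, ← ml_inv (by rw [← RingHom.mapMatrix_apply, ← RingHom.map_det]; exact (map_ne_zero _).2 hJ) h1
    (pow_val_neg hζ _), pow_val_mul hζ, ← hσ, ml_map]

theorem mu_ne_zero (h : i ∈ Ts e ζ m u f) : mu e ζ m u i ≠ 0 :=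
  let ⟨v, h1, _, h2⟩ := mem_Ts.1 h
  ml_ne_zero.2 ⟨v, h1, h2⟩

theorem Ts_mono (h : g * f = f) : Ts e ζ m u f ⊆ Ts e ζ m u g := fun _ hi =>
  let ⟨v, h1, h2, h3⟩ := mem_Ts.1 hi
  mem_Ts.2 ⟨v, h1, by rw [← h2, mulVec_mulVec, ← map_mul, h], h3⟩

theorem Ts_frob (hζ : ζ ^ m = 1) (hi : i ∈ Ts e ζ m u f) : (Fintype.card K : ZMod m) * i ∈ Ts e ζ m u f := by
  obtain ⟨v, h1, h2, h3⟩ := mem_Ts.1 hi
  let σ : L →+* L := FiniteField.frobeniusAlgHom K L
  have h4 : ∀ a : A, ex e L a *ᵥ (σ ∘ v) = σ ∘ (ex e L a *ᵥ v) := fun a => funext fun j => by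
    rw [Function.comp_apply, RingHom.map_mulVec, ex_frob]
  refine mem_Ts.2 ⟨σ ∘ v, fun h => h1 (funext fun j => (map_eq_zero σ).1 (congrFun h j)), by rw [h4, h2], ?_⟩
  rw [h4, h3, pow_val_mul hζ]
  exact funext fun j => map_mul σ _ _

theorem Ts_pow (hζ : IsPrimitiveRoot ζ m) (hi : i ∈ Ts e ζ m u f) {k : ℕ} (h : u ^ k * f = f) : (k : ZMod m) * i = 0 := by
  obtain ⟨v, h1, h2, h3⟩ := mem_Ts.1 hi
  have h4 := pow_apply_eig (T := toLinAlgEquiv' (ex e L u)) h3 k
  rw [← map_pow, ← map_pow, toLinAlgEquiv'_apply, ← h2, mulVec_mulVec, ← map_mul, h, h2, eq_comm, ← sub_eq_zero] at h4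
  nth_rewrite 2 [← one_smul L v] at h4
  rw [← sub_smul, smul_eq_zero, sub_eq_zero, ← pow_mul, hζ.pow_eq_one_iff_dvd, ← ZMod.natCast_eq_zero_iff] at h4
  simpa only [mul_comm, _root_.Nat.cast_mul, _root_.ZMod.natCast_val, _root_.ZMod.cast_id', _root_.id_eq] using h4.resolve_right h1

theorem Ts_zero {w : A} (h : f = w * (u - 1)) : 0 ∉ Ts e ζ m u f := fun hi => by
  obtain ⟨v, h1, h2, h3⟩ := mem_Ts.1 hi
  rw [ZMod.val_zero, pow_zero, one_smul] at h3
  rw [h, map_mul, ← mulVec_mulVec, map_sub, sub_mulVec, h3, map_one, one_mulVec, sub_self, mulVec_zero] at h2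
  exact h1 h2.symm

theorem Ts_nonempty (hζ : IsPrimitiveRoot ζ m) (hu : u ^ m = 1) (h0 : f ≠ 0) (hf : f * f = f) (hc : f * u = u * f) :
    (Ts e ζ m u f).Nonempty := by
  obtain ⟨m, rfl⟩ := Nat.exists_eq_succ_of_ne_zero (NeZero.ne m)
  by_contra h
  refine h0 (ex_inj e L (toLinAlgEquiv'.injective (ext_sp (T := toLinAlgEquiv' (ex e L u)) hζ m.succ_pos
    (by rw [← map_pow, ← map_pow, hu, map_one, map_one]) fun b v hv => ?_)))
  rw [map_zero, map_zero]
  by_contra h1
  refine h ⟨b, mem_Ts.2 ⟨ex e L f *ᵥ v, h1, by rw [mulVec_mulVec, ← map_mul, hf], ?_⟩⟩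
  rw [mulVec_mulVec, ← map_mul, ← hc, map_mul, ← mulVec_mulVec, show ex e L u *ᵥ v = _ from End.mem_eigenspace_iff.1 hv, mulVec_smul]
  rfl

theorem Ts_disj (hζ : IsPrimitiveRoot ζ m) (hu : u ^ m = 1) (hf : ∀ x, x * u = u * x → f * x = x * f) (h : f * g = 0) :
    Disjoint (Ts e ζ m u f) (Ts e ζ m u g) := by
  refine Finset.disjoint_left.2 fun i hi hj => ?_
  obtain ⟨v, h1, h2, h3⟩ := mem_Ts.1 hi
  obtain ⟨w, h4, h5, h6⟩ := mem_Ts.1 hj
  obtain ⟨X, h7, h8⟩ := exists_trans (T := toLinAlgEquiv' (ex e L u)) hζ (by rw [← map_pow, ← map_pow, hu, map_one, map_one]) h1 h3 h6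
  obtain ⟨X, rfl⟩ := toLinAlgEquiv'.surjective X
  have h9 : X *ᵥ v = w := h8
  have h10 := comm_ex (e := e) hf (X := X) (toLinAlgEquiv'.injective (by rw [map_mul, map_mul]; exact h7))
  have h11 : ex e L f *ᵥ w = w := by rw [← h9, mulVec_mulVec, ← h10, ← mulVec_mulVec, h2]
  exact h4 (by rw [← h11, ← h5, mulVec_mulVec, ← map_mul, h, map_zero, zero_mulVec])

end mu

theorem exists_root (K : Type) [Field K] {m : ℕ} (hm : (m : K) ≠ 0) :
    ∃ (L : Type) (_ : Field L) (_ : Algebra K L) (_ : FiniteDimensional K L) (ζ : L), IsPrimitiveRoot ζ m :=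
  have : NeZero (m : K) := ⟨hm⟩
  have : NeZero m := ⟨fun h => hm (by rw [h, Nat.cast_zero])⟩
  ⟨CyclotomicField m K, inferInstance, inferInstance, IsCyclotomicExtension.finiteDimensional {m} K _, _,
    IsCyclotomicExtension.zeta_spec m K _⟩

/-- **multiplicities**, matrix rings -/
theorem exists_mu {A K ι : Type} [Ring A] [Field K] [Fintype K] [Fintype ι] [DecidableEq ι] (e : A ≃+* Matrix ι ι K) {m : ℕ} [NeZero m]
    (hm : (m : K) ≠ 0) {u : A} (hu : u ^ m = 1) :
    ∃ μ : ZMod m → ℕ, Mu (Fintype.card K) (Fintype.card ι) u μ ∧ μ 0 = ml (e u) 1 := by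
  obtain ⟨L, _, _, _, ζ, hζ⟩ := exists_root K hm
  exact ⟨_, mu_mu hζ hu, mu_eq (by rw [ZMod.val_zero, pow_zero, map_one])⟩

theorem ml_toMatrix {K V ι : Type} [Field K] [AddCommGroup V] [Module K V] [Fintype ι] [DecidableEq ι] (b : Basis ι K V) (u : End K V)
    (c : K) : ml (LinearMap.toMatrix b b u) c = finrank K (LinearMap.ker (u - c • 1)) := by
  have := Module.Finite.of_basis b
  have h1 := ml_add (LinearMap.toMatrix b b u) c
  have h2 := LinearMap.finrank_range_add_finrank_ker (u - c • 1)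
  rw [rank_eq_finrank_range_toLin _ b b, map_sub, map_smul, toLin_toMatrix, toLin_one, ← finrank_eq_card_basis b] at h1
  exact Nat.add_left_cancel (h1.trans h2.symm)

/-! ### lower bounds -/

end Cfsg.Agent.N2C.Sz
end

private theorem dce_35d3a35fc0e1 : _root_.True := by
  try have : _root_.True := by simp only [_root_.Cfsg.Agent.N2C.Sz.Ts.eq_1]
  try have : _root_.True := by simp only [_root_.Cfsg.Agent.N2C.Sz.ml.eq_1]
  try have : _root_.True := by simp only [_root_.Cfsg.Agent.N2C.Cyc.cA.eq_1]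
  try have : _root_.True := by simp only [_root_.Cfsg.Agent.N2C.Sz.mu.eq_1]
  exact _root_.True.intro
end

-- part: N2/Cl/RX/GreenC
section
prune_inst 0x414500100094000000018808051201c428200000000080400042200000c810c0004830861b5900115182000c400300408101000800040000000000400011d0080008010041000ad08520006000000000000000000000000000000000000000000000000000
set_option linter.all false
open scoped Cfsg.Agent.FastGrp

-- part: N2/Cl/RX/GreenA
section
/-!
# N2 (S3519), box Green, part A: at most one Jordan block has size less than `p` (helper32)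
-/

set_option autoImplicit false
set_option linter.unusedSectionVars false

namespace Cfsg.Agent.N2C.RX.Gr

open Module LinearMap Subgroup Polynomial

variable {K V : Type} [Field K] [AddCommGroup V] [Module K V] [FiniteDimensional K V] {p : ℕ}

theorem geom (hp : p.Prime) [CharP K p] (u : End K V) : ∑ i ∈ Finset.range p, u ^ i = (u - 1) ^ (p - 1) := by
  have : Fact p.Prime := ⟨hp⟩
  have h : ∑ i ∈ Finset.range p, (X : K[X]) ^ i = (X - 1) ^ (p - 1) := by
    refine mul_right_cancel₀ (X_sub_C_ne_zero (1 : K)) ?_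
    rw [C_1, geom_sum_mul, ← pow_succ, Nat.sub_add_cancel hp.one_le, sub_pow_char, one_pow]
  simpa only [_root_.map_sum, _root_.map_pow, _root_.Polynomial.aeval_X, _root_.Polynomial.aeval_sub, _root_.map_one] using congrArg (aeval u) h

theorem nil (hp : p.Prime) [CharP K p] {u : End K V} (hu : u ^ p = 1) : (u - 1) ^ p = 0 := by
  rw [← Nat.sub_add_cancel hp.one_le, pow_succ, ← geom hp, geom_sum_mul, hu, sub_self]

/-- sums over free orbits -/
theorem orbit_sum {G Ω : Type} [Group G] [MulAction G Ω] (hp : p.Prime) {σ : G} (hσ : σ ^ p = 1) (u : End K V) (F : Ω → V)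
    (hF : ∀ q, F (σ • q) = u (F q)) (S : Finset Ω) (h1 : ∀ q ∈ S, σ • q ∈ S) (h2 : ∀ q ∈ S, σ • q ≠ q) :
    ∑ q ∈ S, F q ∈ range (∑ i ∈ Finset.range p, u ^ i) := by
  classical
  induction S using Finset.strongInduction with
  | H S ih =>
    rcases S.eq_empty_or_nonempty with rfl | ⟨q, hq⟩
    · simp
    have h3 : ∀ i, σ ^ i • q ∈ S := fun i => by
      induction i with
      | zero => simpa using hq
      | succ i ih => rw [pow_succ', mul_smul]; exact h1 _ ih
    have h4 : ∀ i, F (σ ^ i • q) = (u ^ i) (F q) := fun i => by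
      induction i with
      | zero => simp
      | succ i ih => rw [pow_succ', mul_smul, hF, ih, pow_succ', End.mul_apply]
    have h5 : ∀ i j, i < j → j < p → σ ^ i • q ≠ σ ^ j • q := fun i j hij hj e => by
      obtain ⟨k, rfl⟩ := Nat.exists_eq_add_of_lt hij
      rw [add_assoc, pow_add, mul_smul, smul_left_cancel_iff] at e
      obtain ⟨l, hl⟩ := exists_pow_eq_self_of_coprime (x := σ) (n := k + 1)
        (((Nat.coprime_of_lt_prime (by omega) (by omega) hp).symm).coprime_dvd_right (orderOf_dvd_of_pow_eq_one hσ))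
      exact h2 q hq (hl ▸ (MulAction.stabilizer G q).pow_mem e.symm l)
    set O := (Finset.range p).image fun i => σ ^ i • q with hO
    have h6 : O ⊆ S := fun x hx => by
      obtain ⟨i, -, rfl⟩ := Finset.mem_image.1 hx
      exact h3 i
    have h7 : ∀ i, σ ^ i • q ∈ O := fun i => Finset.mem_image.2 ⟨i % p, Finset.mem_range.2 (Nat.mod_lt _ hp.pos), by
      conv_rhs => rw [← Nat.div_add_mod i p, pow_add, pow_mul, hσ, one_pow, one_mul]⟩
    rw [← Finset.sum_sdiff h6]
    refine add_mem (ih _ (Finset.sdiff_ssubset h6 ⟨_, h7 0⟩) (fun x hx => ?_) fun x hx => h2 x (Finset.mem_sdiff.1 hx).1) ?_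
    · obtain ⟨a, b⟩ := Finset.mem_sdiff.1 hx
      refine Finset.mem_sdiff.2 ⟨h1 x a, fun c => b ?_⟩
      obtain ⟨i, -, e⟩ := Finset.mem_image.1 c
      have e' : x = σ ^ (p - 1 + i) • q := by
        rw [pow_add, mul_smul, e, ← mul_smul, ← pow_succ, Nat.sub_add_cancel hp.one_le, hσ, one_smul]
      exact e' ▸ h7 _
    · rw [hO, Finset.sum_image fun i hi j hj e => ?_]
      · exact ⟨F q, by rw [LinearMap.sum_apply]; exact Finset.sum_congr rfl fun i _ => (h4 i).symm⟩
      · by_contra hne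
        rcases lt_or_gt_of_ne hne with k | k
        · exact h5 i j k (Finset.mem_range.1 hj) e
        · exact h5 j i k (Finset.mem_range.1 hi) e.symm

variable {P : Type} [Group P] [Finite P] (ρ : P →* End K V)

/-- the relative trace: an endomorphism over `M` is a scalar on `ker (u - 1) / range (u - 1) ^ (p - 1)` -/
theorem key (hp : p.Prime) [CharP K p] (irr : ∀ φ : End K V, (∀ t, Commute φ (ρ t)) → ∃ c : K, φ = c • 1) {u : P}
    (hu : u ^ p = 1) (M : Subgroup P) (h5 : u ∈ M) (hM : ∀ t, t⁻¹ * u * t ∈ M → t ∈ M) {φ : End K V} (hφ : ∀ t ∈ M, Commute φ (ρ t)) :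
    ∃ c : K, ∀ y, ρ u y = y → φ y - c • y ∈ range ((ρ u - 1) ^ (p - 1)) := by
  classical
  have := Fintype.ofFinite (P ⧸ M)
  let f : P ⧸ M → End K V := fun q => ρ q.out * φ * ρ q.out⁻¹
  have h1 : ∀ t : P, f t = ρ t * φ * ρ t⁻¹ := fun t => by
    obtain ⟨m, hm⟩ := QuotientGroup.mk_out_eq_mul M t
    show ρ _ * φ * ρ _ = _
    rw [hm, mul_inv_rev, map_mul, map_mul, mul_assoc (ρ t), ← (hφ m m.2).eq, mul_assoc, mul_assoc, ← mul_assoc (ρ m), ← map_mul,
      mul_inv_cancel, map_one, one_mul, mul_assoc]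
  have h2 : ∀ (g : P) (q : P ⧸ M), f (g • q) = ρ g * f q * ρ g⁻¹ := fun g q => by
    induction q using QuotientGroup.induction_on with
    | H t => rw [MulAction.Quotient.smul_mk, smul_eq_mul, h1, h1, mul_inv_rev, map_mul, map_mul]; simp only [mul_assoc]
  obtain ⟨c, hc⟩ := irr (∑ q, f q) fun g => by
    have h3 : ρ g * (∑ q, f q) * ρ g⁻¹ = ∑ q, f q := by
      rw [Finset.mul_sum, Finset.sum_mul, ← Equiv.sum_comp (MulAction.toPerm g) f]
      exact Finset.sum_congr rfl fun q _ => (h2 g q).symm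
    show _ * _ = _ * _
    conv_lhs => rw [← h3, mul_assoc, ← map_mul, inv_mul_cancel, map_one, mul_one]
  refine ⟨c, fun y hy => ?_⟩
  have h3 : ρ u⁻¹ y = y := by
    conv_lhs => rw [← hy, ← End.mul_apply, ← map_mul, inv_mul_cancel, map_one]
    rfl
  have h4 := orbit_sum hp hu (ρ u) (fun q => f q y) (fun q => by rw [h2, End.mul_apply, End.mul_apply, h3])
    (Finset.univ.erase ((1 : P) : P ⧸ M)) (fun q hq => ?_) fun q hq e => ?_
  · rw [geom hp, ← LinearMap.sum_apply, Finset.sum_erase_eq_sub (Finset.mem_univ _), hc, h1, inv_one, map_one, one_mul,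
      mul_one] at h4
    exact neg_sub _ (φ y) ▸ neg_mem h4
  · refine Finset.mem_erase.2 ⟨fun e => (Finset.mem_erase.1 hq).1 ?_, Finset.mem_univ _⟩
    rw [← inv_smul_smul u q, e, MulAction.Quotient.smul_mk, smul_eq_mul, mul_one, QuotientGroup.eq, inv_inv, mul_one]
    exact h5
  · induction q using QuotientGroup.induction_on with
    | H t =>
      rw [MulAction.Quotient.smul_mk, smul_eq_mul, eq_comm, QuotientGroup.eq, ← mul_assoc] at e
      exact (Finset.mem_erase.1 hq).1 (QuotientGroup.eq.2 (by rw [mul_one]; exact inv_mem (hM t e)))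

/-- an endomorphism which commutes with `T` and has a given restriction to `ker T` -/
theorem exists_ext (T ψ : End K V) (s : ℕ) (h1 : T * ψ = 0) (h2 : ∀ y, ψ y ∈ range (T ^ s)) (h3 : ψ * T ^ (s + 1) = 0) :
    ∃ φ : End K V, Commute φ T ∧ ∀ y, T y = 0 → φ y = ψ y := by
  obtain ⟨σ, hσ⟩ := (T ^ s).rangeRestrict.exists_rightInverse_of_surjective (range_rangeRestrict _)
  let χ : End K V := σ ∘ₗ ψ.codRestrict _ h2
  have h4 : T ^ s * χ = ψ := LinearMap.ext fun y => congrArg Subtype.val (LinearMap.congr_fun hσ ⟨ψ y, h2 y⟩)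
  have h5 : χ * T ^ (s + 1) = 0 := LinearMap.ext fun y => by
    show σ ⟨ψ ((T ^ (s + 1)) y), _⟩ = 0
    rw [← map_zero σ]
    exact congrArg σ (Subtype.ext (LinearMap.congr_fun h3 y))
  refine ⟨∑ i ∈ Finset.range (s + 1), T ^ (s - i) * χ * T ^ i, ?_, fun y hy => ?_⟩
  · show _ * _ = _ * _
    rw [Finset.sum_mul, Finset.mul_sum, Finset.sum_range_succ, Finset.sum_range_succ', mul_assoc _ (T ^ s), ← pow_succ,
      mul_assoc _ χ, h5, mul_zero, Nat.sub_zero, pow_zero, mul_one, h4, h1]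
    congr 1
    refine Finset.sum_congr rfl fun i hi => ?_
    rw [← mul_assoc, ← mul_assoc, ← pow_succ', mul_assoc _ (T ^ i), ← pow_succ,
      show s - (i + 1) + 1 = s - i by have := Finset.mem_range.1 hi; omega]
  · rw [LinearMap.sum_apply, Finset.sum_range_succ', Finset.sum_eq_zero fun i _ => by
      rw [End.mul_apply, pow_succ, End.mul_apply (T ^ i), hy, map_zero, map_zero], Nat.sub_zero, pow_zero, mul_one, h4, zero_add]

theorem conj_range {u t : P} (ht : t * u * t⁻¹ ∈ zpowers u) (s : ℕ) {y : V} (hy : y ∈ range ((ρ u - 1) ^ s)) :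
    ρ t y ∈ range ((ρ u - 1) ^ s) := by
  obtain ⟨k, hk⟩ := (mem_powers_iff_mem_zpowers (x := u)).2 ht
  have h1 : ρ t * (ρ u - 1) = (ρ u ^ k - 1) * ρ t := by
    rw [mul_sub, sub_mul, mul_one, one_mul, ← map_pow, ← map_mul, ← map_mul, show u ^ k = _ from hk, inv_mul_cancel_right]
  have h2 : ∀ s, ρ t * (ρ u - 1) ^ s = (ρ u ^ k - 1) ^ s * ρ t := fun s => by
    induction s with
    | zero => simp
    | succ s ih => rw [pow_succ, ← mul_assoc, ih, mul_assoc, h1, ← mul_assoc, ← pow_succ]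
  obtain ⟨x, rfl⟩ := hy
  rw [← End.mul_apply, h2, ← mul_geom_sum, (show Commute (ρ u - 1) _ from Commute.sum_right _ _ _ fun i _ =>
    (((Commute.refl (ρ u)).sub_left (Commute.one_left _)).pow_right i)).mul_pow]
  exact ⟨_, rfl⟩

theorem conj_fix {u t : P} (ht : t⁻¹ * u * t ∈ zpowers u) {y : V} (hy : ρ u y = y) : ρ u (ρ t y) = ρ t y := by
  obtain ⟨k, hk⟩ := (mem_powers_iff_mem_zpowers (x := u)).2 ht
  have h1 : ∀ k : ℕ, ρ (u ^ k) y = y := fun k => by
    induction k with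
    | zero => simp only [_root_.pow_zero, _root_.map_one, _root_.Module.End.one_apply]
    | succ k ih => rw [pow_succ, map_mul, End.mul_apply, hy, ih]
  rw [← End.mul_apply, ← map_mul, show u * t = t * (t⁻¹ * u * t) by group, ← show u ^ k = _ from hk, map_mul, End.mul_apply, h1]

/-- the linear algebra -/
theorem one_block {u h : P} {m : ℕ} (hn : h ∈ normalizer (zpowers u : Set P)) (hm : h ^ m = 1) (hm0 : (m : K) ≠ 0)
    (hk : ∀ φ : End K V, Commute φ (ρ u) → Commute φ (ρ h) → ∃ c : K, ∀ y, ρ u y = y → φ y - c • y ∈ range ((ρ u - 1) ^ (p - 1))) :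
    finrank K (ker (ρ u - 1)) ≤ finrank K (range ((ρ u - 1) ^ (p - 1))) + 1 := by
  classical
  set T := ρ u - 1 with hT
  set I := range (T ^ (p - 1)) with hI
  have hk1 : ∀ y, y ∈ ker T ↔ ρ u y = y := fun y => sub_eq_zero
  have n1 : ∀ t ∈ normalizer (zpowers u : Set P), t * u * t⁻¹ ∈ zpowers u := fun t ht =>
    (mem_normalizer_iff.1 ht u).1 (mem_zpowers u)
  have n2 : ∀ t ∈ normalizer (zpowers u : Set P), t⁻¹ * u * t ∈ zpowers u := fun t ht => by
    simpa using n1 _ (inv_mem ht)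
  by_contra hlt
  have hex : ∃ s, ker T ⊓ range (T ^ s) ≤ I := ⟨p - 1, inf_le_right⟩
  obtain ⟨s, hs⟩ : ∃ s, Nat.find hex = s + 1 := Nat.exists_eq_succ_of_ne_zero fun e => by
    have h1 := Nat.find_spec hex
    rw [e, pow_zero, range_eq_top.2 fun y => ⟨y, rfl⟩, inf_top_eq] at h1
    have := Submodule.finrank_mono h1
    omega
  have s1 : ker T ⊓ range (T ^ (s + 1)) ≤ I := hs ▸ Nat.find_spec hex
  have s2 : ¬ ker T ⊓ range (T ^ s) ≤ I := Nat.find_min hex (by omega)
  have s3 : I ≤ range (T ^ (s + 1)) := by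
    obtain ⟨k, hk⟩ := Nat.exists_eq_add_of_le (hs ▸ Nat.find_min' hex (m := p - 1) inf_le_right)
    rw [hI, hk, pow_add]
    exact range_comp_le_range _ _
  set F := ker T ⊓ range (T ^ s) with hF
  have hFt : ∀ t ∈ normalizer (zpowers u : Set P), ∀ y ∈ F, ρ t y ∈ F := fun t ht y hy =>
    ⟨(hk1 _).2 (conj_fix ρ (n2 t ht) ((hk1 _).1 hy.1)), conj_range ρ (n1 t ht) s hy.2⟩
  have hIt : ∀ t ∈ normalizer (zpowers u : Set P), ∀ y ∈ I, ρ t y ∈ I := fun t ht y hy => conj_range ρ (n1 t ht) _ hy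
  have hinv : ∀ (t : P) y, ρ t (ρ t⁻¹ y) = y := fun t y => by rw [← End.mul_apply, ← map_mul, mul_inv_cancel, map_one]; rfl
  -- averaging
  have avg : ∀ ψ : End K V, (∀ y, ψ y ∈ F) → (∀ y ∈ range (T ^ (s + 1)), ψ y = 0) →
      ∃ c : K, ∀ y ∈ ker T, ∑ i ∈ Finset.range m, ρ (h ^ i) (ψ (ρ (h ^ i)⁻¹ y)) - c • y ∈ I := fun ψ a1 a2 => by
    obtain ⟨φ, a3, a4⟩ := exists_ext T ψ s (LinearMap.ext fun y => (a1 y).1) (fun y => (a1 y).2)
      (LinearMap.ext fun y => a2 _ ⟨y, rfl⟩)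
    have a5 : Commute φ (ρ u) := by simpa [hT] using a3.add_right (Commute.one_right φ)
    obtain ⟨c, hc⟩ := hk (∑ i ∈ Finset.range m, ρ (h ^ i) * φ * ρ (h ^ i)⁻¹) (Commute.sum_left _ _ _ fun i _ => by
      obtain ⟨k, hk⟩ := (mem_powers_iff_mem_zpowers (x := u)).2 (n2 _ (pow_mem hn i))
      have a6 : (h ^ i)⁻¹ * u = u ^ k * (h ^ i)⁻¹ := by rw [show u ^ k = _ from hk, mul_inv_cancel_right]
      have a7 : u * h ^ i = h ^ i * u ^ k := by rw [show u ^ k = _ from hk]; group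
      show _ * _ = _ * _
      rw [mul_assoc, ← map_mul, a6, map_mul, ← mul_assoc, mul_assoc _ φ, map_pow ρ u, (a5.pow_right k).eq, ← mul_assoc,
        ← map_pow, ← map_mul, ← a7, map_mul]
      simp only [mul_assoc]) (by
      have a6 := Finset.sum_range_succ' (fun i => ρ (h ^ i) * φ * ρ (h ^ i)⁻¹) m
      rw [Finset.sum_range_succ, hm, pow_zero, add_left_inj] at a6
      show _ * _ = _ * _
      conv_lhs => rw [a6]
      rw [Finset.sum_mul, Finset.mul_sum]
      refine Finset.sum_congr rfl fun i _ => ?_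
      rw [mul_assoc, ← map_mul, pow_succ', mul_inv_rev, inv_mul_cancel_right, map_mul]
      simp only [mul_assoc])
    refine ⟨c, fun y hy => ?_⟩
    have a6 := hc y ((hk1 y).1 hy)
    rwa [LinearMap.sum_apply, Finset.sum_congr rfl fun i _ => show _ = ρ (h ^ i) (ψ (ρ (h ^ i)⁻¹ y)) by
      rw [End.mul_apply, End.mul_apply, a4 _ ((hk1 _).2 (conj_fix ρ (n2 _ (inv_mem (pow_mem hn i))) ((hk1 y).1 hy)))]] at a6
  have cmp : ∀ {f : ℕ → V} {z x : V}, (∀ i, f i - z ∈ I) → ∑ i ∈ Finset.range m, f i - x ∈ I → (m : K) • z - x ∈ I :=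
    fun {f z x} a1 a2 => by
      have a3 := I.sub_mem a2 (I.sum_mem fun i (_ : i ∈ Finset.range m) => a1 i)
      rwa [Finset.sum_sub_distrib, Finset.sum_const, Finset.card_range, ← Nat.cast_smul_eq_nsmul K, sub_sub_sub_cancel_left,
        ← neg_sub, neg_sub] at a3
  have sc : ∀ {c : K} {y : V}, c • y ∈ I → y ∉ I → c = 0 := fun {c y} a1 a2 => by
    by_contra a3
    exact a2 ((I.smul_mem_iff a3).1 a1)
  -- the projection onto a complement of `I` in `F`
  obtain ⟨E, e1, e2, e3⟩ : ∃ E ≤ F, Disjoint E I ∧ F ≤ E ⊔ I := by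
    obtain ⟨E, a1⟩ := (I.comap F.subtype).exists_isCompl
    refine ⟨E.map F.subtype, Submodule.map_subtype_le _ _, Submodule.disjoint_def.2 ?_, fun y hy => ?_⟩
    · rintro _ ⟨x, hx, rfl⟩ a2
      exact congrArg Subtype.val (Submodule.disjoint_def.1 a1.disjoint x a2 hx)
    · obtain ⟨a, ha, b, hb, a2⟩ := Submodule.mem_sup.1 (a1.sup_eq_top ▸ Submodule.mem_top (x := (⟨y, hy⟩ : F)))
      exact Submodule.mem_sup.2 ⟨b, ⟨b, hb, rfl⟩, a, ha, (add_comm _ _).trans (congrArg Subtype.val a2)⟩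
  obtain ⟨C, c1, c2⟩ := (show Disjoint E (range (T ^ (s + 1))) from Submodule.disjoint_def.2 fun x a1 a2 =>
    Submodule.disjoint_def.1 e2 x a1 (s1 ⟨(e1 a1).1, a2⟩)).symm.exists_isCompl
  let π : V →ₗ[K] E := E.projectionOnto C c2.symm
  have p1 : ∀ y ∈ range (T ^ (s + 1)), π y = 0 := fun y hy => Submodule.projectionOnto_apply_right _ ⟨y, c1 hy⟩
  have p2 : ∀ y ∈ F, (π y : V) - y ∈ I := fun y hy => by
    obtain ⟨a, ha, b, hb, rfl⟩ := Submodule.mem_sup.1 (e3 hy)
    rw [map_add, p1 b (s3 hb), add_zero, show π a = ⟨a, ha⟩ from Submodule.projectionOnto_apply_left _ ⟨a, ha⟩,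
      sub_add_cancel_left]
    exact neg_mem hb
  have q1 : ∀ t ∈ normalizer (zpowers u : Set P), ∀ y ∈ F, ∀ i, ρ (h ^ i) (ρ t (π (ρ (h ^ i)⁻¹ y))) - ρ (h ^ i * t * (h ^ i)⁻¹) y ∈ I :=
    fun t ht y hy i => by
      rw [map_mul, map_mul, End.mul_apply, End.mul_apply, ← map_sub, ← map_sub]
      exact hIt _ (pow_mem hn i) _ (hIt t ht _ (p2 _ (hFt _ (inv_mem (pow_mem hn i)) y hy)))
  obtain ⟨y₀, b1, b2⟩ := SetLike.not_le_iff_exists.1 s2
  -- `ker T ≤ F ⊔ I`
  have A : ∀ y ∈ ker T, y ∈ F ⊔ I := fun y hy => by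
    obtain ⟨c, hc⟩ := avg (E.subtype ∘ₗ π) (fun y => e1 (π y).2) fun y hy => by simp [p1 y hy]
    have a1 := cmp (z := y₀) (fun i => by simpa only [_root_.map_pow, _root_.LinearMap.coe_comp, _root_.Submodule.coe_subtype, _root_.Function.comp_apply, _root_.map_one, _root_.Module.End.one_apply, _root_.mul_one, _root_.mul_inv_cancel] using q1 1 (one_mem _) y₀ b1 i) (hc y₀ b1.1)
    rw [← sub_smul] at a1
    have a2 : c ≠ 0 := sub_eq_zero.1 (sc a1 b2) ▸ hm0
    have a3 := (F ⊔ I).sub_mem (Submodule.mem_sup_left (F.sum_mem fun i (_ : i ∈ Finset.range m) =>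
      hFt _ (pow_mem hn i) _ (e1 (π (ρ (h ^ i)⁻¹ y)).2))) (Submodule.mem_sup_right (hc y hy))
    exact ((F ⊔ I).smul_mem_iff a2).1 (by simpa only [_root_.map_pow, _root_.LinearMap.coe_comp, _root_.Submodule.coe_subtype, _root_.Function.comp_apply, _root_.sub_sub_cancel] using a3)
  -- `h` is a scalar on `F / I`
  obtain ⟨d, hd⟩ : ∃ d : K, ∀ y ∈ F, ρ h y - d • y ∈ I := by
    obtain ⟨c, hc⟩ := avg (ρ h ∘ₗ E.subtype ∘ₗ π) (fun y => hFt h hn _ (e1 (π y).2)) fun y hy => by simp only [p1 y hy, _root_.LinearMap.coe_comp, _root_.Submodule.coe_subtype, _root_.Function.comp_apply, _root_.ZeroMemClass.coe_zero, _root_.map_zero]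
    refine ⟨(m : K)⁻¹ * c, fun y hy => ?_⟩
    have a1 := cmp (z := ρ h y) (fun i => by
      have a2 := q1 h hn y hy i
      rwa [((Commute.refl h).pow_left i).eq, mul_inv_cancel_right] at a2) (hc y hy.1)
    have a2 := I.smul_mem (m : K)⁻¹ a1
    rwa [smul_sub, smul_smul, inv_mul_cancel₀ hm0, one_smul, smul_smul] at a2
  have hdi : ∀ i, ∀ y ∈ F, ρ (h ^ i) y - d ^ i • y ∈ I := fun i => by
    induction i with
    | zero => intro y _; simp
    | succ i ih =>
      intro y hy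
      have a1 := I.add_mem (ih _ (hFt h hn y hy)) (I.smul_mem (d ^ i) (hd y hy))
      rwa [smul_sub, sub_add_sub_cancel, smul_smul, ← pow_succ, ← End.mul_apply, ← map_mul, ← pow_succ] at a1
  -- two dimensions
  have h2 : 2 ≤ finrank K E := by
    have a1 := Submodule.finrank_mono (show ker T ≤ E ⊔ I from fun y hy => sup_le e3 le_sup_right (A y hy))
    have a2 := Submodule.finrank_add_le_finrank_add_finrank E I
    omega
  let b := finBasis K E
  let i0 : Fin (finrank K E) := ⟨0, by omega⟩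
  let i1 : Fin (finrank K E) := ⟨1, by omega⟩
  have nb : ∀ i, (b i : V) ∉ I := fun i a => b.ne_zero i (Subtype.ext (Submodule.disjoint_def.1 e2 _ (b i).2 a))
  let ψ : End K V := (b.coord i0 ∘ₗ π).smulRight (b i0 : V)
  have a0 : ∀ y, ψ y ∈ F := fun y => F.smul_mem _ (e1 (b i0).2)
  have a00 : ∀ y ∈ range (T ^ (s + 1)), ψ y = 0 := fun y hy => by simp only [ψ, p1 y hy, _root_.LinearMap.coe_smulRight, _root_.LinearMap.coe_comp, _root_.Function.comp_apply, _root_.Module.Basis.coord_apply, _root_.map_zero, _root_.Finsupp.coe_zero, _root_.Pi.zero_apply, _root_.zero_smul]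
  obtain ⟨c, hc⟩ := avg ψ a0 a00
  have a1 : ∀ y ∈ F, (m : K) • ψ y - c • y ∈ I := fun y hy => cmp (fun i => by
    have a2 := a00 _ (s3 (hdi i _ (hFt _ (inv_mem (pow_mem hn i)) y hy)))
    rw [hinv, map_sub, map_smul, sub_eq_zero] at a2
    rw [a2]
    exact hdi i _ (a0 _)) (hc y hy.1)
  have a2 : ∀ i, π (b i) = b i := fun i => Submodule.projectionOnto_apply_left _ _
  have a3 := a1 _ (e1 (b i0).2)
  have a4 := a1 _ (e1 (b i1).2)
  rw [show ψ (b i0) = b i0 by simp [ψ, a2], ← sub_smul] at a3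
  rw [show ψ (b i1) = 0 by simp only [ψ, a2, i0, i1, _root_.LinearMap.coe_smulRight, _root_.LinearMap.coe_comp, _root_.Function.comp_apply, _root_.Module.Basis.coord_apply, _root_.Module.Basis.repr_self, _root_.ne_eq, _root_.Fin.mk.injEq, _root_.zero_ne_one, _root_.not_false_eq_true, _root_.Finsupp.single_eq_of_ne, _root_.zero_smul], smul_zero, zero_sub, ← neg_smul] at a4
  exact hm0 ((sub_eq_zero.1 (sc a3 (nb _))).trans (neg_eq_zero.1 (sc a4 (nb _))))

/-- **at most one Jordan block has size less than `p`** -/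
theorem jordan (hp : p.Prime) [CharP K p] (irr : ∀ φ : End K V, (∀ t, Commute φ (ρ t)) → ∃ c : K, φ = c • 1)
    {N : Type} [Group N] (π : P →* N) (hπ : Function.Surjective π) (hz : ∀ z, π z = 1 → ∀ φ, Commute φ (ρ z)) {e : ℕ}
    (he : ∀ z, π z = 1 → z ^ e = 1) (hc : p.Coprime e) {g : N} (hg : orderOf g = p) (h2 : ¬ p ^ 2 ∣ Nat.card N)
    (hC : centralizer {g} ≤ zpowers g) :
    ∃ u : P, π u = g ∧ u ^ p = 1 ∧ finrank K (ker (ρ u - 1)) ≤ finrank K (range ((ρ u - 1) ^ (p - 1))) + 1 := by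
  have : Fact p.Prime := ⟨hp⟩
  have hgp : g ^ p = 1 := hg ▸ pow_orderOf_eq_one g
  obtain ⟨u, hu, hup⟩ : ∃ u : P, π u = g ∧ u ^ p = 1 := by
    obtain ⟨v, rfl⟩ := hπ g
    obtain ⟨k, hk⟩ := exists_pow_eq_self_of_coprime (x := π v) (n := e) (hg ▸ hc.symm)
    exact ⟨(v ^ e) ^ k, by rw [map_pow, map_pow, hk], by
      rw [← pow_mul, ← pow_mul, mul_comm e, mul_comm k, mul_assoc, mul_comm k, pow_mul, pow_mul,
        he _ (by rw [map_pow, hgp]), one_pow]⟩
  have ho : orderOf u = p := orderOf_eq_prime hup fun e' => by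
    rw [← hu, e', map_one, orderOf_one] at hg
    exact hp.one_lt.ne hg
  have hP : ¬ p ^ 2 ∣ Nat.card P := fun a => by
    rw [← π.ker.card_mul_index, index_ker, MonoidHom.range_eq_top.2 hπ, card_top] at a
    refine h2 ((Nat.Coprime.pow_left 2 ((Nat.Prime.coprime_iff_not_dvd hp).2 fun b => ?_)).dvd_of_dvd_mul_left a)
    obtain ⟨z, hz⟩ := exists_prime_orderOf_dvd_card' p b
    have a1 : orderOf (z : P) ∣ e := orderOf_dvd_of_pow_eq_one (he z z.2)
    rw [orderOf_coe, hz] at a1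
    exact (Nat.Prime.coprime_iff_not_dvd hp).1 hc a1
  have hR : Nat.card (zpowers u) = p := by rw [Nat.card_zpowers, ho]
  let R : Sylow p P := Sylow.ofCard (zpowers u) (by
    rw [hR, show (Nat.card P).factorization p = 1 from le_antisymm
      (not_lt.1 fun a => hP ((hp.pow_dvd_iff_le_factorization Nat.card_pos.ne').2 a))
      ((hp.dvd_iff_one_le_factorization Nat.card_pos.ne').1 (hR ▸ card_subgroup_dvd_card _)), pow_one])
  have hM : ∀ t, t⁻¹ * u * t ∈ normalizer (zpowers u : Set P) → t ∈ normalizer (zpowers u : Set P) := fun t ht => by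
    have a1 : IsPGroup p (zpowers (t⁻¹ * u * t)) := IsPGroup.of_card (n := 1) (by
      rw [Nat.card_zpowers, pow_one, ← ho]
      exact orderOf_injective (MulAut.conj t).symm.toMonoidHom (MulAut.conj t).symm.injective u)
    have a2 : t⁻¹ * u * t ∈ zpowers u := ((a1.inf_normalizer_sylow R).le ⟨mem_zpowers _, ht⟩).2
    refine inv_mem_iff.1 (mem_normalizer_fintype ?_)
    rintro _ ⟨k, rfl⟩
    show t⁻¹ * u ^ k * t⁻¹⁻¹ ∈ zpowers u
    rw [← conj_zpow, inv_inv]
    exact zpow_mem a2 k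
  have hcyc : IsCyclic (MulAut (zpowers u)) := by
    have a1 : IsCyclic (ZMod (Nat.card (zpowers u)))ˣ := by rw [hR]; infer_instance
    exact isCyclic_of_surjective _ (IsCyclic.mulAutMulEquiv (zpowers u)).symm.surjective
  have hA : Nat.card (MulAut (zpowers u)) = p - 1 := by rw [IsCyclic.card_mulAut, hR, Nat.totient_prime hp]
  let χ := (zpowers u).normalizerMonoidHom
  obtain ⟨⟨_, h₀, rfl⟩, hgen⟩ := IsCyclic.exists_monoid_generator (α := χ.range)
  have a1 : χ (h₀ ^ p) = χ h₀ := by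
    rw [map_pow, ← Nat.sub_add_cancel hp.one_le, pow_succ, ← hA, pow_card_eq_one', one_mul]
  refine ⟨u, hu, hup, one_block ρ (h := ↑(h₀ ^ p)) (h₀ ^ p).2 (pow_orderOf_eq_one _) (fun a => hP ?_) fun φ b1 b2 =>
    key ρ hp irr hup _ (le_normalizer (mem_zpowers u)) hM fun t ht => ?_⟩
  · rw [CharP.cast_eq_zero_iff K p, Subgroup.coe_pow, orderOf_pow] at a
    by_cases a2 : p ∣ orderOf (h₀ : P)
    · rw [Nat.gcd_eq_right a2, Nat.dvd_div_iff_mul_dvd a2, ← pow_two] at a
      exact a.trans (_root_.orderOf_dvd_natCard _)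
    · exact (a2 (a.trans (Nat.div_dvd_of_dvd (Nat.gcd_dvd_left _ _)))).elim
  · obtain ⟨i, hi⟩ := hgen ⟨_, ⟨t, ht⟩, rfl⟩
    have a2 : ((h₀ ^ p) ^ i)⁻¹ * ⟨t, ht⟩ ∈ χ.ker := by
      rw [MonoidHom.mem_ker, map_mul, map_inv, map_pow, a1, inv_mul_eq_one]
      exact congrArg Subtype.val hi
    rw [normalizerMonoidHom_ker] at a2
    set x : P := ((((h₀ ^ p) ^ i)⁻¹ * ⟨t, ht⟩ : normalizer (zpowers u : Set P)) : P) with hx
    have a3 : x * u = u * x := (mem_centralizer_iff.1 a2 u (mem_zpowers u)).symm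
    obtain ⟨k, hk⟩ := hC (mem_centralizer_singleton_iff.2 (show π x * g = g * π x by rw [← hu, ← map_mul, a3, map_mul]))
    obtain ⟨l, hl⟩ := (mem_powers_iff_mem_zpowers (x := u)).2 (zpow_mem (mem_zpowers u) k)
    have a4 : t = (↑(h₀ ^ p) : P) ^ i * (u ^ l * ((u ^ k)⁻¹ * x)) := by
      rw [show u ^ l = _ from hl, mul_inv_cancel_left, hx]
      simp only [_root_.SubmonoidClass.coe_pow, _root_.Subgroup.coe_mul, _root_.InvMemClass.coe_inv, _root_.mul_inv_cancel_left]
    rw [a4, map_mul, map_mul, map_pow, map_pow]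
    exact (b2.pow_right i).mul_right ((b1.pow_right l).mul_right (hz _ (by
      rw [map_mul, map_inv, map_zpow, hu, show g ^ k = _ from hk, inv_mul_cancel]) φ))

end Cfsg.Agent.N2C.RX.Gr
end

-- part: N2/Cl/RX/GreenJ
section
/-!
# N2 (S3519), box Green: `a` blocks of size `p` and one block of size `b < p` (helper32)
-/

set_option autoImplicit false
set_option linter.unusedSectionVars false

namespace Cfsg.Agent.N2C.RX.Gr

open Module LinearMap

variable {K V : Type} [Field K] [AddCommGroup V] [Module K V] [FiniteDimensional K V] {p a b : ℕ} {T : End K V}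
  {v : Fin a → V} {w : V}

/-- generators `v i` of the blocks of size `p`, `w` of the block of size `b` -/
structure Jb (T : End K V) (p a b : ℕ) (v : Fin a → V) (w : V) : Prop where
  nil : T ^ p = 0
  lt : b < p
  wb : (T ^ b) w = 0
  dim : finrank K V = a * p + b
  rk : finrank K (range (T ^ (p - 1))) = a
  top : ∀ y, ∃ c : Fin a → K, (T ^ (p - 1)) (y - ∑ i, c i • v i) = 0
  mid : ∀ y, (T ^ (p - 1)) y = 0 → ∃ (c : K) (x : V), y = c • w + T x
  ne : 0 < b → (T ^ (b - 1)) w ∉ range (T ^ (p - 1))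
  ker : finrank K (ker (T ^ b)) ≤ a * b + b

theorem tele (T : End K V) (k : ℕ) :
    finrank K (range (T ^ k)) = finrank K (range (T ^ (k + 1))) + finrank K (ker T ⊓ range (T ^ k) : Submodule K V) := by
  rw [← (T.domRestrict (range (T ^ k))).finrank_range_add_finrank_ker, range_domRestrict, pow_succ', End.mul_eq_comp, range_comp,
    ker_domRestrict, ← Submodule.finrank_map_subtype_eq, Submodule.map_comap_subtype, inf_comm]

theorem range_pow_le (T : End K V) {i j : ℕ} (h : i ≤ j) : range (T ^ j) ≤ range (T ^ i) := by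
  obtain ⟨k, rfl⟩ := Nat.exists_eq_add_of_le h
  rw [pow_add]
  exact range_comp_le_range _ _

theorem pow_zero_of_le {i j : ℕ} (h : i ≤ j) {y : V} (hy : (T ^ i) y = 0) : (T ^ j) y = 0 := by
  obtain ⟨k, rfl⟩ := Nat.exists_eq_add_of_le' h
  rw [pow_add, End.mul_apply, hy, map_zero]

/-- Nakayama -/
theorem nak (hT : T ^ p = 0) {W : Submodule K V} (h1 : ∀ y ∈ W, T y ∈ W) (h2 : ∀ y, ∃ x, y - T x ∈ W) : W = ⊤ := by
  have h3 : ∀ k y, ∃ x, y - (T ^ k) x ∈ W := fun k => by
    induction k with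
    | zero => exact fun y => ⟨y, by simp⟩
    | succ k ih =>
      intro y
      obtain ⟨x, hx⟩ := h2 y
      obtain ⟨z, hz⟩ := ih x
      exact ⟨z, by simpa only [pow_succ', _root_.Module.End.mul_apply, _root_.map_sub, _root_.sub_add_sub_cancel] using W.add_mem hx (h1 _ hz)⟩
  refine eq_top_iff.2 fun y _ => ?_
  obtain ⟨x, hx⟩ := h3 p y
  simpa [hT] using hx

theorem gen' (hT : T ^ p = 0) (top : ∀ y, ∃ c : Fin a → K, (T ^ (p - 1)) (y - ∑ i, c i • v i) = 0)
    (mid : ∀ y, (T ^ (p - 1)) y = 0 → ∃ (c : K) (x : V), y = c • w + T x) {W : Submodule K V} (h1 : ∀ y ∈ W, T y ∈ W)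
    (h2 : ∀ i, v i ∈ W) (h3 : w ∈ W) : W = ⊤ := nak hT h1 fun y => by
  obtain ⟨c, hc⟩ := top y
  obtain ⟨d, x, e⟩ := mid _ hc
  refine ⟨x, ?_⟩
  rw [show y - T x = ∑ i, c i • v i + d • w by rw [sub_eq_iff_eq_add.1 e]; abel]
  exact W.add_mem (W.sum_mem fun i _ => W.smul_mem _ (h2 i)) (W.smul_mem _ h3)

theorem Jb.gen (j : Jb T p a b v w) {W : Submodule K V} (h1 : ∀ y ∈ W, T y ∈ W) (h2 : ∀ i, v i ∈ W) (h3 : w ∈ W) : W = ⊤ :=
  gen' j.nil j.top j.mid h1 h2 h3

theorem exists_jb (hp : 0 < p) (hT : T ^ p = 0) (h : finrank K (ker T) ≤ finrank K (range (T ^ (p - 1))) + 1) :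
    ∃ (a b : ℕ) (v : Fin a → V) (w : V), Jb T p a b v w := by
  classical
  set I := range (T ^ (p - 1)) with hI
  let β := finBasis K I
  choose v hv using fun i => (β i).2
  have top : ∀ y, ∃ c : Fin (finrank K I) → K, (T ^ (p - 1)) (y - ∑ i, c i • v i) = 0 := fun y => by
    refine ⟨β.repr ⟨_, y, rfl⟩, ?_⟩
    have h1 := congrArg Subtype.val (β.sum_repr ⟨_, y, rfl⟩)
    rw [Submodule.coe_sum] at h1
    rw [map_sub, map_sum, sub_eq_zero]
    exact h1.symm.trans (Finset.sum_congr rfl fun i _ => by rw [Submodule.coe_smul, map_smul, hv])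
  have hR : range T ≤ ker (T ^ (p - 1)) := by
    rintro _ ⟨x, rfl⟩
    rw [mem_ker, ← End.mul_apply, ← pow_succ, Nat.sub_add_cancel hp, hT, LinearMap.zero_apply]
  have hex : ∃ b, ∃ w, (T ^ (p - 1)) w = 0 ∧ (T ^ b) w = 0 ∧
      ∀ y, (T ^ (p - 1)) y = 0 → ∃ (c : K) (x : V), y = c • w + T x := by
    by_cases h1 : ker (T ^ (p - 1)) ≤ range T
    · exact ⟨0, 0, map_zero _, map_zero _, fun y hy => by
        obtain ⟨x, rfl⟩ := h1 hy
        exact ⟨0, x, by simp⟩⟩
    · obtain ⟨w, h2, h3⟩ := SetLike.not_le_iff_exists.1 h1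
      refine ⟨p - 1, w, h2, h2, fun y hy => ?_⟩
      have h4 : range T ⊔ K ∙ w = ker (T ^ (p - 1)) := Submodule.eq_of_le_of_finrank_le
        (sup_le hR ((Submodule.span_singleton_le_iff_mem _ _).2 h2)) (by
          have a1 := Submodule.finrank_lt_finrank_of_lt (show range T < range T ⊔ K ∙ w from
            lt_of_le_of_ne le_sup_left fun e => h3 (e ▸ Submodule.mem_sup_right (Submodule.mem_span_singleton_self w)))
          have a2 := T.finrank_range_add_finrank_ker
          have a3 := (T ^ (p - 1)).finrank_range_add_finrank_ker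
          rw [← hI] at a3
          omega)
      obtain ⟨_, ⟨x, rfl⟩, z, hz, rfl⟩ := Submodule.mem_sup.1 (h4.ge hy)
      obtain ⟨c, rfl⟩ := Submodule.mem_span_singleton.1 hz
      exact ⟨c, x, add_comm _ _⟩
  obtain ⟨w, w1, w2, mid⟩ := Nat.find_spec hex
  set b := Nat.find hex with hb
  have lt : b < p := (Nat.find_min' hex ⟨w, w1, w1, mid⟩).trans_lt (by omega)
  have ne : 0 < b → (T ^ (b - 1)) w ∉ I := by
    rintro h0 ⟨y, hy⟩
    have h1 : T ^ (p - b) = T * T ^ (p - b - 1) := by rw [← pow_succ', Nat.sub_add_cancel (by omega)]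
    refine Nat.find_min hex (m := b - 1) (by omega) ⟨w - (T ^ (p - b)) y, ?_, ?_, fun z hz => ?_⟩
    · rw [map_sub, w1, h1, End.mul_apply, hR ⟨_, rfl⟩, sub_zero]
    · rw [map_sub, ← hy, ← End.mul_apply, ← pow_add, show b - 1 + (p - b) = p - 1 by omega, sub_self]
    · obtain ⟨c, x, rfl⟩ := mid z hz
      exact ⟨c, x + c • (T ^ (p - b - 1)) y, by rw [h1, End.mul_apply, map_add, map_smul, smul_sub]; abel⟩
  have low : ∀ j ≤ p, finrank K I * j + (b - (p - j)) ≤ finrank K (range (T ^ (p - j))) := fun j => by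
    induction j with
    | zero => intro _; omega
    | succ j ih =>
      intro hj
      have h1 := ih (by omega)
      have h2 := tele T (p - (j + 1))
      rw [show p - (j + 1) + 1 = p - j by omega] at h2
      have h3 : I ≤ ker T ⊓ range (T ^ (p - (j + 1))) := le_inf (by
        rintro _ ⟨x, rfl⟩
        rw [mem_ker, ← End.mul_apply, ← pow_succ', Nat.sub_add_cancel hp, hT, LinearMap.zero_apply]) (range_pow_le T (by omega))
      rw [Nat.mul_succ]
      by_cases h4 : p - (j + 1) < b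
      · have h5 := Submodule.finrank_lt_finrank_of_lt (lt_of_le_of_ne h3 fun e => ne (by omega) (e.ge ⟨by
          show T _ = 0
          rw [← End.mul_apply, ← pow_succ', Nat.sub_add_cancel (by omega), w2], range_pow_le T (by omega) ⟨w, rfl⟩⟩))
        omega
      · have h5 := Submodule.finrank_mono h3
        omega
  have dim : finrank K V = finrank K I * p + b := by
    refine le_antisymm ?_ ((low p le_rfl).trans' (by omega) |>.trans (Submodule.finrank_le _))
    let f : Fin (finrank K I) × Fin p ⊕ Fin b → V := Sum.elim (fun x => (T ^ (x.2 : ℕ)) (v x.1)) fun k => (T ^ (k : ℕ)) w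
    have h1 : ∀ i k, (T ^ k) (v i) ∈ Submodule.span K (Set.range f) := fun i k => by
      by_cases hk : k < p
      · exact Submodule.subset_span ⟨.inl (i, ⟨k, hk⟩), rfl⟩
      · rw [pow_zero_of_le (not_lt.1 hk) (by rw [hT, LinearMap.zero_apply])]
        exact zero_mem _
    have h2 : ∀ k, (T ^ k) w ∈ Submodule.span K (Set.range f) := fun k => by
      by_cases hk : k < b
      · exact Submodule.subset_span ⟨.inr ⟨k, hk⟩, rfl⟩
      · rw [pow_zero_of_le (not_lt.1 hk) w2]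
        exact zero_mem _
    have h3 : Submodule.span K (Set.range f) = ⊤ := gen' hT top mid
      (fun y hy => (Submodule.span_le (p := (Submodule.span K (Set.range f)).comap T)).2 (by
        rintro _ ⟨x | k, rfl⟩
        · show T ((T ^ (x.2 : ℕ)) (v x.1)) ∈ Submodule.span K (Set.range f)
          rw [← End.mul_apply, ← pow_succ']
          exact h1 _ _
        · show T ((T ^ (k : ℕ)) w) ∈ Submodule.span K (Set.range f)
          rw [← End.mul_apply, ← pow_succ']
          exact h2 _) hy) (fun i => h1 i 0) (h2 0)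
    have h4 := finrank_range_le_card (R := K) f
    rwa [Set.finrank, h3, finrank_top, Fintype.card_sum, Fintype.card_prod, Fintype.card_fin, Fintype.card_fin,
      Fintype.card_fin] at h4
  refine ⟨_, b, v, w, hT, lt, w2, dim, rfl, top, mid, ne, ?_⟩
  have h1 := low (p - b) (by omega)
  have h2 := (T ^ b).finrank_range_add_finrank_ker
  rw [show p - (p - b) = b by (clear * - lt; omega)] at h1
  have h3 : finrank K I * p = finrank K I * (p - b) + finrank K I * b := by rw [← Nat.mul_add, Nat.sub_add_cancel lt.le]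
  omega

namespace Jb

variable (j : Jb T p a b v w)
include j

theorem div : finrank K V / p = a := by
  rw [j.dim, Nat.add_comm, Nat.add_mul_div_right _ _ (Nat.zero_lt_of_lt j.lt), Nat.div_eq_of_lt j.lt, zero_add]

theorem mod : finrank K V % p = b := by rw [j.dim, Nat.mul_add_mod_of_lt j.lt]

theorem ext {x y : End K V} (hx : x * T = T * x) (hy : y * T = T * y) (h1 : ∀ i, x (v i) = y (v i)) (h2 : x w = y w) : x = y :=
  LinearMap.ext fun z => (j.gen (W := eqLocus x y) (fun z hz => by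
    show x (T z) = y (T z)
    rw [← End.mul_apply, hx, ← End.mul_apply, hy, End.mul_apply, End.mul_apply, show x z = y z from hz]) h1 h2).ge trivial

/-- the order of the centraliser in `End V` -/
theorem card_le [Finite K] : Nat.card {x : End K V // x * T = T * x} ≤ Nat.card K ^ (a ^ 2 * p + 2 * a * b + b) := by
  have : Finite V := Module.finite_of_finite K
  refine (Nat.card_le_card_of_injective (β := (Fin a → V) × LinearMap.ker (T ^ b)) (fun x => (fun i => x.1 (v i), ⟨x.1 w, by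
    rw [mem_ker, ← End.mul_apply, ← (Commute.pow_right x.2 b).eq, End.mul_apply, j.wb, map_zero]⟩))
    fun x y e => Subtype.ext (j.ext x.2 y.2 (congrFun (congrArg Prod.fst e)) (congrArg (fun z => z.2.1) e))).trans ?_
  rw [Nat.card_prod, Nat.card_fun, Module.natCard_eq_pow_finrank (K := K) (V := V),
    Module.natCard_eq_pow_finrank (K := K) (V := LinearMap.ker (T ^ b)), ← pow_mul, ← pow_add, Nat.card_eq_fintype_card (α := Fin a),
    Fintype.card_fin, j.dim]
  refine Nat.pow_le_pow_right Nat.card_pos ((Nat.add_le_add_left j.ker _).trans (le_of_eq ?_))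
  ring

end Jb

end Cfsg.Agent.N2C.RX.Gr
end

-- part: N2/Cl/RX/GreenC
section
/-!
# N2 (S3519), box Green: the lift, linear groups, the crude bound (helper32)
-/

set_option autoImplicit false
set_option linter.unusedSectionVars false

namespace Cfsg.Agent.N2C.RX.Gr

open Module Subgroup Cfsg.Agent.DS.Cl Cfsg.Agent.DS.Cl.Fwd Cfsg.Agent.N2C.Cyc
open Cfsg.Agent.SB.Fld (prL prU)

variable {K V : Type} [Field K] [Fintype K] [AddCommGroup V] [Module K V] [Finite V] {p : ℕ}

/-- the lift of order `p` and its Jordan blocks -/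
theorem lift {A : Type} [Ring A] [StarRing A] [Finite A] {F : FR A} {H N : Subgroup (RingAut A)} (r : Res F H N)
    (ρ : A →+* End K V) (hs : Function.Surjective ρ) (hp : p.Prime) [CharP K p] {e : ℕ} (he : ∀ z ∈ ZI F, z ^ e = 1)
    (hc : p.Coprime e) {g : N} (hg : orderOf g = p) (h2 : ¬ p ^ 2 ∣ Nat.card N) (hC : centralizer {g} ≤ zpowers g) :
    ∃ (u : Aˣ) (v : Fin (finrank K V / p) → V) (w : V), u ∈ F.Iso ∧ cc F N g * Nat.card (ZI F) ≤ cO F u ∧
      Jb (ρ u - 1) p (finrank K V / p) (finrank K V % p) v w := by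
  have : Module.Finite K V := Module.Finite.of_finite
  have := finAut (A := A)
  let π : lft F N →* N := ((cj A).comp (lft F N).subtype).codRestrict N fun u => Res.cj_mem u.2
  let σ : lft F N →* End K V := (ρ : A →* End K V).comp ((Units.coeHom A).comp (lft F N).subtype)
  have hz : ∀ z, π z = 1 → (z : Aˣ) ∈ ZI F := fun z h => ⟨Res.lft_le_Iso F N z.2, congrArg Subtype.val h⟩
  obtain ⟨u, rfl, h1, h3⟩ := jordan σ hp (fun φ h => by
      obtain ⟨c, _, hc⟩ := End.mem_center_iff.1 ((Semigroup.mem_center_iff.2 fun x => by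
        obtain ⟨x, rfl⟩ := hs x
        exact Res.add_top r (((Subring.centralizer {φ}).comap ρ).toAddSubgroup)
          (fun u hu y hy => by rw [Set.mem_singleton_iff.1 hy]; exact h ⟨u, hu⟩) x φ rfl |>.symm :))
      exact ⟨c, hc⟩) π (fun x => by
      obtain ⟨u, hu, h⟩ := Res.exists_lft r x.2
      exact ⟨⟨u, hu⟩, Subtype.ext h⟩) (fun z h φ => by
      obtain ⟨x, rfl⟩ := hs φ
      show ρ x * ρ _ = ρ _ * ρ x
      rw [← map_mul, ← map_mul]
      exact congrArg ρ (ZI_comm (hz z h) x).symm) (fun z h => Subtype.ext (he _ (hz z h))) hc hg h2 hC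
  obtain ⟨a, b, v, w, j⟩ := exists_jb hp.pos (nil hp (by rw [← map_pow, h1, map_one])) h3
  obtain rfl := j.div
  obtain rfl := j.mod
  refine ⟨u, v, w, Res.lft_le_Iso F N u.2, le_trans (le_of_eq ?_)
    (cn_mul_le_cop' (Res.lft_le F N u.2) (congrArg Subtype.val h1) he hc), j⟩
  congr 1
  exact Nat.card_congr
    { toFun := fun x => ⟨⟨x.1, x.2.2⟩, mem_centralizer_singleton_iff.2 (Subtype.ext (mem_centralizer_singleton_iff.1 x.2.1))⟩
      invFun := fun x => ⟨x.1.1, mem_centralizer_singleton_iff.2 (congrArg Subtype.val (mem_centralizer_singleton_iff.1 x.2)),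
        x.1.2⟩
      left_inv := fun _ => rfl
      right_inv := fun _ => rfl }

theorem comm_sub {R : Type} [Ring R] {x u : R} (h : x * u = u * x) : x * (u - 1) = (u - 1) * x := by
  rw [mul_sub, sub_mul, h, mul_one, one_mul]

theorem finEnd : Finite (End K V) := Finite.of_injective _ DFunLike.coe_injective

theorem dvd_card (p : ℕ) [CharP K p] : p ∣ Fintype.card K := by
  obtain ⟨f, -, hf⟩ := FiniteField.card K p
  exact hf ▸ dvd_pow_self p f.ne_zero

theorem green_L {n : ℕ} {F : FR (LR (Fin n) K)} {H N : Subgroup (RingAut (LR (Fin n) K))} (hn : 5 ≤ n) (c : Ctx F H p)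
    (r : Res F H N) : Green .L n (Fintype.card K) p N (cc F N) := fun g _ hg h2 hC => by
  have := TH.Cl.Cases.charP_of_cast c.prime (TH.Cl.Cases.cast_LR (by omega) c.char)
  obtain ⟨u, v, w, -, h1, j⟩ := lift r (prL n K) SB.Fld.luL.surj c.prime (fun z hz => ZI_pow_L hz)
    (((Nat.coprime_self_sub_right Fintype.card_pos).2 (Nat.coprime_one_right _)).coprime_dvd_left (dvd_card p)) hg h2 hC
  have := finEnd (K := K) (V := Fin n → K)
  have h3 : cc F N g * zz .L (Fintype.card K) ≤ Fintype.card K ^ dG n p := by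
    refine ((Nat.mul_le_mul_left _ (card_ZI_L F (by omega))).trans h1).trans (le_trans ?_ (j.card_le.trans (le_of_eq ?_)))
    · refine Nat.card_le_card_of_injective (fun x => ⟨prL n K x.1, comm_sub (by
        rw [← map_mul, ← map_mul]; exact congrArg _ (congrArg Units.val x.2.2))⟩) fun x y e => Subtype.ext ?_
      obtain ⟨s, hs⟩ := (Iso_L F).le x.2.1
      obtain ⟨t, ht⟩ := (Iso_L F).le y.2.1
      have h4 : prL n K (LR.gl s : (LR (Fin n) K)ˣ) = prL n K (LR.gl t : (LR (Fin n) K)ˣ) := by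
        rw [hs, ht]; exact congrArg Subtype.val e
      rw [← hs, ← ht, show s = t from Units.ext (Matrix.toLinAlgEquiv'.injective h4)]
    · rw [Nat.card_eq_fintype_card, finrank_fin_fun, dG]
  exact ⟨nofun, (Nat.pow_le_pow_left h3 2).trans (le_of_eq (by rw [ec, ← pow_mul, mul_comm])), fun _ => h3⟩

/-- forms -/
theorem lift_H {h : HF K V} {F : FR h.EB} {H N : Subgroup (RingAut h.EB)} (r : Res F H N) (hp : p.Prime) [CharP K p]
    {e z : ℕ} (he : ∀ z ∈ ZI F, z ^ e = 1) (hc : p.Coprime e) (hz : z ≤ Nat.card (ZI F)) {g : N} (hg : orderOf g = p)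
    (h2 : ¬ p ^ 2 ∣ Nat.card N) (hC : centralizer {g} ≤ zpowers g) :
    ∃ (u : h.EB) (v : Fin (finrank K V / p) → V) (w : V), u * star u = 1 ∧ cc F N g * z ≤ cU u ∧
      (cc F N g * z) ^ 2 ≤ Fintype.card K ^ (dG (finrank K V) p + finrank K V) ∧
      Jb (h.ap u - 1) p (finrank K V / p) (finrank K V % p) v w := by
  have : Module.Finite K V := Module.Finite.of_finite
  obtain ⟨u, v, w, hu, h1, j⟩ := lift r (prU h) Function.surjective_id hp he hc hg h2 hC
  have := finEnd (K := K) (V := V)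
  have h3 := (Nat.mul_le_mul_left _ hz).trans h1
  refine ⟨u, v, w, hu.1, h3.trans (cO_le_cU F u), (Nat.pow_le_pow_left h3 2).trans
    (le_trans (Nat.pow_le_pow_left ?_ 2) ((SzG.sizeG h F hu le_rfl).trans ?_)), j⟩
  · exact Nat.card_le_card_of_injective (fun x => ⟨x.1, mem_centralizer_singleton_iff.2 x.2.2, x.2.1⟩)
      fun x y e => Subtype.ext (Subtype.mk.inj e)
  · rw [pow_add, ← Nat.card_eq_fintype_card, ← Module.natCard_eq_pow_finrank]
    exact Nat.mul_le_mul_right _ ((Nat.card_le_card_of_injective (fun x => ⟨h.ap x.1, comm_sub x.2.symm⟩)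
      fun x y e => Subtype.ext (by have h4 := congrArg Subtype.val e; exact h4)).trans j.card_le)

/-- a statement about a unipotent isometry with its blocks -/
def Al (X : ∀ (K V : Type) [Field K] [Fintype K] [AddCommGroup V] [Module K V] [Finite V] (h : HF K V), h.EB → ℕ → ℕ → ℕ → Prop) :
    Prop :=
  ∀ (K V : Type) [Field K] [Fintype K] [AddCommGroup V] [Module K V] [Finite V] (h : HF K V) (u : h.EB) (p a b : ℕ)
    (v : Fin a → V) (w : V), p.Prime → 5 ≤ p → CharP K p → u * star u = 1 → Jb (h.ap u - 1) p a b v w →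
    X K V h u a b (a ^ 2 * p + 2 * a * b + b)

/-- part B -/
structure GB : Prop where
  u : Al fun K _ _ _ _ _ _ h u a b d => ∀ q, SB.Cl.IsU h → Fintype.card K = q ^ 2 → a ≤ 2 → cU u ≤ gB .U q a b d
  s : Al fun K _ _ _ _ _ _ h u a b d => (∀ c, h.τ c = c) → (∀ x, h.b x x = 0) →
    a % 2 = 0 ∧ (a ≤ 2 → cU u ≤ gB .S (Fintype.card K) a b d)
  o : Al fun K _ _ _ _ _ _ h u a b d => (∀ c, h.τ c = c) → (∀ x y, h.b x y = h.b y x) → a ≤ 2 →
    cU u ≤ gB .O (Fintype.card K) a b d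

theorem lift_two {h : HF K V} {F : FR h.EB} {H N : Subgroup (RingAut h.EB)} (hτ : ∀ c, h.τ c = c) (hn : 0 < finrank K V)
    (r : Res F H N) (hp : p.Prime) (h5 : 5 ≤ p) [CharP K p] {g : N} (hg : orderOf g = p) (h2 : ¬ p ^ 2 ∣ Nat.card N)
    (hC : centralizer {g} ≤ zpowers g) :
    ∃ (u : h.EB) (v : Fin (finrank K V / p) → V) (w : V), u * star u = 1 ∧
      cc F N g * Nat.gcd 2 (Fintype.card K - 1) ≤ cU u ∧ (cc F N g * Nat.gcd 2 (Fintype.card K - 1)) ^ 2 ≤
        Fintype.card K ^ (dG (finrank K V) p + finrank K V) ∧ Jb (h.ap u - 1) p (finrank K V / p) (finrank K V % p) v w := by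
  have := nontrivial_of_dim hn
  exact lift_H r hp (fun z hz => ZI_pow_two hτ hz) ((Nat.coprime_primes hp Nat.prime_two).2 (by omega))
    ((Nat.gcd_le_left _ two_pos).trans (card_ZI_two F fun e => by
      have := Nat.le_of_dvd two_pos ((CharP.cast_eq_zero_iff K p 2).1 (by exact_mod_cast e))
      omega)) hg h2 hC

theorem boxGreen_of (B : GB) : BoxGreen := by
  refine ⟨fun K _ _ n F H N p _ hn c r => green_L hn c r, fun K V _ _ _ _ _ h F q H N p k hn c r g h5 hg h2 hC => ?_,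
    fun K V _ _ _ _ _ h F m H N p k hn c r g h5 hg h2 hC => ?_,
    fun K V _ _ _ _ _ h F Q H N p t k c r ht _ _ g h5 hg h2 hC => ?_⟩ <;> have h1 := k.dim <;>
    have hp := TH.Cl.Cases.charP_of_cast c.prime (TH.Cl.Cases.cast_EB h (by omega) c.char)
  · obtain ⟨u, v, w, hu, h3, h4, j⟩ := lift_H r c.prime (fun z hz => ZI_pow_U k hz)
      (((Nat.coprime_self_add_right (m := q)).2 (Nat.coprime_one_right _)).coprime_dvd_left
        (c.prime.dvd_of_dvd_pow (k.card ▸ dvd_card (K := K) p))) (card_ZI_U k) hg h2 hC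
    exact ⟨nofun, by rwa [k.card, ← pow_mul] at h4, fun h6 => h3.trans (B.u K V h u p _ _ v w c.prime h5 hp hu j q k.u k.card h6)⟩
  · obtain ⟨u, v, w, hu, h3, h4, j⟩ := lift_two k.sp.1 (by omega) r c.prime h5 hg h2 hC
    have h6 := B.s K V h u p _ _ v w c.prime h5 hp hu j k.sp.1 k.sp.2.1
    exact ⟨fun _ => h6.1, h4, fun h7 => h3.trans (h6.2 h7)⟩
  · obtain ⟨u, v, w, hu, h3, h4, j⟩ := lift_two k.o.1 (by omega) r c.prime h5 hg h2 hC
    have h6 := B.o K V h u p _ _ v w c.prime h5 hp hu j k.o.1 fun x y => by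
      rw [k.o.2.1, k.o.2.1, QuadraticMap.polar_comm]
    rcases ht with rfl | rfl | rfl <;> exact ⟨nofun, h4, fun h7 => h3.trans (h6 h7)⟩

end Cfsg.Agent.N2C.RX.Gr
end

private theorem dce_8b53e367c129 : _root_.True := by
  try have : _root_.True := by simp only [_root_.Cfsg.Agent.N2C.RX.dG.eq_1]
  exact _root_.True.intro
end

-- part: N2/Cl/Ten/Mod
section
prune_inst 0x4115065445d6200000818808043201c62b2000422004b44002da204040dc88c4280c20e61bcb0011692b200c55839006811100080420000000a000c00011d00a08080000400000108460007000080000000000000000000000000000000000000000000000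
set_option linter.all false
open scoped Cfsg.Agent.FastGrp

/-!
# N2 classical, tensor decompositions: rings of linear and unitary type (helper54)

`Md R q k` : `R` is a ring of `k × k` matrices over its centre of order `q ^ 2`, with matrix units adapted to the involution.
-/

set_option autoImplicit false
set_option linter.unusedSectionVars false

namespace Cfsg.Agent.N2C.Ten

open Cfsg.Agent.DS.Cl Cfsg.Agent.DS.Cl.Fwd Module
open Cfsg.Agent.SB.Cl (IsU IsSp IsO)
open Cfsg.Agent.N2C.Size (SI fm Kd exists_kind)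
open Cfsg.Agent.N2C.Cyc (ZI)

section ring

variable {R R' : Type} [Ring R] [StarRing R] [Ring R'] [StarRing R']

/-- the data of a ring of linear or unitary type -/
structure Md (R : Type) [Ring R] [StarRing R] (q k : ℕ) : Prop where
  pos : 0 < k
  units : ∀ σ : Fin k → Fin k, Function.Involutive σ → ∃ E, MU E ∧ ∀ i j, star (E i j : R) = E (σ j) (σ i)
  cen : Nat.card (Subring.center R) = q ^ 2
  uni : q * uu (⊤ : Subring R) ≤ uu (Subring.center R) * q ^ (k ^ 2)
  nrm : ∀ μ ∈ Subring.center R, star μ = μ → ∃ c ∈ Subring.center R, μ = star c * c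

theorem card_units [Finite R] {T : Subring R} {G : Subgroup Rˣ}
    (h : ∀ u : Rˣ, u ∈ G ↔ (u : R) ∈ T ∧ (u : R) * star (u : R) = 1) : Nat.card G = uu T :=
  Nat.card_congr ⟨fun u => ⟨u.1, (h _).1 u.2⟩, fun x => ⟨mkU x.1 x.2.2, (h _).2 x.2⟩,
    fun _ => Subtype.ext (Units.ext rfl), fun _ => rfl⟩

theorem card_Iso [Finite R] {F : FR R} (hF : F.L = Lmax R) : Nat.card F.Iso = uu (⊤ : Subring R) :=
  card_units fun _ => ⟨fun k => ⟨trivial, k.1⟩, fun k => mem_Iso_max hF k.2⟩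

theorem mem_ZI {F : FR R} {z : Rˣ} : z ∈ ZI F ↔ (z : R) ∈ Subring.center R ∧ (z : R) * star (z : R) = 1 :=
  ⟨fun k => ⟨cj_eq_one_iff.1 k.2, k.1.1⟩,
    fun k => ⟨FR.mem_Iso_of_cj k.2 (by rw [cj_eq_one_iff.2 k.1]; exact one_mem _), cj_eq_one_iff.2 k.1⟩⟩

theorem card_ZI [Finite R] (F : FR R) : Nat.card (ZI F) = uu (Subring.center R) := card_units fun _ => mem_ZI

omit [StarRing R] in
theorem card_cen {k Q : ℕ} {E : Fin k → Fin k → R} (h : MU E) (hk : 0 < k) (hc : Nat.card R = Q ^ (k ^ 2)) :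
    Nat.card (Subring.center R) = Q := by
  have h1 := card_eq_pow h.toMU0 (T := ⊤) fun _ _ => trivial
  rw [show ⊤ ⊓ CE E = Subring.center R from Subring.ext fun x => ⟨fun k => h.cen x (mem_CE.1 k.2),
    fun k => ⟨trivial, mem_CE.2 fun _ _ => (cen_comm k _).symm⟩⟩, Nat.card_congr Subring.topEquiv.toEquiv, hc] at h1
  exact (Nat.pow_left_injective (by positivity) h1).symm

theorem uu_congr {e : R ≃+* R'} (he : SI e) {T : Subring R} {T' : Subring R'} (h : ∀ x, e x ∈ T' ↔ x ∈ T) :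
    uu T = uu T' :=
  Nat.card_congr (e.toEquiv.subtypeEquiv fun x => and_congr (h x).symm (by
    change _ ↔ e x * star (e x) = 1
    rw [← he, ← map_mul, map_eq_one_iff _ e.injective]))

theorem Md.of_SI {e : R ≃+* R'} (he : SI e) {q k : ℕ} (h : Md R' q k) : Md R q k where
  pos := h.pos
  units σ hσ := by
    obtain ⟨E, h1, h2⟩ := h.units σ hσ
    refine ⟨fun i j => e.symm (E i j), ⟨h1.toMU0.map (e.symm : R' →+* R), fun a ha => ?_⟩, fun i j => by rw [← he.symm, h2]⟩
    refine (Size.mem_center_map e).1 (h1.cen _ fun i j => ?_)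
    simpa using congrArg e (ha i j)
  cen := (Nat.card_congr (e.toEquiv.subtypeEquiv fun _ => (Size.mem_center_map e).symm)).trans h.cen
  uni := by
    rw [uu_congr he (T' := ⊤) fun _ => Iff.rfl, uu_congr he fun _ => Size.mem_center_map e]
    exact h.uni
  nrm μ h1 h2 := by
    obtain ⟨c, h3, h4⟩ := h.nrm (e μ) ((Size.mem_center_map e).2 h1) (by rw [← he, h2])
    exact ⟨e.symm c, (Size.mem_center_map e.symm).2 h3, by rw [← he.symm, ← map_mul, ← h4, e.symm_apply_apply]⟩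

theorem Eps.nrm {ε : R} (hε : Eps ε) {μ : R} (h1 : μ ∈ Subring.center R) (h2 : star μ = μ) :
    ∃ c ∈ Subring.center R, μ = star c * c :=
  ⟨ε * μ + star ε, add_mem (mul_mem hε.cen h1) hε.st.cen, by
    rw [star_add, star_mul, h2, star_star, add_mul, mul_add, mul_add, mul_assoc, mul_assoc, ← mul_assoc (star ε), hε.sm,
      hε.st.idem, ← mul_assoc ε, hε.idem, hε.ms, zero_mul, mul_zero, zero_add, add_zero, hε.st.comm, add_comm,
      ← hε.split]⟩

end ring

theorem md_LR {K : Type} [Field K] [Fintype K] {n : ℕ} (hn : 0 < n) : Md (LR (Fin n) K) (Fintype.card K) n := by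
  have hu : ∀ σ : Fin n → Fin n, Function.Involutive σ →
      ∃ E, MU E ∧ ∀ i j, star (E i j : LR (Fin n) K) = E (σ j) (σ i) := fun σ hσ => by
    refine ⟨fun i j => LR.mk (Matrix.single i j 1) (Matrix.single (σ i) (σ j) 1), ⟨⟨fun i j k l => ?_, ?_⟩, fun a ha => ?_⟩,
      fun i j => by simp only [LR.star_mk, Matrix.transpose_single, hσ i, hσ j]⟩
    · rw [LR.mk_mul]
      split_ifs with hjk
      · rw [hjk, Matrix.single_mul_single_same, Matrix.single_mul_single_same, mul_one]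
      · rw [Matrix.single_mul_single_of_ne _ _ _ _ hjk, Matrix.single_mul_single_of_ne _ _ _ _ (hσ.injective.ne hjk),
          LR.zero_eq]
    · refine Prod.ext (Prod.fst_sum.trans Matrix.sum_single_one) (Prod.snd_sum.trans ?_)
      exact (Equiv.sum_comp hσ.toPerm fun i => Matrix.single i i (1 : K)).trans Matrix.sum_single_one
    · obtain ⟨x, hx⟩ : a.1 ∈ Set.range (Matrix.scalar (Fin n)) :=
        Matrix.mem_range_scalar_iff_commute_single'.2 fun i j => (congrArg Prod.fst (ha i j)).symm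
      obtain ⟨y, hy⟩ : a.2 ∈ Set.range (Matrix.scalar (Fin n)) :=
        Matrix.mem_range_scalar_iff_commute_single'.2 fun i j => by
          have h1 : a.2 * Matrix.single (σ (σ i)) (σ (σ j)) 1 = Matrix.single (σ (σ i)) (σ (σ j)) 1 * a.2 :=
            congrArg Prod.snd (ha (σ i) (σ j))
          rw [hσ, hσ] at h1
          exact h1.symm
      exact Subring.mem_center_iff.2 fun g => Prod.ext
        (show g.1 * a.1 = a.1 * g.1 from hx ▸ (Matrix.scalar_commute x (fun _ => .all _ _) g.1).symm)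
        (show g.2 * a.2 = a.2 * g.2 from hy ▸ (Matrix.scalar_commute y (fun _ => .all _ _) g.2).symm)
  obtain ⟨E, hE, -⟩ := hu id fun _ => rfl
  let F : FR (LR (Fin n) K) := ⟨_, Lmax _, LR.half, Or.inr rfl⟩
  refine ⟨hn, hu, card_cen hE hn (by rw [Size.card_LR, pow_mul]), ?_, fun μ => Eps.nrm SB.Tor.eps_LR⟩
  rw [← card_Iso (F := F) rfl, ← card_ZI F, Cyc.card_Iso_L,
    show n ^ 2 = n ^ 2 - 1 + 1 from (Nat.sub_add_cancel (Nat.one_le_pow _ _ hn)).symm, pow_succ, ← mul_assoc, mul_comm]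
  exact Nat.mul_le_mul_right _ ((Cyc.oGL_le hn).trans (Nat.mul_le_mul_right _ (Cyc.card_ZI_L F hn)))

section U

variable {K V : Type} [Field K] [Fintype K] [AddCommGroup V] [Module K V] [Finite V]

theorem exists_on {h : HF K V} (hU : IsU h) {k : ℕ} (hk : finrank K V = k) :
    ∃ e : V ≃ₗ[K] (Fin k → K), ∀ x y, h.b x y = ∑ i, e x i * h.τ (e y i) := by
  subst hk
  have : Module.Finite K V := Module.Finite.of_finite
  let b : V →ₛₗ[h.τ] V →ₗ[K] K :=
    { toFun := h.lin
      map_add' := fun _ _ => LinearMap.ext fun _ => h.add_right _ _ _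
      map_smul' := fun _ _ => LinearMap.ext fun _ => h.smul_right _ _ _ }
  obtain ⟨c, hc⟩ := ClassicalGeometry.HermOrthonormal.exists_orthonormal_basis (TH.Cl.IsU.tau_ne hU) h.τ_τ b
    ⟨fun x y => show h.τ (h.b y x) = h.b x y by rw [h.swap y x, hU.1, one_mul]⟩ h.nondeg
  refine ⟨c.equivFun, fun x y => ?_⟩
  change b y x = _
  conv_lhs => rw [← c.sum_equivFun x, ← c.sum_equivFun y]
  simp only [map_sum, LinearMap.sum_apply, LinearMap.map_smulₛₗ, map_smul, LinearMap.smul_apply, hc, smul_eq_mul, mul_ite,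
    mul_one, mul_zero, Finset.sum_ite_eq', Finset.mem_univ, if_true]

theorem exists_basis {h : HF K V} (hU : IsU h) {k : ℕ} (hk : finrank K V = k) {σ : Fin k → Fin k}
    (hσ : Function.Involutive σ) : ∃ f : Basis (Fin k) K V, ∀ i j, h.b (f i) (f (σ j)) = if j = i then 1 else 0 := by
  let h₀ : HF K (Fin k → K) :=
    { τ := h.τ, ε := 1, b := fun x y => ∑ i, x i * h.τ (y (σ i))
      add_left := fun _ _ _ => by simp only [Pi.add_apply, add_mul, Finset.sum_add_distrib]
      smul_left := fun _ _ _ => by simp only [Pi.smul_apply, smul_eq_mul, Finset.mul_sum, mul_assoc]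
      swap := fun x y => by
        rw [one_mul, map_sum, ← Equiv.sum_comp hσ.toPerm]
        exact Finset.sum_congr rfl fun i _ => by rw [map_mul, h.τ_τ, mul_comm, Function.Involutive.coe_toPerm, hσ]
      τ_τ := h.τ_τ
      nondeg := fun v hv => funext fun i => by
        have h1 := hv (Pi.single (σ i) 1)
        rw [Finset.sum_eq_single (σ i) (fun j _ hj => by rw [Pi.single_eq_of_ne hj, zero_mul])
          (fun k => absurd (Finset.mem_univ _) k), Pi.single_eq_same, one_mul, hσ] at h1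
        exact (map_eq_zero h.τ).1 h1 }
  obtain ⟨e, he⟩ := exists_on hU hk
  obtain ⟨e₀, he₀⟩ := exists_on (h := h₀) ⟨rfl, hU.2⟩ (finrank_fin_fun K)
  refine ⟨(Pi.basisFun K (Fin k)).map (e₀.trans e.symm), fun i j => ?_⟩
  simp only [he, Basis.map_apply, LinearEquiv.trans_apply, LinearEquiv.apply_symm_apply, Pi.basisFun_apply]
  refine (he₀ _ _).symm.trans ?_
  change ∑ l, (Pi.single i 1 : Fin k → K) l * h.τ ((Pi.single (σ j) 1 : Fin k → K) (σ l)) = _
  rw [Finset.sum_eq_single i (fun l _ hl => by rw [Pi.single_eq_of_ne hl, zero_mul])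
    (fun k => absurd (Finset.mem_univ _) k), Pi.single_eq_same, one_mul]
  split_ifs with hji
  · rw [hji, Pi.single_eq_same, map_one]
  · rw [Pi.single_eq_of_ne (hσ.injective.ne (Ne.symm hji)), map_zero]

theorem card_ZI_ge {h : HF K V} (hU : IsU h) (F : FR h.EB) {q : ℕ} (hq : Fintype.card K = q ^ 2) [Nontrivial V] :
    q + 1 ≤ Nat.card (ZI F) := by
  rw [← ClassicalGeometry.GUBasic.card_rootsOfUnity_eq hq]
  exact Nat.card_le_card_of_injective (fun c => ⟨Cyc.scU h c, mem_ZI.2 ⟨Cyc.scU_cen _, Cyc.scU_unit (by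
    rw [Cyc.tau_pow hU hq, ← pow_succ']; exact congrArg Units.val c.2)⟩⟩)
    fun _ _ e => Subtype.ext (Cyc.scU_inj (Subtype.mk.inj e))

theorem cen_scal (h : HF K V) [Nontrivial V] {z : h.EB} (hz : z ∈ Subring.center h.EB) : ∃ c : K, z = h.eb (c • 1) :=
  (SB.Tor.exists_sc h hz).imp fun _ hc => h.ap_ext hc

theorem md_U {h : HF K V} (hU : IsU h) {q k : ℕ} (hq : Fintype.card K = q ^ 2) (hk : finrank K V = k) (h0 : 0 < k) :
    Md h.EB q k := by
  have : Nontrivial V := Module.nontrivial_of_finrank_pos (R := K) (hk ▸ h0)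
  have hu : ∀ σ : Fin k → Fin k, Function.Involutive σ → ∃ E, MU E ∧ ∀ i j, star (E i j : h.EB) = E (σ j) (σ i) :=
    fun σ hσ => by
    obtain ⟨f, hf⟩ := exists_basis hU hk hσ
    refine ⟨fun i j => h.eb (h.ro (f i) (f (σ j))), ⟨⟨fun i j k l => ?_, ?_⟩, fun a ha => ?_⟩,
      fun i j => h.ap_ext fun v => ?_⟩
    · refine (h.ro_mul _ _ _ _).trans ?_
      rw [hf]
      split_ifs
      · exact one_smul _ _
      · exact zero_smul _ _
    · refine f.ext fun j => (LinearMap.sum_apply _ _ _).trans ?_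
      exact (Finset.sum_eq_single j (fun i _ hi => (h.ro_apply _ _ _).trans (by rw [hf, if_neg hi, zero_smul]))
        fun k => absurd (Finset.mem_univ _) k).trans ((h.ro_apply _ _ _).trans (by rw [hf, if_pos rfl, one_smul]; rfl))
    · let o : Fin k := ⟨0, h0⟩
      rw [show a = h.eb (h.b (h.ap a (f o)) (f (σ o)) • 1) from f.ext fun i => ?_]
      · exact h.smul_mem_center _
      · have h1 : h.ap a (h.ro (f i) (f (σ o)) (f o)) = h.ro (f i) (f (σ o)) (h.ap a (f o)) :=
          congrArg (fun x => h.ap x (f o)) (ha i o)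
        rwa [h.ro_apply, hf, if_pos rfl, one_smul, h.ro_apply] at h1
    · rw [SB.Cl.ap_star_ro, h.ap_eb, h.ro_apply, hσ, h.swap (f i) v, hU.1, one_mul]
  obtain ⟨E, hE, -⟩ := hu id fun _ => rfl
  obtain ⟨c, hc⟩ := Size.exists_half_U hU
  let F : FR h.EB := ⟨h.eb (c • 1), Lmax _, by rw [Size.star_scal, Size.scal_add, hc, Size.scal_one], Or.inr rfl⟩
  refine ⟨h0, hu, card_cen hE h0 (by rw [Size.card_EB, hq, hk]), ?_, fun μ h1 h2 => ?_⟩
  · rw [← card_Iso (F := F) rfl, ← card_ZI F, Size.card_Iso_U hU hq, hk]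
    refine (Size.oU_le (Nat.pos_of_ne_zero ?_) _).trans (Nat.mul_le_mul_right _ (card_ZI_ge hU F hq))
    rintro rfl
    exact Fintype.card_ne_zero hq
  · obtain ⟨t, rfl⟩ := cen_scal h h1
    obtain ⟨v, hv⟩ := exists_ne (0 : V)
    rw [Size.star_scal] at h2
    obtain ⟨x, hx⟩ := ClassicalGeometry.InvolutiveNorm.exists_mul_sigma_eq (TH.Cl.IsU.tau_ne hU) h.τ_τ
      (smul_left_injective K hv (congrArg (fun a => h.ap a v) h2) : h.τ t = t)
    exact ⟨h.eb (x • 1), h.smul_mem_center _, by rw [Size.star_scal, Size.scal_mul, mul_comm, hx]⟩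

end U

theorem exists_md {R : Type} [Ring R] [StarRing R] [Finite R] (ss : SS R) {c : R} {δ : Rˣ} (l : LU c δ) :
    ∃ q k, Md R q k := by
  rcases exists_kind ss ⟨c, Lmax R, l.ca, Or.inr rfl⟩ with ⟨K, _, _, n, e, hn, he⟩ | ⟨K, _, _, n, h, e, he, hn, k⟩
  · exact ⟨_, _, (md_LR hn).of_SI he⟩
  have : Nonempty (Fin n) := ⟨⟨0, hn⟩⟩
  have hU : IsU h := by
    by_contra hU
    have hτ : ∀ c, h.τ c = c := by
      rcases k with k | k | ⟨_, k⟩
      exacts [absurd k.1 hU, k.1, k.1]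
    have h1 : ∀ z ∈ Subring.center R, star z = z := fun z hz => e.injective (by
      obtain ⟨t, ht⟩ := cen_scal h ((Size.mem_center_map e).2 hz)
      rw [he, ht, Size.star_scal, hτ])
    have h2 : (δ : R) * (c + star c) = 0 := by
      rw [h1 c l.cc, ← two_mul, ← mul_assoc, mul_two, ← sub_neg_eq_add, ← l.ds, h1 _ l.dc, sub_self, zero_mul]
    rw [l.ca, mul_one] at h2
    have := ss.1
    exact δ.ne_zero h2
  obtain ⟨q, -, hq⟩ := Size.exists_q hU
  exact ⟨q, n, (md_U hU hq (finrank_fin_fun K) hn).of_SI he⟩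

end Cfsg.Agent.N2C.Ten
end

-- part: N2/Cl/Ten/Cnt
section
prune_inst 0x4356065447d4000000018859271202024240005b200600000d8c20540014ed3622dc3294146a019161a2a3a0100010068101000c04040000000000400000100208082500092080d0c660007803087180c00000000000000000000000000041004000000000
set_option linter.all false
open scoped Cfsg.Agent.FastGrp

/-!
# N2 classical, tensor decompositions: the order of the stabiliser (helper54)

`CS T` central simple subrings, `CS.cz`, `CS.data`; `card_stab`, `orb`, `tow`; `gd_of_over`.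
-/

set_option autoImplicit false
set_option linter.unusedSectionVars false

namespace Cfsg.Agent.N2C.Ten

open Cfsg.Agent.DS.Cl Cfsg.Agent.DS.Cl.Fwd
open Cfsg.Agent.N2C.Cyc (I0 Lf el)
open scoped Pointwise

variable {A : Type} [Ring A] [StarRing A] [Finite A]

/-- the centraliser of a subring -/
abbrev Cz (B : Subring A) : Subring A := Subring.centralizer (B : Set A)

/-- central simple star-closed subrings -/
structure CS (T : Subring A) : Prop where
  nt : Nontrivial A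
  cen_le : Subring.center A ≤ T
  st : ∀ x ∈ T, star x ∈ T
  ss : ∀ I : AddSubgroup A, (∀ x ∈ I, x ∈ T) → (∀ x ∈ I, ∀ a ∈ T, a * x ∈ I) → (∀ x ∈ I, star x ∈ I) → I = ⊥ ∨ 1 ∈ I
  cen : ∀ z ∈ T, (∀ y ∈ T, y * z = z * y) → z ∈ Subring.center A

/-- the data of a central simple subring -/
structure Dt (T : Subring A) (q k : ℕ) : Prop where
  pos : 0 < k
  units : ∀ σ : Fin k → Fin k, Function.Involutive σ → ∃ E, MU0 E ∧ (∀ i j, E i j ∈ T) ∧ CE E = Cz T ∧
    ∀ i j, star (E i j : A) = E (σ j) (σ i)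
  card : Nat.card T = q ^ (2 * k ^ 2)
  uni : q * uu T ≤ uu (Subring.center A) * q ^ (k ^ 2)

theorem cs_top (ss : SS A) : CS (⊤ : Subring A) := by
  refine ⟨ss.1, le_top, fun _ _ => trivial, fun I _ h2 h3 => ?_, fun z _ h => Subring.mem_center_iff.2 fun y => h y trivial⟩
  let J : Ideal A := { I with smul_mem' := fun c x hx => h2 x hx c trivial }
  rcases ss.2 J (fun x hx a => show x * a ∈ I by simpa only [_root_.StarMul.star_mul, _root_.star_star] using h3 _ (h2 _ (h3 x hx) (star a) trivial)) h3 with h | h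
  · exact Or.inl (eq_bot_iff.2 fun x hx => (h.le (show x ∈ J from hx) :))
  · exact Or.inr (show (1 : A) ∈ J from h ▸ trivial)

theorem cs_of_tens (ss : SS A) {𝓑 : Set (Subring A)} (h : Tens 𝓑) {B : Subring A} (hB : B ∈ 𝓑) : CS B :=
  ⟨ss.1, h.cen_le B hB, h.star_mem B hB, Blk.ss_elim _ (h.ss ss hB), fun _ => h.cen_blk hB⟩

namespace CS

variable {T : Subring A} (h : CS T)
include h

/-- the subring as a ring with involution -/
abbrev blk : Blk A := Blk.ofSubring T h.st

theorem ss_blk : SS h.blk.T := Blk.ss_of _ (have := h.nt; one_ne_zero) h.ss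

theorem cen_iff {z : h.blk.T} : z ∈ Subring.center h.blk.T ↔ h.blk.val z ∈ Subring.center A := by
  rw [Blk.mem_center_iff]
  exact ⟨h.cen _ (h.blk.val_mem z), fun hz y _ => cen_comm hz y⟩

theorem uu_blk {S : Subring h.blk.T} {S' : Subring A} (h1 : ∀ x, x ∈ S ↔ h.blk.val x ∈ S') (h2 : S' ≤ T) :
    uu S = uu S' :=
  Nat.card_congr ⟨fun x => ⟨h.blk.val x.1, (h1 _).1 x.2.1, congrArg h.blk.val x.2.2⟩,
    fun x => ⟨h.blk.mk' x.1 (h2 x.2.1), (h1 _).2 x.2.1, h.blk.val_inj x.2.2⟩, fun _ => rfl, fun _ => rfl⟩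

theorem data {c : A} {δ : Aˣ} (l : LU c δ) {q : ℕ} (hq : Nat.card (Subring.center A) = q ^ 2) : ∃ k, Dt T q k := by
  let δ' : h.blk.Tˣ := ⟨h.blk.mk' δ (h.cen_le l.dc), h.blk.mk' (δ⁻¹ : Aˣ) (h.cen_le (inv_cen l.dc)),
    h.blk.val_inj δ.mul_inv, h.blk.val_inj δ.inv_mul⟩
  obtain ⟨q', k, m⟩ := exists_md h.ss_blk (c := h.blk.mk' c (h.cen_le l.cc)) (δ := δ')
    ⟨h.cen_iff.2 l.cc, h.blk.val_inj l.ca, h.cen_iff.2 l.dc, h.blk.val_inj l.ds⟩
  have h1 : Nat.card (Subring.center h.blk.T) = Nat.card (Subring.center A) :=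
    Nat.card_congr ⟨fun x => ⟨h.blk.val x.1, h.cen_iff.1 x.2⟩, fun x => ⟨h.blk.mk' x.1 (h.cen_le x.2), h.cen_iff.2 x.2⟩,
      fun _ => rfl, fun _ => rfl⟩
  obtain rfl : q' = q := Nat.pow_left_injective two_ne_zero (m.cen.symm.trans (h1.trans hq))
  have hu : ∀ σ : Fin k → Fin k, Function.Involutive σ → ∃ E, MU0 E ∧ (∀ i j, E i j ∈ T) ∧ CE E = Cz T ∧
      ∀ i j, star (E i j : A) = E (σ j) (σ i) := fun σ hσ => by
    obtain ⟨E, h2, h3⟩ := m.units σ hσ
    have h4 : MU0 fun i j => h.blk.val (E i j) := ⟨fun i j k l => by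
      have h1 := congrArg h.blk.val (h2.mul i j k l)
      split_ifs at h1 ⊢ <;> exact h1, (map_sum _ _ _).symm.trans (congrArg h.blk.val h2.sum)⟩
    have h5 : ∀ i j, h.blk.val (E i j) ∈ T := fun i j => h.blk.val_mem _
    refine ⟨_, h4, h5, le_antisymm (fun x hx t ht => ?_) fun x hx => mem_CE.2 fun i j => (hx _ (h5 i j)).symm,
      fun i j => congrArg h.blk.val (h3 i j)⟩
    rw [h4.expand t, Finset.sum_mul, Finset.mul_sum]
    refine Finset.sum_congr rfl fun i _ => ?_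
    rw [Finset.sum_mul, Finset.mul_sum]
    refine Finset.sum_congr rfl fun j _ => ?_
    have h6 : coef (fun i j => h.blk.val (E i j)) t i j ∈ Subring.center A :=
      h.cen_iff.1 (h2.cen (h.blk.mk' _ (coef_mem h5 ht i j)) fun a b => h.blk.val_inj (h4.coef_comm t i j a b))
    rw [mul_assoc, ← mem_CE.1 hx, ← mul_assoc, ← mul_assoc, cen_comm h6 x]
  refine ⟨k, m.pos, hu, ?_, ?_⟩
  · obtain ⟨E, h2, h3, h4, -⟩ := hu id fun _ => rfl
    rw [card_eq_pow h2 h3, h4, show T ⊓ Cz T = Subring.center A from le_antisymm (fun z hz => h.cen z hz.1 hz.2)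
      (le_inf h.cen_le fun z hz y _ => cen_comm hz y), hq, ← pow_mul]
  · rw [← h.uu_blk (S := ⊤) (fun x => iff_of_true trivial (h.blk.val_mem x)) le_rfl,
      ← h.uu_blk (fun _ => h.cen_iff) h.cen_le]
    exact m.uni

theorem cz {B : Subring A} {q k : ℕ} (d : Dt B q k) (hB : B ≤ T) : CS (T ⊓ Cz B) := by
  obtain ⟨E, h1, h2, h3, h4⟩ := d.units id fun _ => rfl
  have hE : ∀ i j, E i j ∈ T := fun i j => hB (h2 i j)
  rw [← h3]
  refine ⟨h.nt, le_inf h.cen_le fun z hz => mem_CE.2 fun _ _ => (cen_comm hz _).symm,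
    fun x hx => ⟨h.st x hx.1, star_CE h4 hx.2⟩, fun I i1 i2 i3 => ?_, fun z hz k => h.cen z hz.1 fun t ht => ?_⟩
  · let o : Fin k := ⟨0, d.pos⟩
    have i4 : ∀ x ∈ I, ∀ a ∈ T ⊓ CE E, x * a ∈ I := fun x hx a ha => by
      simpa only [_root_.StarMul.star_mul, _root_.star_star] using i3 _ (i2 _ (i3 x hx) (star a) ⟨h.st a ha.1, star_CE h4 ha.2⟩)
    let J : AddSubgroup A :=
      { carrier := {y | y ∈ T ∧ ∀ a ∈ T, ∀ b ∈ T, coef E (a * y * b) o o ∈ I}
        add_mem' := fun hx hy => ⟨add_mem hx.1 hy.1, fun a ha b hb => by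
          simpa only [coef, mul_add, add_mul, Finset.sum_add_distrib] using add_mem (hx.2 a ha b hb) (hy.2 a ha b hb)⟩
        zero_mem' := ⟨zero_mem _, fun a _ b _ => by simp only [coef, _root_.MulZeroClass.mul_zero, _root_.MulZeroClass.zero_mul, _root_.Finset.sum_const_zero, _root_.ZeroMemClass.zero_mem]⟩
        neg_mem' := fun hx => ⟨neg_mem hx.1, fun a ha b hb => by
          simpa only [coef, mul_neg, neg_mul, Finset.sum_neg_distrib] using neg_mem (hx.2 a ha b hb)⟩ }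
    rcases h.ss J (fun _ hx => hx.1) (fun x hx t ht => ⟨mul_mem ht hx.1, fun a ha b hb => by
      simpa only [mul_assoc] using hx.2 (a * t) (mul_mem ha ht) b hb⟩) (fun x hx => ⟨h.st x hx.1, fun a ha b hb => by
      simpa only [coef, star_sum, star_mul, star_star, h4, id, mul_assoc] using
        i3 _ (hx.2 (star b) (h.st b hb) (star a) (h.st a ha))⟩) with h5 | h5
    · refine Or.inl (eq_bot_iff.2 fun x hx => h5.le (show x ∈ J from ⟨(i1 x hx).1, fun a ha b hb => ?_⟩))
      rw [mul_assoc, coef_mul_coef h1]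
      refine I.sum_mem fun l _ => i2 _ ?_ _ ⟨coef_mem hE ha _ _, coef_CE h1 _ _ _⟩
      rw [show coef E (x * b) l o = x * coef E b l o by
        simp only [coef, Finset.mul_sum, ← mul_assoc, mem_CE.1 (i1 x hx).2]]
      exact i4 x hx _ ⟨coef_mem hE hb _ _, coef_CE h1 _ _ _⟩
    · have h6 := h5.2 1 (one_mem _) 1 (one_mem _)
      rw [mul_one, mul_one, coef_one h1] at h6
      exact Or.inr h6
  · rw [h1.expand t, Finset.sum_mul, Finset.mul_sum]
    refine Finset.sum_congr rfl fun i _ => ?_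
    rw [Finset.sum_mul, Finset.mul_sum]
    refine Finset.sum_congr rfl fun j _ => ?_
    rw [mul_assoc, ← mem_CE.1 hz.2, ← mul_assoc, ← mul_assoc, k _ ⟨coef_mem hE ht i j, coef_CE h1 t i j⟩]

/-- Skolem-Noether in a factor -/
theorem sn (nrm : ∀ μ ∈ Subring.center A, star μ = μ → ∃ c ∈ Subring.center A, μ = star c * c) {v : Aˣ}
    (hv : (v : A) * star (v : A) = 1) (hT : cj A v • T = T) :
    ∃ g : Aˣ, (g : A) ∈ T ∧ (g : A) * star (g : A) = 1 ∧ ∀ x ∈ T, cj A v x = cj A g x := by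
  have h1 : cj A v ∈ h.blk.stab := fun x => by
    change x ∈ T ↔ cj A v x ∈ T
    conv_rhs => rw [← hT]
    exact apply_mem_smul.symm
  obtain ⟨g', hg'⟩ := h.ss_blk.sn (γ := h.blk.res ⟨_, h1⟩) fun z hz => h.blk.val_inj (cj_mem_Lin v _ (h.cen_iff.1 hz))
  let g : Aˣ := ⟨h.blk.val g', h.blk.val (g'⁻¹ : h.blk.Tˣ), congrArg h.blk.val g'.mul_inv, congrArg h.blk.val g'.inv_mul⟩
  have h2 : star (g : A) * g ∈ Subring.center A := h.cen_iff.1 (cj_SAut_cen (hg' ▸ h.blk.res_SAut
    (cj_SAut_of_cen (by rw [mul_eq_one_comm.1 hv]; exact one_mem _))))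
  obtain ⟨c, hc, e⟩ := nrm _ h2 (by rw [star_mul, star_star])
  obtain ⟨z, rfl⟩ : IsUnit c := (IsUnit.mul_iff.1 (e ▸ (g.isUnit.star.mul g.isUnit) : IsUnit (star c * c))).2
  refine ⟨g * z⁻¹, mul_mem (h.blk.val_mem _) (h.cen_le (inv_cen hc)), mul_eq_one_comm.1 ?_, fun x hx => ?_⟩
  · rw [Units.val_mul, star_mul, mul_assoc, ← mul_assoc (star (g : A)), e, mul_assoc, Units.mul_inv, mul_one, ← star_mul,
      Units.mul_inv, star_one]
  · rw [cj_eq_iff.2 ⟨z⁻¹, inv_cen hc, rfl⟩]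
    exact congrArg (fun γ : RingAut h.blk.T => h.blk.val (γ (h.blk.mk' x hx))) hg'

end CS

theorem Dt.two {T : Subring A} {q k : ℕ} (d : Dt T q k) (h : ¬ T ≤ Subring.center A) : 2 ≤ k := by
  by_contra h2
  obtain rfl : k = 1 := by have := d.pos; omega
  obtain ⟨E, h1, -, h3, -⟩ := d.units id fun _ => rfl
  have h4 : E 0 0 = 1 := by simpa using h1.sum
  refine h fun x hx => Subring.mem_center_iff.2 fun a => (h3.le (mem_CE.2 fun i j => ?_) x hx).symm
  rw [Subsingleton.elim i 0, Subsingleton.elim j 0, h4, mul_one, one_mul]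

theorem Dt.card_eq {B T : Subring A} {q k : ℕ} (d : Dt B q k) (h : B ≤ T) :
    Nat.card T = Nat.card ↥(T ⊓ Cz B) ^ (k ^ 2) := by
  obtain ⟨E, h1, h2, h3, -⟩ := d.units id fun _ => rfl
  rw [← h3]
  exact card_eq_pow h1 fun i j => h (h2 i j)

theorem uni_mul {x y : A} (hx : x * star x = 1) (hy : y * star y = 1) : x * y * star (x * y) = 1 := by
  rw [star_mul, mul_assoc, ← mul_assoc y, hy, one_mul, hx]

/-- **the stabiliser of two factors** -/
theorem card_stab (nrm : ∀ μ ∈ Subring.center A, star μ = μ → ∃ c ∈ Subring.center A, μ = star c * c)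
    {B₁ B₂ : Subring A} (h₁ : CS B₁) (h₂ : CS B₂) (hc : B₂ ≤ Cz B₁) (G : Subgroup Aˣ)
    (hG : ∀ v ∈ G, (v : A) * star (v : A) = 1 ∧ cj A v • B₁ = B₁ ∧ cj A v • B₂ = B₂) :
    Nat.card G * uu (Subring.center A) ^ 2 ≤ uu B₁ * uu B₂ * uu (Cz B₁ ⊓ Cz B₂) := by
  have key : ∀ v : G, ∃ a b d : A, (a ∈ B₁ ∧ a * star a = 1) ∧ (b ∈ B₂ ∧ b * star b = 1) ∧
      (d ∈ Cz B₁ ⊓ Cz B₂ ∧ d * star d = 1) ∧ ((v : Aˣ) : A) = a * b * d := fun v => by
    obtain ⟨v1, v2, v3⟩ := hG v v.2
    obtain ⟨a, a1, a2, a3⟩ := h₁.sn nrm v1 v2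
    obtain ⟨b, b1, b2, b3⟩ := h₂.sn nrm v1 v3
    have h1 : ∀ x ∈ B₁, cj A b x = x := fun x hx => cj_eq_of_mul (hc b1 x hx).symm
    have h2 : ∀ x ∈ B₂, cj A a x = x := fun x hx => cj_eq_of_mul (hc hx _ a1)
    have h3 : ∀ x, cj A v x = cj A a (cj A b x) → x * (((a * b)⁻¹ * v : Aˣ) : A) = ((a * b)⁻¹ * v : Aˣ) * x :=
      fun x hx => by
      rw [← cj_mul_eq, map_mul, map_inv, map_mul, ra_mul, hx, ← ra_mul (cj A a), ra_inv_apply]
    refine ⟨a, b, ((a * b)⁻¹ * v : Aˣ), ⟨a1, a2⟩, ⟨b1, b2⟩, ⟨⟨fun x hx => h3 x (by rw [h1 x hx, a3 x hx]),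
      fun x hx => h3 x (by rw [b3 x hx, h2 (cj A b x) (mul_mem (mul_mem b1 hx) (inv_mem_fin b1))])⟩, ?_⟩, ?_⟩
    · have h4 : ((a * b : Aˣ) : A) * star ((a * b : Aˣ) : A) = 1 := uni_mul a2 b2
      refine uni_mul ?_ v1
      rw [star_eq_inv h4, star_star, mul_eq_one_comm.1 h4]
    · rw [← Units.val_mul, ← Units.val_mul, mul_inv_cancel_left]
  choose a b d ha hb hd e using key
  rw [sq, uu, uu, uu, uu, ← Nat.card_prod, ← Nat.card_prod, ← Nat.card_prod, ← Nat.card_prod]
  have hst : ∀ {x : A}, x * star x = 1 → star x * star (star x) = 1 := fun hx => by rw [star_star, mul_eq_one_comm.1 hx]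
  refine Nat.card_le_card_of_injective (fun x =>
    ((⟨a x.1 * x.2.1, mul_mem (ha _).1 (h₁.cen_le x.2.1.2.1), uni_mul (ha _).2 x.2.1.2.2⟩,
      ⟨b x.1 * x.2.2, mul_mem (hb _).1 (h₂.cen_le x.2.2.2.1), uni_mul (hb _).2 x.2.2.2.2⟩),
      ⟨star (x.2.1.1 * x.2.2.1) * d x.1, mul_mem ⟨fun y _ => cen_comm (star_cen (mul_mem x.2.1.2.1 x.2.2.2.1)) y,
        fun y _ => cen_comm (star_cen (mul_mem x.2.1.2.1 x.2.2.2.1)) y⟩ (hd _).1,
        uni_mul (hst (uni_mul x.2.1.2.2 x.2.2.2.2)) (hd _).2⟩)) fun x y k => ?_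
  have k1 : a x.1 * x.2.1 = a y.1 * y.2.1 := Subtype.mk.inj (Prod.mk.inj (Prod.mk.inj k).1).1
  have k2 : b x.1 * x.2.2 = b y.1 * y.2.2 := Subtype.mk.inj (Prod.mk.inj (Prod.mk.inj k).1).2
  have k3 : star (x.2.1.1 * x.2.2.1) * d x.1 = star (y.2.1.1 * y.2.2.1) * d y.1 := Subtype.mk.inj (Prod.mk.inj k).2
  have k4 : ∀ (v : G) (s t : {x : A // x ∈ Subring.center A ∧ x * star x = 1}),
      a v * s * (b v * t) * (star (s.1 * t.1) * d v) = (v : Aˣ) := fun v s t => by
    rw [e, mul_assoc (a v), ← mul_assoc s.1, ← cen_comm s.2.1, mul_assoc (b v), ← mul_assoc (a v), mul_assoc,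
      ← mul_assoc (s.1 * t.1), uni_mul s.2.2 t.2.2, one_mul]
  have k5 : x.1 = y.1 := Subtype.ext (Units.ext (by rw [← k4 x.1 x.2.1 x.2.2, k1, k2, k3, k4]))
  rw [← k5] at k1 k2
  exact Prod.ext k5 (Prod.ext (Subtype.ext ((IsUnit.of_mul_eq_one _ (ha _).2).mul_left_cancel k1))
    (Subtype.ext ((IsUnit.of_mul_eq_one _ (hb _).2).mul_left_cancel k2)))

omit [StarRing A] in
/-- the stabiliser of a subring -/
def St (B : Subring A) : Subgroup Aˣ := (MulAction.stabilizer (RingAut A) B).comap (cj A)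

omit [StarRing A] in
theorem orb (G : Subgroup Aˣ) (B : Subring A) (X : Set (Subring A)) (h : ∀ v ∈ G, cj A v • B ∈ X) :
    Nat.card G ≤ X.ncard * Nat.card ↥(G ⊓ St B) := by
  let _ : MulAction G (Subring A) := MulAction.compHom _ ((cj A).comp G.subtype)
  have : Finite (Subring A) := Finite.of_injective _ SetLike.coe_injective
  rw [← (MulAction.stabilizer G B).index_mul_card, MulAction.index_stabilizer]
  refine Nat.mul_le_mul (Set.ncard_le_ncard (by rintro _ ⟨v, rfl⟩; exact h v v.2) (Set.toFinite X)) ?_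
  exact Nat.card_le_card_of_injective (fun v => ⟨v.1.1, v.1.2, v.2⟩)
    fun _ _ e => Subtype.ext (Subtype.ext (Subtype.mk.inj e))

/-- the number of factors -/
theorem tow {𝓑 : Set (Subring A)} (h : Tens 𝓑) {q : ℕ} (hd : ∀ B ∈ 𝓑, ∃ k, Dt B q k) (s : Finset (Subring A)) :
    ∀ T : Subring A, Subring.center A ≤ T → (∀ B ∈ s, B ∈ 𝓑 ∧ B ≤ T) →
      Nat.card (Subring.center A) ^ 4 ^ s.card ≤ Nat.card T := by
  classical
  induction s using Finset.induction_on with
  | empty => exact fun T hT _ => by simpa only [_root_.Finset.card_empty, _root_.pow_zero, _root_.pow_one] using Nat.card_le_card_of_injective _ (Subring.inclusion_injective hT)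
  | insert B s hB ih =>
    intro T hT hs
    obtain ⟨b1, b2⟩ := hs B (Finset.mem_insert_self _ _)
    obtain ⟨k, d⟩ := hd B b1
    have h1 := ih (T ⊓ Cz B) (le_inf hT fun z hz y _ => cen_comm hz y) fun B' hB' => by
      obtain ⟨c1, c2⟩ := hs B' (Finset.mem_insert_of_mem hB')
      exact ⟨c1, le_inf c2 fun y hy x hx => h.comm B b1 B' c1 (fun e => hB (e ▸ hB')) x hx y hy⟩
    rw [Finset.card_insert_of_notMem hB, pow_succ, pow_mul, d.card_eq b2]
    exact (Nat.pow_le_pow_left h1 4).trans (Nat.pow_le_pow_right Nat.card_pos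
      (Nat.pow_le_pow_left (d.two (h.not_le B b1)) 2))

/-- **criterion with an overgroup** -/
theorem gd_of_over {F : FR A} {H M : Subgroup (RingAut A)} {p : ℕ} (c : Ctx F H p) (hM : H ≤ M) {u : Aˣ} (hu : u ∈ I0 F)
    (huM : cj A u ∈ M) {k : ℕ} (h1 : N2.cn (el hu) ≤ k) (h2 : 2 ≤ k) (h3 : k ^ 3 * Nat.card (Lf F M) ≤ Nat.card (I0 F)) :
    Gd F H := by
  have h4 : ¬ F.S ≤ M := fun hS => by
    rw [show Lf F M = I0 F from inf_eq_right.2 fun v hv => hS ⟨v, hv, rfl⟩] at h3
    have h5 : 0 < Nat.card (I0 F) := Nat.card_pos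
    have h6 := Nat.pow_le_pow_left h2 3
    nlinarith only [h3, h5, h6]
  exact Cyc.gd_of_lift hu (c.max' hM h4 ⟨u, hu, rfl⟩ huM) h1 ((Nat.mul_le_mul_left _
    (Subgroup.card_le_of_le (inf_le_inf_right _ (Subgroup.comap_mono hM)))).trans h3)

end Cfsg.Agent.N2C.Ten

private theorem dce_d40b2c6c7d57 : _root_.True := by
  try have : _root_.True := by simp only [_root_.Cfsg.Agent.N2C.Cyc.el.congr_simp]
  exact _root_.True.intro
end

-- part: N2/Cl/Ten/Main
section
prune_inst 0x4155041405d4000000000808011200020340004b00000000080820444090881600dc20040048001161a2a108100010020001000800040000000000400000700000080000410000c08400006000080000000000000000000000000000000000004000000000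
set_option linter.all false
open scoped Cfsg.Agent.FastGrp

/-!
# N2 classical: tensor decompositions, linear and unitary groups (helper54)

The element is `J ⊗ s`, `J` regular unipotent in one factor, `s` semisimple in a factor of minimal dimension.
-/

set_option autoImplicit false
set_option linter.unusedSectionVars false

namespace Cfsg.Agent.N2C.Ten

open Cfsg.Agent.DS.Cl Cfsg.Agent.DS.Cl.Fwd Module
open Cfsg.Agent.N2C.Cyc (I0 Lf ZI el cU)
open Cfsg.Agent.TH.Cl (TenD KL KU)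
open scoped Pointwise

variable {A : Type} [Ring A] [StarRing A] [Finite A]

theorem Md.card {q k : ℕ} (h : Md A q k) : Nat.card (⊤ : Subring A) = q ^ (2 * k ^ 2) := by
  obtain ⟨E, h1, -⟩ := h.units id fun _ => rfl
  rw [card_eq_pow h1.toMU0 (T := ⊤) fun _ _ => trivial, show ⊤ ⊓ CE E = Subring.center A from Subring.ext fun x =>
    ⟨fun k => h1.cen x (mem_CE.1 k.2), fun k => ⟨trivial, mem_CE.2 fun _ _ => (cen_comm k _).symm⟩⟩, h.cen, ← pow_mul]

theorem dim_eq {q n k m : ℕ} (hq : 2 ≤ q) (h : q ^ (2 * n ^ 2) = (q ^ (2 * m ^ 2)) ^ k ^ 2) : n = k * m := by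
  rw [← pow_mul] at h
  have h1 := Nat.pow_right_injective hq h
  exact Nat.pow_left_injective two_ne_zero (show n ^ 2 = (k * m) ^ 2 by linarith only [h1])

theorem cj_mem_stab {𝓑 : Set (Subring A)} (t : Tens 𝓑) {B : Subring A} (hB : B ∈ 𝓑) {g : Aˣ} (hg : (g : A) ∈ B) :
    cj A g ∈ setStab (RingAut A) 𝓑 := by
  refine le_setStab (P := ptStab _ 𝓑) (fun g hg B hB => by rwa [hg B hB]) fun B' hB' => ?_
  by_cases e : B' = B
  · subst e
    exact smul_eq_of_inv (fun x hx => mul_mem (mul_mem hg hx) (inv_mem_fin hg))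
      fun x hx => mul_mem (mul_mem (inv_mem_fin hg) hx) hg
  · exact smul_eq_of_fix fun x hx => cj_eq_of_mul (t.comm B' hB' B hB e x hx g hg).symm

theorem pw_cong {M : Type*} [Monoid M] {x : M} {k a b : ℕ} (hx : x ^ k = 1) (h : a ≡ b [MOD k]) : x ^ a = x ^ b := by
  rw [pow_eq_pow_mod a hx, h, ← pow_eq_pow_mod b hx]

theorem uu_C1_le {s : Aˣ} (hs : (s : A) * star (s : A) = 1) : ∀ x ∈ C1 (s : A), star x ∈ C1 (s : A) := fun _ hx =>
  mem_C1.2 (Cyc.star_comm hs (mul_eq_one_comm.1 hs) (mem_C1.1 hx))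

/-- the common properties of linear and unitary groups -/
structure Frm (F : FR A) (p q n : ℕ) (c : A) (δ : Aˣ) : Prop where
  lu : LU c δ
  md : Md A q n
  two : 2 ≤ q
  five : 5 ≤ n
  zle : uu (Subring.center A) ≤ q + 1
  big : q ^ n ^ 2 ≤ 2 * q * Nat.card (I0 F)
  unip : ∀ u ∈ F.Iso, ∀ a, u ^ p ^ a = 1 → u ∈ I0 F
  kind : (∃ ε : A, Eps ε ∧ uu (Subring.center A) ≤ q) ∨ ((∀ x ∈ Subring.center A, x ≠ 0 → IsUnit x) ∧ p.Coprime (q + 1) ∧
    (∀ z ∈ ZI F, z ^ (q + 1) = 1) ∧ q + 1 ≤ uu (Subring.center A))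

theorem exists_lam (h1 : ∀ x ∈ Subring.center A, x ≠ 0 → IsUnit x) (h2 : 3 ≤ uu (Subring.center A)) :
    ∃ lam ∈ Subring.center A, lam * star lam = 1 ∧ IsUnit (lam - star lam) := by
  classical
  by_contra hc
  have h3 : ∀ x : {x : A // x ∈ Subring.center A ∧ x * star x = 1}, x.1 ≠ 1 → x.1 = -1 := fun x hx => by
    have h4 : x.1 - star x.1 = 0 := by
      by_contra h4
      exact hc ⟨x, x.2.1, x.2.2, h1 _ (sub_mem x.2.1 (star_cen x.2.1)) h4⟩
    have h5 := x.2.2
    rw [← sub_eq_zero.1 h4] at h5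
    exact eq_neg_of_add_eq_zero_left ((h1 _ (sub_mem x.2.1 (one_mem _)) (sub_ne_zero.2 hx)).mul_right_eq_zero.1 (by
      rw [sub_mul, mul_add, h5, one_mul, mul_one, add_comm, sub_self]))
  have h4 := Nat.card_le_card_of_injective (fun x : {x : A // x ∈ Subring.center A ∧ x * star x = 1} => decide (x.1 = 1))
    fun x y e => Subtype.ext (by
      by_cases hx : x.1 = 1
      · rw [hx, (decide_eq_decide.1 e).1 hx]
      · rw [h3 x hx, h3 y fun k => hx ((decide_eq_decide.1 e).2 k)])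
  rw [Nat.card_eq_fintype_card (α := Bool), Fintype.card_bool] at h4
  exact absurd (h2.trans h4) (by norm_num)

namespace Frm

variable {F : FR A} {H : Subgroup (RingAut A)} {p q n : ℕ} {c : A} {δ : Aˣ} (f : Frm F p q n c δ)
include f

theorem iso {u : Aˣ} (hu : (u : A) * star (u : A) = 1) : u ∈ F.Iso := mem_Iso_max (F.L_eq f.lu.cc f.lu.ca) hu

theorem nil (x : Ctx F H p) (u : Aˣ) (hu : (u : A) * star (u : A) = 1) (hn : IsNilpotent ((u : A) - 1)) :
    u ∈ I0 F ∧ ∃ a, u ^ p ^ a = 1 := by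
  have := x.ss.1
  obtain ⟨a, ha⟩ := exists_pow_one x.prime x.char hn
  rw [add_sub_cancel] at ha
  exact ⟨f.unip u (f.iso hu) a (Units.ext ha), a, Units.ext ha⟩

/-- the element `J ⊗ s` -/
theorem step (x : Ctx F H p) {B : Subring A} (h : CS B) {a : ℕ} (d : Dt B q (a + 1)) {s : Aˣ} (s1 : s ∈ I0 F)
    (s2 : (s : A) ∈ Cz B) {r : ℕ} (hr : p.Coprime r) (s3 : s ^ r = 1) {β : ℕ}
    (hβ : Nat.card ↥(Cz B ⊓ C1 (s : A)) ≤ β ^ 2) : ∃ J ∈ I0 F, (J : A) ∈ B ∧ (∃ N, (J * s) ^ N = s ∧ N ≡ 1 [MOD r]) ∧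
      cU ((J * s : Aˣ) : A) ≤ uu (Cz B ⊓ C1 (s : A)) * β ^ a := by
  obtain ⟨E, h1, h2, h3, h4⟩ := d.units Fin.rev Fin.rev_rev
  obtain ⟨J, j1, j2, j3, j4⟩ := f.lu.exists_J (star_sh h4) ⟨_, sh_nil h1⟩ h.cen_le (sh_mem h2)
  obtain ⟨j5, α, j6⟩ := f.nil x J j2 j3
  obtain ⟨N, n1, n2⟩ := Nat.chineseRemainder (hr.pow_left α) 0 1
  have h5 : (J * s) ^ N = s := by
    rw [(show Commute J s from Units.ext (s2 J j1)).mul_pow, pw_cong j6 n1, pw_cong s3 n2, pow_zero, pow_one, one_mul]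
  refine ⟨J, j5, j1, ⟨N, h5, n2⟩, ?_⟩
  rw [inf_comm, ← h3] at hβ ⊢
  refine le_trans ?_ (f.lu.uu_sh_le h1 h4 (fun i j => mem_C1.2 (s2 _ (h2 i j)))
    (fun z hz => mem_C1.2 (cen_comm hz _).symm) (uu_C1_le (F.comm_le_Iso s1).1) hβ)
  have key : ∀ y : A, y * ((J * s : Aˣ) : A) = ((J * s : Aˣ) : A) * y → y ∈ C1 (s : A) ⊓ C1 (sh E) := fun y hy => by
    have h6 : Commute y (s : A) := by
      have := Commute.pow_right hy N
      rwa [← Units.val_pow_eq_pow_val, h5] at this
    have h7 := (show Commute y _ from hy).mul_right h6.units_inv_right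
    rw [Units.val_mul, Units.mul_inv_cancel_right] at h7
    exact ⟨mem_C1.2 h6, mem_C1.2 (j4 _ h7)⟩
  exact Nat.card_le_card_of_injective (fun y => ⟨y.1, key y.1 y.2.2, y.2.1⟩) fun _ _ e => Subtype.ext (Subtype.mk.inj e)

theorem gd (x : Ctx F H p) (h : TenD H) : Gd F H := by
  classical
  obtain ⟨-, 𝓑, t1, t2, t3, t4, t5, t6, hst⟩ := h
  have t : Tens 𝓑 := ⟨t1, t2, t3, t4, t5, t6⟩
  have hM : H ≤ setStab (RingAut A) 𝓑 := le_setStab hst
  have hq := f.two
  have hd : ∀ B ∈ 𝓑, ∃ k, Dt B q k := fun B hB => (cs_of_tens x.ss t hB).data f.lu f.md.cen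
  have hex : ∃ k, ∃ B ∈ 𝓑, Dt B q k := t1.nonempty.elim fun B hB => (hd B hB).imp fun _ d => ⟨B, hB, d⟩
  obtain ⟨B₂, hB₂, d₂⟩ := Nat.find_spec hex
  obtain ⟨B₁, hB₁, hne⟩ := t.exists_ne hB₂
  obtain ⟨a, d₁⟩ := hd B₁ hB₁
  have hba := Nat.find_min' hex ⟨B₁, hB₁, d₁⟩
  generalize Nat.find hex = b at d₂ hba
  have hb := d₂.two (t3 _ hB₂)
  have c₁ := cs_of_tens x.ss t hB₁
  have c₂ := cs_of_tens x.ss t hB₂
  have h21 : B₂ ≤ Cz B₁ := fun y hy z hz => t5 _ hB₁ _ hB₂ hne z hz y hy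
  have cD := (cs_top x.ss).cz d₁ le_top
  have e1 := d₁.card_eq le_top
  rw [top_inf_eq] at cD e1
  have cD' := cD.cz d₂ h21
  obtain ⟨k, d⟩ := cD.data f.lu f.md.cen
  obtain ⟨m, d'⟩ := cD'.data f.lu f.md.cen
  obtain rfl : k = b * m := dim_eq hq (by rw [← d.card, ← d'.card, d₂.card_eq h21])
  obtain rfl : n = a * (b * m) := dim_eq hq (by rw [← d.card, ← e1, f.md.card])
  have hm := d'.pos
  have hfin : Finite (Subring A) := Finite.of_injective _ SetLike.coe_injective
  -- the number of factors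
  have ht : 𝓑.ncard ≤ m + 1 := by
    have h1 := tow t hd (Set.toFinite (𝓑 \ {B₁, B₂})).toFinset _ cD'.cen_le fun B hB => by
      obtain ⟨b1, b2⟩ := (Set.Finite.mem_toFinset _).1 hB
      rw [Set.mem_insert_iff, Set.mem_singleton_iff, not_or] at b2
      exact ⟨b1, le_inf (fun y hy z hz => t5 _ hB₁ _ b1 (Ne.symm b2.1) z hz y hy)
        fun y hy z hz => t5 _ hB₂ _ b1 (Ne.symm b2.2) z hz y hy⟩
    rw [f.md.cen, d'.card, ← pow_mul, Nat.pow_le_pow_iff_right hq, ← Set.ncard_eq_toFinset_card,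
      show 4 = 2 ^ 2 from rfl, ← pow_mul, mul_comm 2 (Set.ncard _), pow_mul, Nat.mul_le_mul_left_iff two_pos,
      Nat.pow_le_pow_iff_left two_ne_zero] at h1
    have h2 := (Nat.lt_two_pow_self (n := (𝓑 \ {B₁, B₂}).ncard)).trans_le h1
    have h3 := Set.le_ncard_sdiff {B₁, B₂} 𝓑
    have h4 := Set.ncard_pair hne
    omega
  -- the order of the stabiliser
  have hL : Nat.card (Lf F (setStab (RingAut A) 𝓑)) * q ^ 3 ≤
      (m + 1) * m * uu (Subring.center A) * q ^ (a ^ 2 + b ^ 2 + m ^ 2) := by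
    have h1 := orb (Lf F (setStab (RingAut A) 𝓑)) B₁ 𝓑 fun v hv => (hv.1 B₁).1 hB₁
    have h2 := orb (Lf F (setStab (RingAut A) 𝓑) ⊓ St B₁) B₂ (𝓑 \ {B₁}) fun v hv => ⟨(hv.1.1 B₂).1 hB₂,
      fun e => hne (smul_left_cancel (cj A v) ((show cj A v • B₁ = B₁ from hv.2).trans (show _ = B₁ from e).symm))⟩
    have h3 := card_stab f.md.nrm c₁ c₂ h21 (Lf F (setStab (RingAut A) 𝓑) ⊓ St B₁ ⊓ St B₂)
      fun v hv => ⟨(F.comm_le_Iso hv.1.1.2).1, hv.1.2, hv.2⟩
    have h4 : (𝓑 \ {B₁}).ncard ≤ m := by rw [Set.ncard_sdiff_singleton_of_mem hB₁]; omega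
    have h5 := Nat.mul_le_mul (Nat.mul_le_mul d₁.uni d₂.uni) d'.uni
    generalize Nat.card ↥(Lf F (setStab (RingAut A) 𝓑) ⊓ St B₁ ⊓ St B₂) = g at h2 h3
    have h6 : g * q ^ 3 ≤ uu (Subring.center A) * q ^ (a ^ 2 + b ^ 2 + m ^ 2) := by
      refine Nat.le_of_mul_le_mul_right ?_ (pow_pos (uu_pos (Subring.center A)) 2)
      calc _ = q ^ 3 * (g * uu (Subring.center A) ^ 2) := by ring
        _ ≤ q ^ 3 * (uu B₁ * uu B₂ * uu (Cz B₁ ⊓ Cz B₂)) := Nat.mul_le_mul_left _ h3
        _ = q * uu B₁ * (q * uu B₂) * (q * uu (Cz B₁ ⊓ Cz B₂)) := by ring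
        _ ≤ _ := h5
        _ = _ := by ring
    calc _ ≤ (m + 1) * (m * g) * q ^ 3 :=
          Nat.mul_le_mul_right _ (h1.trans (Nat.mul_le_mul ht (h2.trans (Nat.mul_le_mul_right _ h4))))
      _ = (m + 1) * m * (g * q ^ 3) := by ring
      _ ≤ _ := by rw [mul_assoc ((m + 1) * m)]; exact Nat.mul_le_mul_left _ h6
  have close : ∀ {J s : Aˣ} (j1 : J ∈ I0 F) (s1 : s ∈ I0 F), (J : A) ∈ B₁ → (s : A) ∈ B₂ → ∀ {κ e : ℕ}, 1 ≤ κ → 3 ≤ e →
      N2.cn (el (mul_mem j1 s1)) * q ^ 2 ≤ κ * q ^ e → 2 * ((m + 1) * m) * uu (Subring.center A) * κ ^ 3 *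
        q ^ (3 * e + (a ^ 2 + b ^ 2 + m ^ 2)) ≤ q ^ ((a * (b * m)) ^ 2 + 8) → Gd F H := by
    intro J s j1 s1 j2 s2 κ e h1 h2 h3 h4
    refine gd_of_over x hM (mul_mem j1 s1) (by
      rw [map_mul]
      exact mul_mem (cj_mem_stab t hB₁ j2) (cj_mem_stab t hB₂ s2)) (le_max_left _ 2) (le_max_right _ _)
      (fin_le (by omega) ?_ hL f.big h4)
    rw [max_mul]
    refine max_le h3 (le_trans ?_ (Nat.mul_le_mul h1 (Nat.pow_le_pow_right (by omega) h2)))
    rw [one_mul, pow_succ' q 2]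
    exact Nat.mul_le_mul_right _ hq
  obtain ⟨a, rfl⟩ : ∃ a', a = a' + 1 := ⟨a - 1, by have := d₁.pos; omega⟩
  have cnU : ∀ {u : Aˣ} (hu : u ∈ I0 F), N2.cn (el hu) ≤ cU (u : A) := fun hu => (Cyc.cn_le hu).trans (Cyc.cI_le_cU F _)
  have hz := f.zle
  have hn := f.five
  have hq1 : q + 1 ≤ q ^ 2 := by nlinarith only [hq]
  rcases le_or_gt 4 b with h4 | h4
  · obtain ⟨J, j1, j2, -, j3⟩ := f.step x c₁ d₁ (one_mem _) (one_mem _) (Nat.coprime_one_right p) (one_pow 1)
      (β := q ^ (b * m) ^ 2) (le_trans (Nat.card_le_card_of_injective _ (Subring.inclusion_injective inf_le_left))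
        (by rw [d.card, ← pow_mul, mul_comm]))
    refine close j1 (one_mem _) j2 (one_mem _) (κ := q ^ 3) (e := (a + 1) * (b * m) ^ 2) (Nat.one_le_pow _ _ (by omega))
      (by have : 4 ≤ b * m := by nlinarith only [hm, h4]
          nlinarith only [this]) ?_
      (numA hq hz (by omega) h4 hm le_rfl)
    calc _ ≤ uu (Cz B₁) * (q ^ (b * m) ^ 2) ^ a * q ^ 2 :=
          Nat.mul_le_mul_right _ ((cnU _).trans (j3.trans (Nat.mul_le_mul_right _ (uu_mono inf_le_left))))
      _ = q * uu (Cz B₁) * ((q ^ (b * m) ^ 2) ^ a * q) := by ring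
      _ ≤ q ^ 2 * q ^ (b * m) ^ 2 * ((q ^ (b * m) ^ 2) ^ a * q) :=
          Nat.mul_le_mul_right _ (d.uni.trans (Nat.mul_le_mul_right _ (hz.trans hq1)))
      _ = _ := by ring
  have tau : ∃ s ∈ I0 F, (s : A) ∈ B₂ ∧ (∃ r, p.Coprime r ∧ s ^ r = 1) ∧
      Nat.card ↥(Cz B₁ ⊓ C1 (s : A)) ≤ (q ^ (b * m ^ 2)) ^ 2 := by
    obtain ⟨b, rfl⟩ : ∃ b', b = b' + 1 := ⟨b - 1, by omega⟩
    obtain ⟨E, h1, h2, h3, h5⟩ := d₂.units Fin.rev Fin.rev_rev
    obtain ⟨s, s1, s2, s3, s4⟩ := f.lu.exists_tau h1 h5 (by omega) (by omega) x.prime x.char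
      (fun u hu hn => (f.nil x u hu hn).1) c₂.cen_le h2
    refine ⟨s, s1, s2, s3, (s4 _ fun i j => h21 (h2 i j)).trans_eq ?_⟩
    rw [h3, d'.card]
    ring
  obtain rfl | rfl : b = 3 ∨ b = 2 := by omega
  · obtain ⟨s, s1, s2, ⟨r, s3, s4⟩, s5⟩ := tau
    obtain ⟨J, j1, j2, -, j3⟩ := f.step x c₁ d₁ s1 (h21 s2) s3 s4 s5
    refine close j1 s1 j2 s2 (κ := q ^ 2) (Nat.one_le_pow _ _ (by omega)) (by nlinarith only [hm]) ?_ (numB hq hz hba hm le_rfl)
    calc _ ≤ (q ^ (3 * m ^ 2)) ^ 2 * (q ^ (3 * m ^ 2)) ^ a * q ^ 2 :=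
          Nat.mul_le_mul_right _ ((cnU _).trans (j3.trans (Nat.mul_le_mul_right _ ((uu_le_card _).trans s5))))
      _ = _ := by ring
  have he : 3 ≤ 2 * m ^ 2 * (a + 1) := by nlinarith only [hm, hba]
  rcases f.kind with ⟨ε, k1, k2⟩ | ⟨k1, k2, k3, k4⟩
  · obtain ⟨s, s1, s2, ⟨r, s3, s4⟩, s5⟩ := tau
    obtain ⟨J, j1, j2, -, j3⟩ := f.step x c₁ d₁ s1 (h21 s2) s3 s4 s5
    refine close j1 s1 j2 s2 (κ := q ^ 2) (Nat.one_le_pow _ _ (by omega)) he ?_ (numC hq (numL hq k2) hba hn le_rfl)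
    have h5 := (Nat.pow_le_pow_iff_left two_ne_zero).1 ((uu_sq_le k1 (T := Cz B₁ ⊓ C1 (s : A))
      ⟨cD.cen_le k1.cen, mem_C1.2 (k1.comm _).symm⟩
      fun y hy => ⟨cD.st y hy.1, uu_C1_le (F.comm_le_Iso s1).1 y hy.2⟩).trans s5)
    calc _ ≤ q ^ (2 * m ^ 2) * (q ^ (2 * m ^ 2)) ^ a * q ^ 2 :=
          Nat.mul_le_mul_right _ ((cnU _).trans (j3.trans (Nat.mul_le_mul_right _ h5)))
      _ = _ := by ring
  obtain ⟨lam, l1, l2, l3⟩ := exists_lam k1 (by omega)
  obtain ⟨E, h1, h2, h3, h5⟩ := d₂.units id fun _ => rfl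
  obtain ⟨s, s1, s2, s3, s4, s5⟩ := exists_diag h1 h5 l1 l2 l3 (fun u hu => f.iso hu) c₂.cen_le h2
  obtain ⟨s6, s7⟩ := s4 _ fun i j => h21 (h2 i j)
  rw [h3] at s6 s7
  rw [d'.card] at s6
  obtain ⟨J, j1, j2, ⟨N, n1, n2⟩, j3⟩ := f.step x c₁ d₁ s1 (h21 s2) k2
    (s3 _ (congrArg Units.val (k3 (mkU lam l2) (mem_ZI.2 ⟨l1, l2⟩)))) s6
  have h6 : cU ((J * s : Aˣ) : A) * q ^ 2 ≤ (q + 1) ^ 2 * q ^ (2 * m ^ 2 * (a + 1)) :=
    calc _ ≤ uu (Cz B₁ ⊓ Cz B₂) ^ 2 * (q ^ (2 * m ^ 2)) ^ a * q ^ 2 :=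
          Nat.mul_le_mul_right _ (j3.trans (Nat.mul_le_mul_right _ s7))
      _ = (q * uu (Cz B₁ ⊓ Cz B₂)) ^ 2 * (q ^ (2 * m ^ 2)) ^ a := by ring
      _ ≤ ((q + 1) * q ^ m ^ 2) ^ 2 * (q ^ (2 * m ^ 2)) ^ a :=
          Nat.mul_le_mul_right _ (Nat.pow_le_pow_left (d'.uni.trans (Nat.mul_le_mul_right _ hz)) 2)
      _ = _ := by ring
  rcases le_or_gt 3 q with h7 | h7
  · exact close j1 s1 j2 s2 (Nat.one_le_pow _ _ (by omega)) he ((Nat.mul_le_mul_right _ (cnU _)).trans h6)
      (numC hq (numU h7 hz) hba hn le_rfl)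
  obtain rfl : q = 2 := by omega
  have h8 := (Cyc.cn_mul_le_one (mul_mem j1 s1) fun z hz v _ e => by
    by_contra h9
    have h10 : Commute z (J * s) := Units.ext (Cyc.ZI_comm hz _)
    have h11 : v * s = z * s * v := by
      have h12 := (show SemiconjBy v (J * s) (z * (J * s)) from e).pow_right N
      rwa [h10.mul_pow, n1, pw_cong (k3 z hz) n2, pow_one] at h12
    have h12 := s5 z v (mem_ZI.1 hz).1 (k1 _ (sub_mem (mem_ZI.1 hz).1 (one_mem _))
      fun k => h9 (Units.ext (sub_eq_zero.1 k))) h11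
    have h13 := k3 z hz
    rw [pow_succ, h12, one_mul] at h13
    exact h9 h13).trans (Cyc.cO_le_cU F _)
  rw [card_ZI] at h8
  refine close j1 s1 j2 s2 (κ := 3) (by norm_num) he ?_ (numC hq (by omega) hba hn le_rfl)
  have h9 := (Nat.mul_le_mul_left _ k4).trans h8
  omega

end Frm

end Cfsg.Agent.N2C.Ten

namespace Cfsg.Agent.N2C

open Cfsg.Agent.DS.Cl Cfsg.Agent.DS.Cl.Fwd Module Ten
open Cfsg.Agent.N2C.Cyc (I0 ZI)

theorem Ten.eq_one_of_pow {K : Type} [Field K] {p a : ℕ} (hp : p.Prime) (h0 : (p : K) = 0) {x : K} (hx : x ^ p ^ a = 1) :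
    x = 1 := by
  have : Fact p.Prime := ⟨hp⟩
  have : CharP K p := (CharP.charP_iff_prime_eq_zero hp).2 h0
  rw [← sub_eq_zero, ← pow_eq_zero_iff (pow_pos hp.pos a).ne', sub_pow_char_pow, hx, one_pow, sub_self]

theorem Ten.big_of {q n r I o : ℕ} (hn : 0 < n) (hr : 0 < r) (h1 : r * q ^ (n ^ 2 - 1) ≤ 2 * o) (h2 : o ≤ r * I) :
    q ^ n ^ 2 ≤ 2 * q * I := by
  rw [show n ^ 2 = n ^ 2 - 1 + 1 from (Nat.sub_add_cancel (Nat.one_le_pow _ _ hn)).symm, pow_succ, mul_right_comm]
  refine Nat.mul_le_mul_right _ (Nat.le_of_mul_le_mul_left (h1.trans ?_) hr)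
  rw [mul_left_comm]
  exact Nat.mul_le_mul_left _ h2

/-- **tensor decompositions, linear groups** -/
theorem tenL : OnL 5 pTen := by
  intro K _ _ n F H p k hn x h
  have : Nonempty (Fin n) := ⟨⟨0, by omega⟩⟩
  have hε : Eps (LR.mk 1 0 : LR (Fin n) K) := SB.Tor.eps_LR
  obtain ⟨δ, hδ⟩ := (SB.Fld.luL (n := n) (K := K)).θ_unit
  have hq := Cyc.two_le_q K
  have hz : uu (Subring.center (LR (Fin n) K)) ≤ Fintype.card K := by
    refine (Nat.pow_le_pow_iff_left two_ne_zero).1 ((uu_sq_le hε hε.cen fun _ => star_cen).trans_eq ?_)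
    exact (md_LR (by omega)).cen
  have h0 : (p : K) = 0 := by
    have h1 := congrArg (SB.Fld.prL n K) x.char
    rwa [map_natCast, map_zero, ← map_natCast (algebraMap K _), map_eq_zero] at h1
  refine Frm.gd (c := LR.mk 1 0) (δ := δ) ⟨⟨hε.cen, hε.add, hδ ▸ sub_mem hε.cen hε.st.cen,
    by rw [hδ, star_sub, star_star, neg_sub]⟩, md_LR (by omega), hq, hn, by omega,
    big_of (by omega) (by omega) (Cyc.oGL_ge' hq (by omega)) (Cyc.card_I0_L k), fun u hu a ha => k.mem_comm hu ?_,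
    Or.inl ⟨_, hε, hz⟩⟩ x h
  refine eq_one_of_pow (a := a) x.prime h0 ?_
  rw [← Cyc.detL_val, ← Units.val_pow_eq_pow_val, ← map_pow, ha, map_one, Units.val_one]

/-- **tensor decompositions, unitary groups** -/
theorem tenU : OnU 5 pTen := by
  intro K V _ _ _ _ _ f F q H p k hn x h
  have : Nontrivial V := Module.nontrivial_of_finrank_pos (R := K) (by omega)
  obtain ⟨θ, hθ⟩ := k.u.2
  have l := SB.Fld.luU f hθ
  obtain ⟨δ, hδ⟩ := l.θ_unit
  obtain ⟨q', hq, hq'⟩ := Size.exists_q k.u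
  obtain rfl : q' = q := Nat.pow_left_injective two_ne_zero (hq'.symm.trans k.card)
  have h0 : (p : K) = 0 := by
    have h1 := congrArg (SB.Fld.prU f) x.char
    rwa [map_natCast, map_zero, ← map_natCast (algebraMap K _), map_eq_zero] at h1
  have hz : Nat.card (ZI F) ≤ q' + 1 := by
    choose g g1 g2 using fun z : ZI F => Cyc.exists_sc_ZI z.2
    exact (Nat.card_le_card_of_injective (fun z => (⟨g z, Units.ext (by
      rw [Units.val_pow_eq_pow_val, pow_succ', ← Cyc.tau_pow k.u k.card, g2, Units.val_one])⟩ :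
        {c : Kˣ // c ^ (q' + 1) = 1})) fun a b e => Subtype.ext (by rw [g1, g1, Subtype.mk.inj e])).trans
      (Cyc.card_pow_eq_one_le K q'.succ_pos)
  have hp : p ∣ q' := by
    have : CharP K p := (CharP.charP_iff_prime_eq_zero x.prime).2 h0
    exact x.prime.dvd_of_dvd_pow (k.card ▸ (CharP.cast_eq_zero_iff K p _).1 (FiniteField.cast_card_eq_zero K))
  refine Frm.gd (δ := δ) ⟨⟨l.c_cen, l.c_add, hδ ▸ sub_mem l.θ_cen (star_cen l.θ_cen),
    by rw [hδ, star_sub, star_star, neg_sub]⟩, md_U k.u k.card rfl (by omega), hq, hn, card_ZI F ▸ hz,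
    big_of (by omega) q'.succ_pos (le_trans ?_ (Nat.mul_le_mul_left 2 (Cyc.oGU_ge hq (by omega)))) (Cyc.card_I0_U k),
    fun u hu a ha => k.mem_comm hu ?_, Or.inr ⟨fun z hz h1 => ?_,
      (Nat.coprime_self_add_right.2 (Nat.coprime_one_right _)).coprime_dvd_left hp, fun z => Cyc.ZI_pow_U k,
      card_ZI F ▸ Cyc.card_ZI_U k⟩⟩ x h
  · have h1 : 3 ≤ finrank K V ^ 2 := by nlinarith only [hn]
    have h2 : 4 ≤ q' ^ 2 := by nlinarith only [hq]
    rw [show finrank K V ^ 2 - 1 = 2 + (finrank K V ^ 2 - 3) by omega, pow_add, ← mul_assoc, ← mul_assoc,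
      mul_left_comm 2]
    exact Nat.mul_le_mul_right _ (Nat.mul_le_mul_left _ (by omega))
  · refine eq_one_of_pow (a := a) x.prime h0 ?_
    rw [← Cyc.detE_val, ← Units.val_pow_eq_pow_val, ← map_pow, ha, map_one, Units.val_one]
  · obtain ⟨t, rfl⟩ := cen_scal f hz
    have h2 : t ≠ 0 := fun e => h1 (by rw [e, zero_smul]; rfl)
    exact IsUnit.of_mul_eq_one (f.eb (t⁻¹ • 1)) (by rw [Size.scal_mul, mul_inv_cancel₀ h2, Size.scal_one])

end Cfsg.Agent.N2C
end

-- part: N2/Cl/RX/GreenB1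
section
set_option linter.all false
open scoped Cfsg.Agent.FastGrp

/-!
# N2 (S3519), box Green: reduction of the centraliser to the skew elements (helper38)

`red` : `cU u ≤ |isometries of the form on range (u - 1)^(p-1)| * |scalars on the small block| * cS u`.
-/

set_option autoImplicit false
set_option linter.unusedSectionVars false

namespace Cfsg.Agent.N2C.RX.Gr

open Module LinearMap Cfsg.Agent.DS.Cl Cfsg.Agent.DS.Cl.Fwd Cfsg.Agent.N2C.Cyc

section ring

variable {A : Type} [Ring A] [StarRing A] {u x z : A}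

theorem st_comm (h1 : u * star u = 1) (h2 : star u * u = 1) (hx : x * u = u * x) : star x * u = u * star x := by
  have h3 : star u * star x = star x * star u := by rw [← star_mul, hx, star_mul]
  calc star x * u = u * (star u * star x) * u := by rw [← mul_assoc, h1, one_mul]
    _ = u * star x := by rw [h3, mul_assoc, mul_assoc, h2, mul_one]

theorem st_pow (h1 : u * star u = 1) (h2 : star u * u = 1) (k : ℕ) : star ((u - 1) ^ k) = (-star u) ^ k * (u - 1) ^ k := by
  have h3 : Commute (-star u) (u - 1) :=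
    (Commute.sub_right (show Commute (star u) u from h2.trans h1.symm) (Commute.one_right _)).neg_left
  rw [star_pow, ← h3.mul_pow, star_sub, star_one, neg_mul, mul_sub, h2, mul_one, neg_sub]

theorem st_top (h1 : u * star u = 1) (h2 : star u * u = 1) {k : ℕ} (hk : Even k) (h : (u - 1) ^ (k + 1) = 0) :
    star ((u - 1) ^ k) = (u - 1) ^ k := by
  have h3 : u * (u - 1) ^ k = (u - 1) ^ k := by
    rw [pow_succ', sub_mul, one_mul, sub_eq_zero] at h
    exact h
  have h4 : star u * (u - 1) ^ k = (u - 1) ^ k := by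
    conv_lhs => rw [← h3, ← mul_assoc, h2, one_mul]
  have h5 : ∀ m : ℕ, star u ^ m * (u - 1) ^ k = (u - 1) ^ k := fun m => by
    induction m with
    | zero => rw [pow_zero, one_mul]
    | succ m ih => rw [pow_succ, mul_assoc, h4, ih]
  rw [st_pow h1 h2, hk.neg_pow, h5]

/-- Cayley -/
theorem cay (h1 : star z * z = 1) (hu : z * u = u * z) (hz : IsUnit (z + 1)) :
    ∃ i : A, (z + 1) * i = 1 ∧ i * (z + 1) = 1 ∧ star i = 1 - i ∧ i * u = u * i := by
  obtain ⟨e, he⟩ := hz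
  have h2 : (e : A) * u = u * e := by rw [he, add_mul, mul_add, hu, one_mul, mul_one]
  refine ⟨(e⁻¹ : Aˣ), by rw [← he, Units.mul_inv], by rw [← he, Units.inv_mul], ?_, ?_⟩
  · have h3 : star (e : A) * z = e := by rw [he, star_add, star_one, add_mul, h1, one_mul, add_comm]
    have h4 : star ((e⁻¹ : Aˣ) : A) * star (e : A) = 1 := by rw [← star_mul, Units.mul_inv, star_one]
    calc star ((e⁻¹ : Aˣ) : A) = star ((e⁻¹ : Aˣ) : A) * (star (e : A) * z) * (e⁻¹ : Aˣ) := by
          rw [h3, Units.mul_inv_cancel_right]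
      _ = (z + 1 - 1) * (e⁻¹ : Aˣ) := by rw [← mul_assoc, h4, one_mul, add_sub_cancel_right]
      _ = _ := by rw [← he, sub_mul, Units.mul_inv, one_mul]
  · rw [Units.inv_mul_eq_iff_eq_mul, ← mul_assoc, h2, Units.mul_inv_cancel_right]

end ring

theorem card_le_fib {X Y S : Type} [Finite Y] [Finite S] (f : X → Y) (g : ∀ x₀ x : X, f x₀ = f x → S)
    (hg : ∀ x₀ x x' e e', g x₀ x e = g x₀ x' e' → x = x') : Nat.card X ≤ Nat.card Y * Nat.card S := by
  rcases isEmpty_or_nonempty X with _ | _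
  · simp
  rw [← Nat.card_prod]
  refine Nat.card_le_card_of_injective (fun x => (f x, g (Function.invFun f (f x)) x (Function.invFun_eq ⟨x, rfl⟩)))
    fun x x' e => ?_
  have e1 : f x = f x' := congrArg Prod.fst e
  have e2 := congrArg Prod.snd e
  have key : ∀ (a a' : X) (ha : f a = f x) (ha' : f a' = f x'), a = a' → g a x ha = g a' x' ha' → x = x' := by
    rintro a _ ha ha' rfl
    exact hg a x x' ha ha'
  exact key _ _ _ _ (by rw [e1]) e2

variable {K V : Type} [Field K] [Fintype K] [AddCommGroup V] [Module K V] [Finite V] {h : HF K V} {u x : h.EB} {p a b : ℕ}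
  {v : Fin a → V} {w : V}

theorem iso (hx : x * star x = 1) (y z : V) : h.b (h.ap x y) (h.ap x z) = h.b y z := by
  rw [← h.b_star, ← h.ap_mul, mul_eq_one_comm.1 hx, h.ap_one]

theorem cm (hx : x * u = u * x) (k : ℕ) (y : V) : h.ap x (((h.ap u - 1) ^ k) y) = ((h.ap u - 1) ^ k) (h.ap x y) :=
  LinearMap.congr_fun ((Commute.sub_right (show Commute (h.ap x) (h.ap u) from hx) (Commute.one_right _)).pow_right k).eq y

theorem cm1 (hx : x * u = u * x) (y : V) : h.ap x ((h.ap u - 1) y) = (h.ap u - 1) (h.ap x y) := by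
  simpa only [pow_one] using cm hx 1 y

theorem orth (hu : u * star u = 1) {k : ℕ} {z : V} (hz : ((h.ap u - 1) ^ k) z = 0) (y : V) :
    h.b (((h.ap u - 1) ^ k) y) z = 0 := by
  have e := h.b_star ((u - 1) ^ k) y z
  rw [st_pow hu (mul_eq_one_comm.1 hu), h.ap_mul, show h.ap ((u - 1) ^ k) z = 0 from hz, map_zero, h.zero_right] at e
  exact e.symm

theorem zero_swap {y z : V} (e : h.b y z = 0) : h.b z y = 0 := by rw [h.swap, e, map_zero, mul_zero]

theorem pre {n : h.EB} (hn : star n = n) (x y : range (h.ap n)) {z : V} (hz : h.ap n z = y) : h.b x y.2.choose = h.b x z := by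
  obtain ⟨_, x, rfl⟩ := x
  show h.b (h.ap n x) _ = h.b (h.ap n x) _
  rw [← h.b_star, ← h.b_star, hn, hz, y.2.choose_spec]

/-- the form on the image of a self-adjoint endomorphism -/
noncomputable def hN (h : HF K V) (n : h.EB) (hn : star n = n) : HF K (range (h.ap n)) where
  τ := h.τ
  ε := h.ε
  b x y := h.b x y.2.choose
  add_left x x' y := h.add_left _ _ _
  smul_left c x y := h.smul_left _ _ _
  swap x y := by
    rw [← h.swap]
    conv_lhs => rw [← y.2.choose_spec, ← h.b_star, hn, x.2.choose_spec]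
  τ_τ := h.τ_τ
  nondeg y hy := Subtype.ext (h.nondeg _ fun z => by
    have e := hy ⟨_, z, rfl⟩
    change h.b (h.ap n z) _ = 0 at e
    rwa [← h.b_star, hn, y.2.choose_spec] at e)

theorem hN_b {n : h.EB} (hn : star n = n) (x y : range (h.ap n)) {z : V} (hz : h.ap n z = y) : (hN h n hn).b x y = h.b x z :=
  pre hn x y hz

/-- the restriction of an isometry -/
noncomputable def rs {n : h.EB} (hn : star n = n) (hx : x * star x = 1) (hc : x * n = n * x) : IsoV (hN h n hn) :=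
  have : Module.Finite K V := Module.Finite.of_finite
  ⟨LinearEquiv.ofInjectiveEndo ((h.ap x).restrict (p := range (h.ap n)) (q := range (h.ap n)) (by
      rintro _ ⟨y, rfl⟩
      exact ⟨h.ap x y, by rw [← h.ap_mul, ← hc, h.ap_mul]⟩)) (fun y z e => Subtype.ext (by
      have e1 : h.ap x y = h.ap x z := congrArg Subtype.val e
      rw [← h.ap_one y, ← mul_eq_one_comm.1 hx, h.ap_mul, e1, ← h.ap_mul, mul_eq_one_comm.1 hx, h.ap_one])), by
    rintro y ⟨_, z, rfl⟩
    rw [hN_b hn y _ (z := z) rfl]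
    refine (hN_b hn _ _ (z := h.ap x z) ?_).trans (iso hx _ _)
    exact congrArg (fun s => h.ap s z) hc.symm⟩

theorem mem_range_of {n : h.EB} (hn : star n = n) {y : V} (hy : ∀ z, h.ap n z = 0 → h.b z y = 0) : y ∈ range (h.ap n) := by
  have h1 : h.lin y ∈ (ker (h.ap n)).dualAnnihilator := (Submodule.mem_dualAnnihilator _).2 fun z hz => hy z hz
  rw [← range_dualMap_eq_dualAnnihilator_ker] at h1
  obtain ⟨g, hg⟩ := h1
  obtain ⟨z, hz⟩ := h.exists_rep g
  refine ⟨z, h.ext_right fun s => ?_⟩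
  rw [← hn, h.b_star, hz]
  exact LinearMap.congr_fun hg s

theorem two_ne (h5 : 5 ≤ p) [CharP K p] : (2 : K) ≠ 0 := fun e =>
  absurd (Nat.le_of_dvd two_pos ((CharP.cast_eq_zero_iff K p 2).1 (by exact_mod_cast e))) (by omega)

theorem star_N (hp : p.Prime) (h5 : 5 ≤ p) (hu : u * star u = 1) (j : Jb (h.ap u - 1) p a b v w) :
    star ((u - 1) ^ (p - 1)) = (u - 1) ^ (p - 1) :=
  st_top hu (mul_eq_one_comm.1 hu) (hp.even_sub_one (by omega)) (by rw [Nat.sub_add_cancel hp.pos]; exact j.nil)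

theorem N_w (j : Jb (h.ap u - 1) p a b v w) : ((h.ap u - 1) ^ (p - 1)) w = 0 :=
  pow_zero_of_le (Nat.le_sub_one_of_lt j.lt) j.wb

theorem ww_ne (hp : p.Prime) (h5 : 5 ≤ p) (hu : u * star u = 1) (j : Jb (h.ap u - 1) p a b v w) (hb : 0 < b) :
    h.b (((h.ap u - 1) ^ (b - 1)) w) w ≠ 0 := fun e => j.ne hb (mem_range_of (star_N hp h5 hu j) fun z hz => by
  obtain ⟨c, y, rfl⟩ := j.mid z hz
  have h1 : ((h.ap u - 1) ^ (1 : ℕ)) (((h.ap u - 1) ^ (b - 1)) w) = 0 := by
    rw [← End.mul_apply, ← pow_add, Nat.add_sub_cancel' hb, j.wb]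
  have h2 := orth hu h1 y
  rw [pow_one] at h2
  rw [h.add_left, h.smul_left, zero_swap e, h2, mul_zero, add_zero])

/-- the scalar on the small block -/
theorem exists_c (hp : p.Prime) (h5 : 5 ≤ p) (hu : u * star u = 1) (j : Jb (h.ap u - 1) p a b v w) (hx : x * star x = 1)
    (hc : x * u = u * x) : ∃ c : {c : K // c * h.τ c = 1 ∧ (b = 0 → c = 1)}, ∃ y, h.ap x w = c.1 • w + (h.ap u - 1) y := by
  rcases Nat.eq_zero_or_pos b with hb | hb
  · have h0 : w = 0 := by simpa [hb] using j.wb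
    exact ⟨⟨1, by rw [map_one, mul_one], fun _ => rfl⟩, 0, by simp [h0]⟩
  obtain ⟨c, y, e⟩ := j.mid (h.ap x w) (by rw [← cm hc, N_w j, map_zero])
  refine ⟨⟨c, ?_, fun e => by omega⟩, y, e⟩
  have h1 : ((h.ap u - 1) ^ (1 : ℕ)) (((h.ap u - 1) ^ (b - 1)) w) = 0 := by
    rw [← End.mul_apply, ← pow_add, Nat.add_sub_cancel' hb, j.wb]
  have h2 := orth hu h1 y
  rw [pow_one] at h2
  have h3 : ((h.ap u - 1) ^ (b - 1)) ((h.ap u - 1) y) = ((h.ap u - 1) ^ b) y := by
    rw [← End.mul_apply, ← pow_succ, Nat.sub_add_cancel hb]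
  have h4 : ((h.ap u - 1) ^ b) (h.ap x w) = 0 := by rw [← cm hc, j.wb, map_zero]
  have h5' := iso hx (((h.ap u - 1) ^ (b - 1)) w) w
  rw [cm hc] at h5'
  conv_lhs at h5' => enter [2]; rw [e, map_add, map_smul, h3]
  rw [h.add_left, orth hu h4, add_zero, h.smul_left, e, h.add_right, zero_swap h2, add_zero, h.smul_right, ← mul_assoc] at h5'
  exact mul_right_cancel₀ (ww_ne hp h5 hu j hb) (h5'.trans (one_mul _).symm)

theorem unit_of (h5 : 5 ≤ p) [CharP K p] (j : Jb (h.ap u - 1) p a b v w) (hc : x * u = u * x)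
    (h1 : ∀ y, h.ap x (((h.ap u - 1) ^ (p - 1)) y) = ((h.ap u - 1) ^ (p - 1)) y) {y₀ : V}
    (h2 : h.ap x w = w + (h.ap u - 1) y₀) : IsUnit (x + 1) := by
  have hc' : (x - 1) * u = u * (x - 1) := by rw [sub_mul, mul_sub, hc, one_mul, mul_one]
  have h3 : ∀ y, ∃ z, h.ap ((x - 1) ^ 2) y = (h.ap u - 1) z := fun y => by
    obtain ⟨c, z, e⟩ := j.mid (h.ap (x - 1) y) (by rw [← cm hc', h.ap_sub, h1, h.ap_one, sub_self])
    refine ⟨c • y₀ + h.ap (x - 1) z, ?_⟩
    rw [pow_two, h.ap_mul, e, map_add, map_smul, cm1 hc', h.ap_sub, h2, h.ap_one, add_sub_cancel_left, map_add, map_smul]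
  have hc2 : (x - 1) ^ 2 * u = u * (x - 1) ^ 2 := (Commute.pow_left hc' 2).eq
  have h4 : ∀ k y, ∃ z, h.ap (((x - 1) ^ 2) ^ k) y = ((h.ap u - 1) ^ k) z := fun k => by
    induction k with
    | zero => exact fun y => ⟨y, rfl⟩
    | succ k ih =>
      intro y
      obtain ⟨z, e⟩ := ih y
      obtain ⟨z', e'⟩ := h3 z
      exact ⟨z', by rw [pow_succ', h.ap_mul, e, cm hc2, e', pow_succ, End.mul_apply]⟩
  have h6 : IsNilpotent (x - 1) := ⟨2 * p, by
    rw [pow_mul]
    refine h.ap_ext fun y => ?_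
    obtain ⟨z, e⟩ := h4 p y
    rw [e, j.nil]
    rfl⟩
  have h7 := h6.isUnit_add_left_of_commute (sc_unit (h := h) (c := 1) (d := -1) (fun e => two_ne h5 (by
    linear_combination e))) (by
      exact (Commute.sub_right (sc_comm 1 _).symm (sc_comm (-1) _).symm))
  have h8 : h.eb ((1 : K) • 1) - h.eb ((-1 : K) • 1) + (x - 1) = x + 1 := h.ap_ext fun y => by
    change (1 : K) • y - (-1 : K) • y + (h.ap x y - y) = h.ap x y + y
    module
  rwa [h8] at h7

/-- **reduction** -/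
theorem red (hp : p.Prime) (h5 : 5 ≤ p) [CharP K p] (hu : u * star u = 1) (j : Jb (h.ap u - 1) p a b v w) {m : ℕ}
    (hm : Nat.card {c : K // c * h.τ c = 1} ≤ m) :
    cU u ≤ Nat.card (IsoV (hN h _ (star_N hp h5 hu j))) * (if b = 0 then 1 else m) * cS u := by
  have hu' := mul_eq_one_comm.1 hu
  have hcN : ∀ x : h.EB, x * u = u * x → x * (u - 1) ^ (p - 1) = (u - 1) ^ (p - 1) * x := fun x hx =>
    ((Commute.sub_right (show Commute x u from hx) (Commute.one_right _)).pow_right _).eq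
  choose c y hy using fun x : {x : h.EB // x * star x = 1 ∧ x * u = u * x} => exists_c hp h5 hu j x.2.1 x.2.2
  let f := fun x : {x : h.EB // x * star x = 1 ∧ x * u = u * x} => (rs (star_N hp h5 hu j) x.2.1 (hcN _ x.2.2), c x)
  have key : ∀ x₀ x, f x₀ = f x → ∃ i : h.EB, (star x₀.1 * x.1 + 1) * i = 1 ∧ i * (star x₀.1 * x.1 + 1) = 1 ∧
      star i = 1 - i ∧ i * u = u * i := fun x₀ x e => by
    have h0 := mul_eq_one_comm.1 x₀.2.1
    have h1 := st_comm hu hu' x₀.2.2
    have h2 : star x₀.1 * x.1 * u = u * (star x₀.1 * x.1) := by rw [mul_assoc, x.2.2, ← mul_assoc, h1, mul_assoc]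
    refine cay (by rw [star_mul, star_star, mul_assoc, ← mul_assoc x₀.1, x₀.2.1, one_mul, mul_eq_one_comm.1 x.2.1]) h2
      (unit_of h5 j h2 (fun z => ?_) (y₀ := h.ap (star x₀.1) (y x - y x₀)) ?_)
    · have e1 : h.ap x₀.1 (((h.ap u - 1) ^ (p - 1)) z) = h.ap x.1 (((h.ap u - 1) ^ (p - 1)) z) :=
        congrArg (fun g : IsoV (hN h _ (star_N hp h5 hu j)) => ((g.1 ⟨_, z, rfl⟩ : range (h.ap ((u - 1) ^ (p - 1)))) : V))
          (congrArg Prod.fst e)
      rw [h.ap_mul, ← e1, ← h.ap_mul, h0, h.ap_one]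
    · have e1 : c x₀ = c x := congrArg Prod.snd e
      have e2 : h.ap x.1 w = h.ap x₀.1 w + (h.ap u - 1) (y x - y x₀) := by rw [hy, hy, e1, map_sub]; abel
      rw [h.ap_mul, e2, map_add, ← h.ap_mul, h0, h.ap_one, cm1 h1]
  choose i i1 i2 i3 i4 using key
  have : Finite (range (h.ap ((u - 1) ^ (p - 1))) ≃ₗ[K] range (h.ap ((u - 1) ^ (p - 1)))) :=
    Finite.of_injective _ DFunLike.coe_injective
  refine (card_le_fib (S := {x : h.EB // star x = -x ∧ x * u = u * x}) f (fun x₀ x e => ⟨i x₀ x e - (1 - i x₀ x e), by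
      rw [star_sub, star_sub, star_one, i3, sub_sub_cancel, neg_sub], by
      rw [sub_mul, sub_mul, mul_sub, mul_sub, i4, one_mul, mul_one]⟩) fun x₀ x x' e e' ee => ?_).trans ?_
  · have e1 : i x₀ x e - (1 - i x₀ x e) = i x₀ x' e' - (1 - i x₀ x' e') := congrArg Subtype.val ee
    have e2 : i x₀ x e = i x₀ x' e' := h.ap_ext fun z => smul_right_injective V (two_ne h5 (K := K)) (by
      have e3 : h.ap (i x₀ x e) z - (z - h.ap (i x₀ x e) z) = h.ap (i x₀ x' e') z - (z - h.ap (i x₀ x' e') z) :=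
        congrArg (fun s => h.ap s z) e1
      show (2 : K) • _ = (2 : K) • _
      linear_combination (norm := module) e3)
    have e3 : star x₀.1 * x.1 + 1 = star x₀.1 * x'.1 + 1 := left_inv_eq_right_inv (i1 x₀ x e) (e2 ▸ i2 x₀ x' e')
    have e4 : x₀.1 * star x₀.1 * x.1 = x₀.1 * star x₀.1 * x'.1 := by rw [mul_assoc, mul_assoc, add_right_cancel e3]
    rw [x₀.2.1, one_mul, one_mul] at e4
    exact Subtype.ext e4
  · rw [Nat.card_prod]
    refine Nat.mul_le_mul_right _ (Nat.mul_le_mul_left _ ?_)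
    split_ifs with hb
    · exact Finite.card_le_one_iff_subsingleton.2 ⟨fun c d => Subtype.ext ((c.2.2 hb).trans (d.2.2 hb).symm)⟩
    · exact (Nat.card_le_card_of_injective (fun c : {c : K // c * h.τ c = 1 ∧ (b = 0 → c = 1)} =>
        (⟨c.1, c.2.1⟩ : {c : K // c * h.τ c = 1}))
        fun c d e => Subtype.ext (congrArg (fun z : {c : K // c * h.τ c = 1} => z.1) e)).trans hm

end Cfsg.Agent.N2C.RX.Gr
end

-- part: N2/Cl/RX/GreenB
section
set_option linter.all false
open scoped Cfsg.Agent.FastGrp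

/-!
# N2 (S3519), box Green: the bounds for the centraliser in the isometry group (helper38)

`gU`, `gS_even`, `gS`, `gO`.
-/

set_option autoImplicit false
set_option linter.unusedSectionVars false

namespace Cfsg.Agent.N2C.RX.Gr

open Module LinearMap Cfsg.Agent.DS.Cl Cfsg.Agent.DS.Cl.Fwd Cfsg.Agent.N2C.Cyc Cfsg.Agent.SB.Cl
open Cfsg.Agent.LieClassical.OrthCore (O Nondeg)

variable {K V : Type} [Field K] [Fintype K] [AddCommGroup V] [Module K V] [Finite V] {h : HF K V} {u s : h.EB} {p a b : ℕ}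
  {v : Fin a → V} {w : V}

section skew

theorem del_eq (hu : u * star u = 1) : u - star u = (u - 1) * (1 + star u) := by
  rw [mul_add, mul_one, sub_mul, hu, one_mul, sub_add_sub_cancel]

theorem del_pow (hu : u * star u = 1) {k : ℕ} {y : V} (hy : ((h.ap u - 1) ^ k) y = 0) : (h.ap (u - star u) ^ k) y = 0 := by
  have h1 : Commute (u - 1) (1 + star u) := (Commute.one_right _).add_right
    (Commute.sub_left (show Commute u (star u) from hu.trans (mul_eq_one_comm.1 hu).symm) (Commute.one_left _))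
  show h.ap ((u - star u) ^ k) y = 0
  rw [del_eq hu, h1.eq, h1.symm.mul_pow, h.ap_mul, show h.ap ((u - 1) ^ k) y = 0 from hy, map_zero]

theorem del_gen (hp : p.Prime) (h5 : 5 ≤ p) [CharP K p] (hu : u * star u = 1) (j : Jb (h.ap u - 1) p a b v w)
    {W : Submodule K V} (h1 : ∀ y ∈ W, h.ap (u - star u) y ∈ W) (h2 : ∀ i, v i ∈ W) (h3 : w ∈ W) : W = ⊤ := by
  obtain ⟨e, he⟩ := unit_of h5 j (x := u) rfl (fun y => by
    have h4 : (h.ap u - 1) (((h.ap u - 1) ^ (p - 1)) y) = 0 := by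
      rw [← End.mul_apply, ← pow_succ', Nat.sub_add_cancel hp.pos, j.nil, LinearMap.zero_apply]
    exact sub_eq_zero.1 h4) (y₀ := w) (add_sub_cancel _ _).symm
  have h4 : (u - star u) * (u * (e⁻¹ : h.EBˣ)) = u - 1 := by
    rw [del_eq hu, mul_assoc, ← mul_assoc (1 + star u), add_mul, one_mul, mul_eq_one_comm.1 hu, ← he, Units.mul_inv, mul_one]
  refine nak (T := h.ap (u - star u)) (p := p) (LinearMap.ext fun y => del_pow hu (by rw [j.nil, LinearMap.zero_apply])) h1
    fun y => ?_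
  obtain ⟨c, hc⟩ := j.top y
  obtain ⟨d, x, e'⟩ := j.mid _ hc
  refine ⟨h.ap (u * (e⁻¹ : h.EBˣ)) x, ?_⟩
  rw [← h.ap_mul, h4, show y - h.ap (u - 1) x = ∑ i, c i • v i + d • w by
    rw [sub_eq_iff_eq_add.1 e', show h.ap (u - 1) x = (h.ap u - 1) x from rfl]; abel]
  exact W.add_mem (W.sum_mem fun i _ => W.smul_mem _ (h2 i)) (W.smul_mem _ h3)

theorem b_neg (y z : V) : h.b y (-z) = -h.b y z := by rw [← zero_sub, h.sub_right, h.zero_right, zero_sub]

theorem sk_del (hu : u * star u = 1) (hc : s * u = u * s) (y z : V) :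
    h.b (h.ap s (h.ap (u - star u) y)) z = -h.b (h.ap s y) (h.ap (u - star u) z) := by
  have h1 : s * star u = star u * s := by
    calc s * star u = star u * (u * s) * star u := by rw [← mul_assoc, mul_eq_one_comm.1 hu, one_mul]
      _ = star u * s := by rw [← hc, mul_assoc, mul_assoc, hu, mul_one]
  have h2 : s * (u - star u) = (u - star u) * s := by rw [mul_sub, sub_mul, hc, h1]
  rw [← h.ap_mul, h2, h.ap_mul, ← h.b_star, star_sub, star_star, ← neg_sub, ← b_neg]
  rfl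

theorem sk_pow (hu : u * star u = 1) (hc : s * u = u * s) (k : ℕ) : ∀ y z : V,
    h.b (h.ap s ((h.ap (u - star u) ^ k) y)) z = (-1) ^ k * h.b (h.ap s y) ((h.ap (u - star u) ^ k) z) := by
  induction k with
  | zero => intro y z; rw [pow_zero, pow_zero, one_mul]; rfl
  | succ k ih =>
    intro y z
    conv_lhs => rw [pow_succ', End.mul_apply, sk_del hu hc, ih]
    rw [pow_succ (h.ap (u - star u)), End.mul_apply, pow_succ]
    ring

theorem sk_sym {r : ℕ} (hr : ∀ y z, h.b z y = -(-1) ^ r * h.b y z) (hu : u * star u = 1) (hs : star s = -s)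
    (hc : s * u = u * s) (k : ℕ) (y z : V) :
    h.b (h.ap s ((h.ap (u - star u) ^ k) y)) z = (-1) ^ (k + r) * h.b (h.ap s ((h.ap (u - star u) ^ k) z)) y := by
  rw [sk_pow hu hc, ← h.b_star, hs, show ∀ t, h.ap (-s) t = -h.ap s t from fun _ => rfl, b_neg, hr, pow_add]
  ring

theorem sk_zero (hp : p.Prime) (h5 : 5 ≤ p) [CharP K p] (hu : u * star u = 1) (j : Jb (h.ap u - 1) p a b v w)
    (hc : s * u = u * s) (H : ∀ (g g' : Option (Fin a)) (k : ℕ),
      h.b (h.ap s ((h.ap (u - star u) ^ k) (g.elim w v))) (g'.elim w v) = 0) : s = 0 := by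
  have h1 : ∀ (g' : Option (Fin a)) (y : V), h.b (h.ap s y) (g'.elim w v) = 0 := fun g' y => by
    let W : Submodule K V := ⨅ k : ℕ, ker ((h.lin (g'.elim w v)) ∘ₗ (h.ap s * h.ap (u - star u) ^ k))
    have hW : ∀ y, y ∈ W ↔ ∀ k : ℕ, h.b (h.ap s ((h.ap (u - star u) ^ k) y)) (g'.elim w v) = 0 := fun y =>
      Submodule.mem_iInf _
    have h2 : W = ⊤ := del_gen hp h5 hu j (fun y hy => (hW _).2 fun k => by
      have h3 := (hW _).1 hy (k + 1)
      rwa [pow_succ, End.mul_apply] at h3) (fun i => (hW _).2 (H (some i) g')) ((hW _).2 (H none g'))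
    exact (hW y).1 (h2.ge trivial) 0
  let W : Submodule K V := ker (h.ap (star s))
  have hW : ∀ z, z ∈ W ↔ ∀ y, h.b (h.ap s y) z = 0 := fun z =>
    ⟨fun hz y => by rw [← h.b_star, show h.ap (star s) z = 0 from hz, h.zero_right],
      fun hz => h.nondeg _ fun y => by rw [h.b_star, hz]⟩
  have h2 : W = ⊤ := del_gen hp h5 hu j (fun z hz => (hW _).2 fun y => by
    rw [← neg_eq_zero, ← sk_del hu hc, (hW _).1 hz]) (fun i => (hW _).2 (h1 (some i))) ((hW _).2 (h1 none))
  rw [← star_star s, show star s = 0 from ker_eq_top.1 h2, star_zero]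

theorem card_lt : ∀ a ≤ 2, Fintype.card {x : Fin a × Fin a // x.1 < x.2} = a / 2 := by
  intro a ha
  interval_cases a <;> decide

theorem diag {r : ℕ} (hr1 : r ≤ 1) (h2 : (2 : K) ≠ 0) (f : ℕ → K) {n : ℕ} (h1 : ∀ k, n ≤ k → f k = 0)
    (h3 : ∀ k, f k = (-1) ^ (k + r) * f k) (h4 : ∀ m : Fin ((n + 1 - r) / 2), f (2 * m + r) = 0) (k : ℕ) : f k = 0 := by
  by_cases hk : n ≤ k
  · exact h1 k hk
  rcases Nat.even_or_odd (k + r) with e | e
  · obtain ⟨m, hm⟩ := e
    have h5 := h4 ⟨k / 2, by omega⟩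
    rwa [show 2 * (k / 2) + r = k by omega] at h5
  · have h5 := h3 k
    rw [e.neg_one_pow] at h5
    exact (mul_eq_zero.1 (show 2 * f k = 0 by linear_combination h5)).resolve_left h2

/-- **the number of skew elements** -/
theorem cS_le (hp : p.Prime) (h5 : 5 ≤ p) [CharP K p] (hu : u * star u = 1) (j : Jb (h.ap u - 1) p a b v w) {r : ℕ}
    (hr1 : r ≤ 1) (hr : ∀ y z, h.b z y = -(-1) ^ r * h.b y z) (h2 : a ≤ 2) :
    cS u ≤ Fintype.card K ^ (a / 2 * p + (a * ((p + 1 - r) / 2) + (a * b + (b + 1 - r) / 2))) := by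
  let D := h.ap (u - star u)
  let I := ({x : Fin a × Fin a // x.1 < x.2} × Fin p) ⊕ (Fin a × Fin ((p + 1 - r) / 2)) ⊕ (Fin a × Fin b) ⊕
    Fin ((b + 1 - r) / 2)
  let pr : I → V × V := Sum.elim (fun x => ((D ^ (x.2 : ℕ)) (v x.1.1.1), v x.1.1.2))
    (Sum.elim (fun x => ((D ^ (2 * (x.2 : ℕ) + r)) (v x.1), v x.1))
      (Sum.elim (fun x => ((D ^ (x.2 : ℕ)) w, v x.1)) fun x => ((D ^ (2 * (x : ℕ) + r)) w, w)))
  have hI : Nat.card (I → K) = Fintype.card K ^ (a / 2 * p + (a * ((p + 1 - r) / 2) + (a * b + (b + 1 - r) / 2))) := by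
    rw [Nat.card_fun, Nat.card_eq_fintype_card, Nat.card_eq_fintype_card]
    simp only [I, Fintype.card_sum, Fintype.card_prod, Fintype.card_fin, card_lt a h2]
  rw [← hI]
  refine Nat.card_le_card_of_injective (fun s i => h.b (h.ap s.1 (pr i).1) (pr i).2) fun s s' e => Subtype.ext ?_
  have hs : star (s.1 - s'.1) = -(s.1 - s'.1) := by rw [star_sub, s.2.1, s'.2.1, neg_sub_neg, neg_sub]
  have hc : (s.1 - s'.1) * u = u * (s.1 - s'.1) := by rw [sub_mul, mul_sub, s.2.2, s'.2.2]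
  have e0 : ∀ i, h.b (h.ap (s.1 - s'.1) (pr i).1) (pr i).2 = 0 := fun i => by
    rw [h.ap_sub, h.sub_left, sub_eq_zero]
    exact congrFun e i
  have z1 : ∀ k, p ≤ k → ∀ y, (D ^ k) y = 0 := fun k hk y =>
    pow_zero_of_le hk (del_pow hu (by rw [j.nil, LinearMap.zero_apply]))
  have z2 : ∀ k, b ≤ k → (D ^ k) w = 0 := fun k hk => pow_zero_of_le hk (del_pow hu j.wb)
  have sy := sk_sym hr hu hs hc
  have a1 : ∀ i i' : Fin a, i < i' → ∀ k : ℕ, h.b (h.ap (s.1 - s'.1) ((D ^ k) (v i))) (v i') = 0 := fun i i' hi k => by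
    by_cases hk : k < p
    · exact e0 (.inl (⟨(i, i'), hi⟩, ⟨k, hk⟩))
    · rw [z1 k (not_lt.1 hk), map_zero, h.zero_left]
  have a2 : ∀ (i : Fin a) (k : ℕ), h.b (h.ap (s.1 - s'.1) ((D ^ k) w)) (v i) = 0 := fun i k => by
    by_cases hk : k < b
    · exact e0 (.inr (.inr (.inl (i, ⟨k, hk⟩))))
    · rw [z2 k (not_lt.1 hk), map_zero, h.zero_left]
  refine sub_eq_zero.1 (sk_zero hp h5 hu j hc ?_)
  rintro (_ | i) (_ | i') k
  · exact diag hr1 (two_ne h5) (fun k => h.b (h.ap (s.1 - s'.1) ((D ^ k) w)) w) (n := b)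
      (fun k hk => by rw [z2 k hk, map_zero, h.zero_left]) (fun k => sy k w w) (fun m => e0 (.inr (.inr (.inr m)))) k
  · exact a2 i' k
  · exact (sy k (v i) w).trans (by rw [a2, mul_zero])
  · rcases lt_trichotomy i i' with e | rfl | e
    · exact a1 i i' e k
    · exact diag hr1 (two_ne h5) (fun k => h.b (h.ap (s.1 - s'.1) ((D ^ k) (v i))) (v i)) (n := p)
        (fun k hk => by rw [z1 k hk, map_zero, h.zero_left]) (fun k => sy k _ _) (fun m => e0 (.inr (.inl (i, m)))) k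
    · exact (sy k (v i) (v i')).trans (by rw [a1 i' i e, mul_zero])

/-- unitary groups -/
theorem cS_sq_le (hU : IsU h) (u : h.EB) : cS u ^ 2 ≤ cA u := by
  obtain ⟨θ, hθ⟩ := hU.2
  rw [pow_two, cS, ← Nat.card_prod]
  refine Nat.card_le_card_of_injective (fun x => ⟨x.1.1 + h.eb (θ • 1) * x.2.1, by
    rw [add_mul, mul_add, x.1.2.2, mul_assoc, x.2.2.2, ← mul_assoc, ← mul_assoc, sc_comm]⟩) fun x y e => ?_
  have e1 : x.1.1 + h.eb (θ • 1) * x.2.1 = y.1.1 + h.eb (θ • 1) * y.2.1 := congrArg Subtype.val e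
  have e2 := congrArg star e1
  rw [star_add, star_add, star_mul, star_mul, sc_star, x.1.2.1, x.2.2.1, y.1.2.1, y.2.2.1, ← sc_comm, ← sc_comm] at e2
  have e3 : (h.eb (θ • 1) - h.eb (h.τ θ • 1)) * x.2.1 = (h.eb (θ • 1) - h.eb (h.τ θ • 1)) * y.2.1 := by
    linear_combination (norm := noncomm_ring) e1 + e2
  have e4 := (sc_unit hθ.symm).mul_left_cancel e3
  rw [e4] at e1
  exact Prod.ext (Subtype.ext (add_right_cancel e1)) (Subtype.ext e4)

end skew

theorem cA_le (j : Jb (h.ap u - 1) p a b v w) : cA u ≤ Fintype.card K ^ (a ^ 2 * p + 2 * a * b + b) := by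
  have : Module.Finite K V := Module.Finite.of_finite
  rw [← Nat.card_eq_fintype_card]
  refine le_trans ?_ j.card_le
  have : Finite (End K V) := inferInstanceAs (Finite h.EB)
  exact Nat.card_le_card_of_injective (fun x => ⟨h.ap x.1,
    (Commute.sub_right (show Commute (h.ap x.1) (h.ap u) from x.2) (Commute.one_right _)).eq⟩)
    fun x y e => Subtype.ext (congrArg (fun z : {x : End K V // x * (h.ap u - 1) = (h.ap u - 1) * x} => z.1) e)

theorem card_pow_le {m : ℕ} (hm : 0 < m) (hτ : ∀ c : K, c * h.τ c = c ^ m) : Nat.card {c : K // c * h.τ c = 1} ≤ m :=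
  (Nat.card_le_card_of_injective (fun c : {c : K // c * h.τ c = 1} =>
    (⟨Units.mk0 c.1 (left_ne_zero_of_mul_eq_one c.2), Units.ext (by
      rw [Units.val_pow_eq_pow_val, Units.val_mk0, ← hτ, c.2, Units.val_one])⟩ : {c : Kˣ // c ^ m = 1}))
    fun c d e => Subtype.ext (congrArg (fun z : {c : Kˣ // c ^ m = 1} => (z.1 : K)) e)).trans (card_pow_eq_one_le K hm)

theorem card_IsoV_zero (h0 : finrank K V = 0) : Nat.card (IsoV h) ≤ 1 := by
  have : Module.Finite K V := Module.Finite.of_finite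
  have : Subsingleton V := Module.finrank_zero_iff.1 h0
  have : Subsingleton (IsoV h) := ⟨fun a b => Subtype.ext (LinearEquiv.ext fun v => Subsingleton.elim _ _)⟩
  exact Finite.card_le_one_iff_subsingleton.2 this

theorem card_IsoV_O (h2 : (2 : K) ≠ 0) (ht : ∀ c, h.τ c = c) (hs : ∀ x y, h.b x y = h.b y x) :
    ∃ Q : QuadraticForm K V, Nondeg Q ∧ Nat.card (IsoV h) ≤ Nat.card (O Q) := by
  let B : LinearMap.BilinForm K V := LinearMap.mk₂ K h.b h.add_left h.smul_left h.add_right fun c u v => by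
    rw [h.smul_right, ht, smul_eq_mul]
  have : Finite (V ≃ₗ[K] V) := Finite.of_injective _ DFunLike.coe_injective
  refine ⟨B.toQuadraticMap, fun x hx => h.nondeg x fun y => ?_, Subgroup.card_le_of_le fun g hg x => hg x x⟩
  have e := hx y
  rw [LinearMap.BilinMap.polar_toQuadraticMap] at e
  change h.b x y + h.b y x = 0 at e
  rw [hs x y, ← two_mul] at e
  exact (mul_eq_zero.1 e).resolve_left h2

theorem hN_sym {n : h.EB} (hn : star n = n) {η : K} (hs : ∀ y z, h.b z y = η * h.b y z) (y z : range (h.ap n)) :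
    (hN h n hn).b z y = η * (hN h n hn).b y z := by
  obtain ⟨_, y, rfl⟩ := y
  obtain ⟨_, z, rfl⟩ := z
  rw [hN_b hn _ _ (z := y) rfl, hN_b hn _ _ (z := z) rfl]
  show h.b (h.ap n z) y = η * h.b (h.ap n y) z
  rw [← h.b_star, hn, hs]

theorem skew_of (hs : ∀ x, h.b x x = 0) (y z : V) : h.b z y = -1 * h.b y z := by
  have e := hs (y + z)
  rw [h.add_left, h.add_right, h.add_right, hs, hs] at e
  linear_combination e

theorem hN_alt (h2 : (2 : K) ≠ 0) {n : h.EB} (hn : star n = n) (hs : ∀ x, h.b x x = 0) (y : range (h.ap n)) :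
    (hN h n hn).b y y = 0 :=
  (mul_eq_zero.1 (show 2 * (hN h n hn).b y y = 0 by linear_combination hN_sym hn (skew_of hs) y y)).resolve_left h2

/-- **unitary groups** -/
theorem gU (hp : p.Prime) (h5 : 5 ≤ p) [CharP K p] (hu : u * star u = 1) (j : Jb (h.ap u - 1) p a b v w) {q : ℕ} (hU : IsU h)
    (hq : Fintype.card K = q ^ 2) (_h2 : a ≤ 2) : cU u ≤ gB .U q a b (a ^ 2 * p + 2 * a * b + b) := by
  have h0 : 1 ≤ q := Nat.pos_of_ne_zero (by
    rintro rfl
    exact absurd hq (Fintype.card_pos.trans_eq' (by norm_num)).ne')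
  have hr : finrank K (range (h.ap ((u - 1) ^ (p - 1)))) = a := j.rk
  refine (red hp h5 hu j (card_pow_le (m := q + 1) (by omega) fun c => by rw [tau_pow hU hq, pow_succ'])).trans
    (Nat.mul_le_mul (Nat.mul_le_mul_right _ ?_) ?_)
  · split_ifs with ha
    · exact card_IsoV_zero (hr.trans ha)
    · rw [card_IsoV_U (h := hN h _ (star_N hp h5 hu j)) hU hq, hr]
      exact oGU_le h0 (by omega)
  · refine (Nat.pow_le_pow_iff_left two_ne_zero).1 ((cS_sq_le hU u).trans ((cA_le j).trans_eq ?_))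
    rw [hq, ← pow_mul, ← pow_mul, mul_comm]

theorem gS_even (hp : p.Prime) (h5 : 5 ≤ p) [CharP K p] (hu : u * star u = 1) (j : Jb (h.ap u - 1) p a b v w)
    (ht : ∀ c, h.τ c = c) (hs : ∀ x, h.b x x = 0) : a % 2 = 0 := by
  have : Module.Finite K V := Module.Finite.of_finite
  have hr : finrank K (range (h.ap ((u - 1) ^ (p - 1)))) = a := j.rk
  let k := hN h _ (star_N hp h5 hu j)
  let B := LinearMap.mk₂ K k.b k.add_left k.smul_left k.add_right fun c u v => by
    rw [k.smul_right, show k.τ c = c from ht c, smul_eq_mul]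
  exact Nat.even_iff.1 (H727.GW.even_finrank a _ B (hN_alt (two_ne h5) (star_N hp h5 hu j) hs)
    (fun x hx => k.nondeg x fun y => zero_swap (hx y)) hr)

/-- **symplectic groups** -/
theorem gS (hp : p.Prime) (h5 : 5 ≤ p) [CharP K p] (hu : u * star u = 1) (j : Jb (h.ap u - 1) p a b v w)
    (ht : ∀ c, h.τ c = c) (hs : ∀ x, h.b x x = 0) (h2 : a ≤ 2) :
    cU u ≤ gB .S (Fintype.card K) a b (a ^ 2 * p + 2 * a * b + b) := by
  have hr : finrank K (range (h.ap ((u - 1) ^ (p - 1)))) = a := j.rk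
  have he := gS_even hp h5 hu j ht hs
  refine (red hp h5 hu j (card_pow_le (m := 2) two_pos fun c => by rw [ht, pow_two])).trans
    (Nat.mul_le_mul (Nat.mul_le_mul_right _ ?_) ?_)
  · split_ifs with ha
    · exact card_IsoV_zero (hr.trans ha)
    · rw [card_IsoV_Sp (h := hN h _ (star_N hp h5 hu j)) ht (hN_alt (two_ne h5) _ hs) (k := 1) (by omega)]
      exact oSp_le 1 _
  · refine (cS_le hp h5 hu j (r := 0) zero_le_one (fun y z => by rw [pow_zero]; exact skew_of hs y z) h2).trans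
      (Nat.pow_le_pow_right Fintype.card_pos ?_)
    have h3 : a = 0 ∨ a = 2 := by omega
    rcases h3 with h3 | h3 <;> rw [h3] <;> omega

/-- **orthogonal groups** -/
theorem gO (hp : p.Prime) (h5 : 5 ≤ p) [CharP K p] (hu : u * star u = 1) (j : Jb (h.ap u - 1) p a b v w)
    (ht : ∀ c, h.τ c = c) (hs : ∀ x y, h.b x y = h.b y x) (h2 : a ≤ 2) :
    cU u ≤ gB .O (Fintype.card K) a b (a ^ 2 * p + 2 * a * b + b) := by
  have hr : finrank K (range (h.ap ((u - 1) ^ (p - 1)))) = a := j.rk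
  refine (red hp h5 hu j (card_pow_le (m := 2) two_pos fun c => by rw [ht, pow_two])).trans
    (Nat.mul_le_mul (Nat.mul_le_mul_right _ ?_) ?_)
  · obtain ⟨Q, hQ, h3⟩ := card_IsoV_O (h := hN h _ (star_N hp h5 hu j)) (two_ne h5) ht fun x y => by
      rw [hN_sym _ (η := 1) (fun y z => by rw [one_mul, hs]), one_mul]
    split_ifs with ha ha'
    · exact card_IsoV_zero (hr.trans ha)
    · have h4 := card_O_le hQ (by omega)
      rw [hr, ha'] at h4
      exact h3.trans h4
    · exact h3.trans (card_O_two hQ (by omega))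
  · refine (cS_le hp h5 hu j (r := 1) le_rfl (fun y z => by rw [pow_one, neg_neg, one_mul, hs]) h2).trans
      (Nat.pow_le_pow_right Fintype.card_pos ?_)
    have h3 : a = 0 ∨ a = 1 ∨ a = 2 := by omega
    rcases h3 with h3 | h3 | h3 <;> rw [h3] <;> omega

end Cfsg.Agent.N2C.RX.Gr

private theorem dce_aa569a78745d : _root_.True := by
  try have : _root_.True := by simp only [_root_.Cfsg.Agent.N2C.RX.Gr.hN.congr_simp]
  try have : _root_.True := by simp only [_root_.Cfsg.Agent.N2C.Cyc.cS.eq_1]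
  exact _root_.True.intro
end

-- part: N2/Cl/RX/Green
section
set_option linter.all false

/-!
# N2 (S3519), box Green (helper32, helper38)
-/

set_option autoImplicit false

namespace Cfsg.Agent.N2C.RX

theorem boxGreen : BoxGreen := Gr.boxGreen_of
  ⟨fun _ _ _ _ _ _ _ _ _ _ _ _ _ _ hp h5 _ hu j _ => Gr.gU hp h5 hu j,
    fun _ _ _ _ _ _ _ _ _ _ _ _ _ _ hp h5 _ hu j ht hs => ⟨Gr.gS_even hp h5 hu j ht hs, Gr.gS hp h5 hu j ht hs⟩,
    fun _ _ _ _ _ _ _ _ _ _ _ _ _ _ hp h5 _ hu j => Gr.gO hp h5 hu j⟩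

end Cfsg.Agent.N2C.RX
end

-- part: N2/Cl/RD/Defs
section
set_option linter.all false
open scoped Cfsg.Agent.FastGrp

/-!
# N2 (S3519), class S with socle of Lie type in the defining characteristic: interface (helper69)

`Md` collects everything that the rows use of the ring frame, for the matrix group `P` of the lifts.
See `notes/N2/simdef.md`.
-/

set_option autoImplicit false

namespace Cfsg.Agent.N2C.RD

open Cfsg Cfsg.Geo Subgroup Cfsg.Agent.DS.Cl Cfsg.Agent.N2C.Cyc Cfsg.Agent.H915.LD Cfsg.Agent.N2C.RX Module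
open Cfsg.Agent.N2 (Cf)

section

variable {n : ℕ} {K : Type} [Field K]

/-- the dimension of the commutant -/
noncomputable def dm (u : GL (Fin n) K) : ℕ := finrank K (Subalgebra.centralizer K {(u : Matrix (Fin n) (Fin n) K)})

/-- the dimension of the eigenspace -/
noncomputable def ev (u : GL (Fin n) K) (a : K) : ℕ :=
  finrank K (Module.End.eigenspace (Matrix.toLin' (u : Matrix (Fin n) (Fin n) K)) a)

/-- the eigenvalues `1` and `-1` -/
noncomputable def e2 (p : ℕ) (u : GL (Fin n) K) : ℕ := if p = 2 then ev u 1 else ev u 1 + ev u (-1)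

end

/-- the centraliser of a cyclic isometry -/
def cb : Kd → ℕ → ℕ → ℕ
  | .L, n, q => q ^ n - 1
  | .U, n, q => (q + 1) ^ n
  | _, n, q => 4 * (q + 1) ^ (n / 2)

/-- semisimple elements: the exponent of `(q + 1) / q` -/
def kk : Kd → ℕ → ℕ
  | .L, _ => 0
  | .U, n => n
  | _, n => n / 2

/-- semisimple elements: the constant -/
def k4 : Kd → ℕ
  | .L => 1
  | .U => 1
  | .S => 1
  | _ => 4

section

variable (t : Kd) {n : ℕ} (q p T b : ℕ) {K : Type} [Field K] [Fintype K] (P : Subgroup (GL (Fin n) K)) (G : Prop)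
  (c f : P → ℕ)

/-- matrices of prime order; `μ i` is the multiplicity of the eigenvalue `ζ ^ i` -/
def SemiD : Prop := ∀ (r : ℕ) [Fact r.Prime] (u : P), r ≠ p → 2 < r → orderOf u = r →
  ∃ μ : ZMod r → ℕ, ∑ i, μ i = n ∧ μ 0 = ev (u : GL (Fin n) K) 1 ∧ dm (u : GL (Fin n) K) = ∑ i, μ i ^ 2 ∧
    (∀ j : ℕ, IsConj u (u ^ j) → ∀ i, μ (j * i) = μ i) ∧
    (∀ i, μ ((fr t q : ℤ) * i) = μ i) ∧ (bil t → ∀ i, μ (-i) = μ i) ∧
    ∀ e z : ℕ, orderOf ((fr t q : ℤ) : ZMod r) = e → (Finset.univ.filter fun i => i ≠ 0 ∧ μ i ≠ 0).card = z →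
      c u * zz t q * (q ^ eq t e) ^ nu t e z * q ^ dl t (μ 0) ≤
        ww t n q r * kp t (μ 0) * q ^ es t (dm (u : GL (Fin n) K)) (μ 0) * (q ^ eq t e + 1) ^ nu t e z *
          (q + 1) ^ dl t (μ 0)

/-- elements of order prime to the characteristic; all elements of unitary groups -/
def SsD : Prop := ∀ u : P, t = .U ∨ (orderOf u).Coprime p →
  c u * zz t q * q ^ kk t n ≤
    Nat.gcd n (zz t q) * k4 t * q ^ es t (dm (u : GL (Fin n) K)) (e2 p (u : GL (Fin n) K)) * (q + 1) ^ kk t n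

/-- `T` is the order of the simple classical group, `b` is the order of the point stabiliser, `G` is the goal, `c u` is
the order of the centraliser in the simple group of the image of `u`, `f u` is the number of its fixed points -/
structure Md0 : Prop where
  cf : Cf
  prime : p.Prime
  char : CharP K p
  card : Fintype.card K = kq t q
  pow : ∃ a, 0 < a ∧ q = p ^ a
  dim : dimOk t n q
  ord : oD t n q * T = oI t n q
  core : Core P
  frm : Frm P t q
  ncj : t = .L → ∀ k, ¬ Cj P (p ^ k)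
  lt : Nat.card (Soc P) < T
  nb : Nat.card (Soc P) ∣ b
  bt : b ∣ T
  ba : b ∣ Nat.card (MulAut (Soc P))
  bl : ∀ h : Core P, b ∣ Nat.card (H100.Ppd.conjSoc h.absIrred).range
  good : ∀ u : P, f u ^ 3 * b ≤ T → G
  fc : ∀ u : P, f u ≤ c u
  fmod : ∀ (u : P) (r : ℕ), r.Prime → orderOf (toSoc P u) = r → f u ≡ T / b [MOD r]
  fsyl : ∀ (u : P) (r : ℕ), r.Prime → r ≠ p → ¬ r ∣ zz t q → orderOf u = r → ¬ r * Nat.card (Soc P) ∣ b →
    (∀ g : Soc P, orderOf g = r → ∃ j : ℕ, IsConj g (toSoc P u ^ j)) →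
    f u * Nat.card (normalizer (zpowers (toSoc P u) : Set (Soc P))) * b ≤
      c u * (n - ev (u : GL (Fin n) K) 1) * Nat.card (Soc P)
  scott : ∀ x : P, toSoc P x ≠ 1 → ∃ y : P,
    dm (x : GL (Fin n) K) + dm (y : GL (Fin n) K) + dm ((x * y : P) : GL (Fin n) K) ≤ n ^ 2 + 2
  small : ∃ u : P, dm (u : GL (Fin n) K) ≤ n ^ 2 / 4 + 1
  crude : ∀ u : P, (c u * zz t q) ^ 2 ≤ Nat.gcd n (zz t q) ^ 2 * q ^ ec t n (dm (u : GL (Fin n) K))
  cyc : ∀ u : P, (p = 2 → bil t → ev (u : GL (Fin n) K) 1 = 0) → n ≤ (minpoly K ((u : GL (Fin n) K) : Matrix (Fin n) (Fin n) K)).natDegree →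
    c u * zz t q ≤ Nat.gcd n (zz t q) * cb t n q

/-- all facts -/
structure Md : Prop extends Md0 t q p T b P G c f where
  semi : SemiD t q p P c
  ss : SsD t q p P c

end

/-- [Lnk] the matrix model of the ring frame -/
def BoxMd : Prop := Box fun _ _ _ t n q p F H N => ∃ (K : Type) (_ : Field K) (_ : Fintype K) (P : Subgroup (GL (Fin n) K))
  (c f : P → ℕ) (b : ℕ), Nonempty (Soc P ≃* N) ∧ Md t q p (Nat.card F.S) b P (Gd F H) c f

/-- a family of groups in characteristic `p` -/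
abbrev Fm : Type 1 := ℕ → ∀ (N : Type) [Group N], Prop

/-- a row -/
def Row (X : Fm) : Prop := ∀ (t : Kd) (n q p T b : ℕ) (K : Type) [Field K] [Fintype K] (P : Subgroup (GL (Fin n) K)) (G : Prop)
  (c f : P → ℕ), Md t q p T b P G c f → X p (Soc P) → G

/-- `L_m` -/
def fA (m : ℕ) : Fm := fun p N _ => ∃ (E : Type) (_ : Field E) (_ : Fintype E) (_ : CharP E p),
  (m = 2 → 4 ≤ Fintype.card E) ∧ Nonempty (N ≃* Matrix.ProjectiveSpecialLinearGroup (Fin m) E)
/-- `U_m` -/
def fU (m : ℕ) : Fm := fun p N _ => ∃ (E : Type) (_ : Field E) (_ : Fintype E) (_ : CharP E p) (s : ℕ),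
  Fintype.card E = s ^ 2 ∧ ¬ (m = 3 ∧ s = 2) ∧ Nonempty (N ≃* PSU m E s)
/-- `PSp_2m` -/
def fC (m : ℕ) : Fm := fun p N _ => ∃ (E : Type) (_ : Field E) (_ : Fintype E) (_ : CharP E p),
  (m = 2 → 3 ≤ Fintype.card E) ∧ Nonempty (N ≃* PSp m E)
/-- `Ω_(2m+1)` -/
def fB (m : ℕ) : Fm := fun p N _ => ∃ (E : Type) (_ : Field E) (_ : Fintype E) (_ : CharP E p),
  Odd (Fintype.card E) ∧ Nonempty (N ≃* POmega E (quadFormOdd m E))
/-- `PΩ⁺_2m` -/
def fD (m : ℕ) : Fm := fun p N _ => ∃ (E : Type) (_ : Field E) (_ : Fintype E) (_ : CharP E p),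
  Nonempty (N ≃* POmega E (quadFormPlus m E))
/-- `PΩ⁻_2m` -/
def fM (m : ℕ) : Fm := fun p N _ => ∃ (E : Type) (_ : Field E) (_ : Fintype E) (_ : CharP E p) (a b : E),
  (∀ z₁ z₂ : E, z₁ ^ 2 + a * z₁ * z₂ + b * z₂ ^ 2 = 0 → z₁ = 0 ∧ z₂ = 0) ∧
    Nonempty (N ≃* POmega E (quadFormMinus (m - 1) E a b))
/-- exceptional Chevalley groups -/
def fX (D : Lie.ChevalleyDatum) (k : ℕ) : Fm := fun p N _ => ∃ (E : Type) (_ : Field E) (_ : Fintype E) (_ : CharP E p),
  k ≤ Fintype.card E ∧ Nonempty (N ≃* D.group E)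
/-- `²E₆` -/
def f2E6 : Fm := fun p N _ => ∃ (E : Type) (_ : Field E) (_ : Fintype E) (_ : CharP E p) (s : ℕ), IsPrimePow s ∧
  Fintype.card E = s ^ 2 ∧ Nonempty (N ≃* Lie.twistedE6 E s)
/-- `³D₄` -/
def f3D4 : Fm := fun p N _ => ∃ (E : Type) (_ : Field E) (_ : Fintype E) (_ : CharP E p) (s : ℕ), IsPrimePow s ∧
  Fintype.card E = s ^ 3 ∧ Nonempty (N ≃* Lie.twistedD4 E s)
def fSz : Fm := fun p N _ => p = 2 ∧ Lie.IsoSuzuki N
def f2F4 : Fm := fun p N _ => p = 2 ∧ Lie.Iso2F4 N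
def fRee : Fm := fun p N _ => p = 3 ∧ Lie.IsoRee N

/-- the rows -/
structure Rows : Prop where
  a1 : Row (fA 2)
  a2 : Row (fA 3)
  a3 : Row (fA 4)
  a : ∀ m, 5 ≤ m → Row (fA m)
  u3 : Row (fU 3)
  u4 : Row (fU 4)
  u5 : Row (fU 5)
  u : ∀ m, 6 ≤ m → Row (fU m)
  c2 : Row (fC 2)
  c3 : Row (fC 3)
  c : ∀ m, 4 ≤ m → Row (fC m)
  b3 : Row (fB 3)
  b : ∀ m, 4 ≤ m → Row (fB m)
  d4 : Row (fD 4)
  d : ∀ m, 5 ≤ m → Row (fD m)
  m4 : Row (fM 4)
  m : ∀ m, 5 ≤ m → Row (fM m)
  g2 : Row (fX Lie.chevG2 3)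
  f4 : Row (fX Lie.chevF4 0)
  e6 : Row (fX Lie.chevE6 0)
  e7 : Row (fX Lie.chevE7 0)
  e8 : Row (fX Lie.chevE8 0)
  te6 : Row f2E6
  td4 : Row f3D4
  sz : Row fSz
  tf4 : Row f2F4
  ree : Row fRee

theorem Rows.all (R : Rows) : Row fun p N _ => IsLieTypeChar p N := by
  intro t n q p T b K _ _ P G c f M h
  rcases h with ⟨E, _, _, _, m, h2, h4, e⟩ | ⟨E, _, _, _, m, h2, h4, e⟩ | ⟨E, _, _, _, m, s, hs, h3, h4, e⟩ |
    ⟨E, _, _, _, m, h3, ho, e⟩ | ⟨E, _, _, _, m, h4, e⟩ | ⟨E, _, _, _, m, x, y, h4, ha, e⟩ | ⟨E, _, _, _, h⟩ |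
    ⟨E, _, _, _, s, hs, h⟩ | h | h | h
  · have k : fA m p (Soc P) := ⟨E, _, ‹_›, ‹_›, h4, e⟩
    by_cases h5 : 5 ≤ m
    · exact R.a m h5 _ _ _ _ _ _ _ _ _ _ _ M k
    obtain rfl | rfl | rfl : m = 2 ∨ m = 3 ∨ m = 4 := by omega
    exacts [R.a1 _ _ _ _ _ _ _ _ _ _ _ M k, R.a2 _ _ _ _ _ _ _ _ _ _ _ M k, R.a3 _ _ _ _ _ _ _ _ _ _ _ M k]
  · have k : fC m p (Soc P) := ⟨E, _, ‹_›, ‹_›, h4, e⟩
    by_cases h5 : 4 ≤ m
    · exact R.c m h5 _ _ _ _ _ _ _ _ _ _ _ M k
    obtain rfl | rfl : m = 2 ∨ m = 3 := by omega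
    exacts [R.c2 _ _ _ _ _ _ _ _ _ _ _ M k, R.c3 _ _ _ _ _ _ _ _ _ _ _ M k]
  · have k : fU m p (Soc P) := ⟨E, _, ‹_›, ‹_›, s, hs, h4, e⟩
    by_cases h5 : 6 ≤ m
    · exact R.u m h5 _ _ _ _ _ _ _ _ _ _ _ M k
    obtain rfl | rfl | rfl : m = 3 ∨ m = 4 ∨ m = 5 := by omega
    exacts [R.u3 _ _ _ _ _ _ _ _ _ _ _ M k, R.u4 _ _ _ _ _ _ _ _ _ _ _ M k, R.u5 _ _ _ _ _ _ _ _ _ _ _ M k]
  · have k : fB m p (Soc P) := ⟨E, _, ‹_›, ‹_›, ho, e⟩
    by_cases h5 : 4 ≤ m
    · exact R.b m h5 _ _ _ _ _ _ _ _ _ _ _ M k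
    obtain rfl : m = 3 := by omega
    exact R.b3 _ _ _ _ _ _ _ _ _ _ _ M k
  · have k : fD m p (Soc P) := ⟨E, _, ‹_›, ‹_›, e⟩
    by_cases h5 : 5 ≤ m
    · exact R.d m h5 _ _ _ _ _ _ _ _ _ _ _ M k
    obtain rfl : m = 4 := by omega
    exact R.d4 _ _ _ _ _ _ _ _ _ _ _ M k
  · have k : fM m p (Soc P) := ⟨E, _, ‹_›, ‹_›, x, y, ha, e⟩
    by_cases h5 : 5 ≤ m
    · exact R.m m h5 _ _ _ _ _ _ _ _ _ _ _ M k
    obtain rfl : m = 4 := by omega
    exact R.m4 _ _ _ _ _ _ _ _ _ _ _ M k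
  · rcases h with ⟨h, e⟩ | e | e | e | e
    exacts [R.g2 _ _ _ _ _ _ _ _ _ _ _ M ⟨E, _, ‹_›, ‹_›, h, e⟩, R.f4 _ _ _ _ _ _ _ _ _ _ _ M ⟨E, _, ‹_›, ‹_›, Nat.zero_le _, e⟩,
      R.e6 _ _ _ _ _ _ _ _ _ _ _ M ⟨E, _, ‹_›, ‹_›, Nat.zero_le _, e⟩,
      R.e7 _ _ _ _ _ _ _ _ _ _ _ M ⟨E, _, ‹_›, ‹_›, Nat.zero_le _, e⟩,
      R.e8 _ _ _ _ _ _ _ _ _ _ _ M ⟨E, _, ‹_›, ‹_›, Nat.zero_le _, e⟩]
  · rcases h with ⟨h, e⟩ | ⟨h, e⟩
    exacts [R.te6 _ _ _ _ _ _ _ _ _ _ _ M ⟨E, _, ‹_›, ‹_›, s, hs, h, e⟩, R.td4 _ _ _ _ _ _ _ _ _ _ _ M ⟨E, _, ‹_›, ‹_›, s, hs, h, e⟩]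
  exacts [R.sz _ _ _ _ _ _ _ _ _ _ _ M h, R.tf4 _ _ _ _ _ _ _ _ _ _ _ M h, R.ree _ _ _ _ _ _ _ _ _ _ _ M h]

/-- **assembly** -/
theorem on_of (b0 : BoxMd) (R : Rows) : On (pRes qDef) := by
  have key : ∀ {t : Kd} {n q p T : ℕ} {N : Type} [Group N] {G : Prop}, IsLieTypeChar p N →
      (∃ (K : Type) (_ : Field K) (_ : Fintype K) (P : Subgroup (GL (Fin n) K)) (c f : P → ℕ) (b : ℕ),
        Nonempty (Soc P ≃* N) ∧ Md t q p T b P G c f) → G := by
    rintro t n q p T N _ G h ⟨K, _, _, P, c, f, b, ⟨e⟩, M⟩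
    exact R.all _ _ _ _ _ _ _ _ _ _ _ M (CTwoTab.isLieTypeChar_congr e.symm h)
  refine ⟨fun K _ _ n F H p k hn c ⟨_, _, N, r, hQ⟩ => ?_, fun K V _ _ _ _ _ f F q H p k hn c ⟨_, _, N, r, hQ⟩ => ?_,
    fun K V _ _ _ _ _ f F j H p k hn c ⟨_, _, N, r, hQ⟩ => ?_, fun K V _ _ _ _ _ f F Q' H p k c ⟨_, _, N, r, hQ⟩ => ?_⟩ <;>
    rw [c.ringChar_eq] at hQ
  · exact key hQ (b0.l K n F H N p k hn c r)
  · exact key hQ (b0.u K V f F q H N p k hn c r)
  · exact key hQ (b0.s K V f F j H N p k hn c r)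
  · have h7 := k.dim
    obtain ⟨t, h1, h2, h3⟩ : ∃ t, (t = .O ∨ t = .P ∨ t = .M) ∧ dimOk t (Module.finrank K V) (Fintype.card K) ∧
        oD t (Module.finrank K V) (Fintype.card K) * Nat.card F.S = oI t (Module.finrank K V) (Fintype.card K) := by
      rcases card_S_O k with ⟨m, h1, h2, h3⟩ | ⟨m, h1, -, h3⟩ | ⟨m, h1, -, h3⟩
      · exact ⟨.O, Or.inl rfl, ⟨h7, by omega, Nat.odd_iff.1 h2⟩, by
          rw [oD, oI, show Module.finrank K V / 2 = m by omega]; exact h3⟩
      · exact ⟨.P, Or.inr (Or.inl rfl), ⟨by omega, by omega⟩, by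
          rw [oD, oI, show Module.finrank K V / 2 = m by omega]; exact h3⟩
      · exact ⟨.M, Or.inr (Or.inr rfl), ⟨by omega, by omega⟩, by
          rw [oD, oI, show Module.finrank K V / 2 = m by omega]; exact h3⟩
    exact key hQ (b0.o K V f F Q' H N p t k c r h1 h2 h3)

end Cfsg.Agent.N2C.RD
end

-- part: N2/Cl/TenSO/Ifc
section
set_option linter.all false
open scoped Cfsg.Agent.FastGrp

/-!
# N2 (S3519), tensor decompositions: elements of the factors, interface (helper92)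
-/

set_option autoImplicit false
set_option linter.unusedSectionVars false

namespace Cfsg.Agent.N2C.TenSO

open Cfsg.Agent.DS.Cl Cfsg.Agent.DS.Cl.Fwd Module
open Cfsg.Agent.N2C.Cyc
open scoped commutatorElement

/-- the group generated by the squares of the unitary elements -/
def Sq (R : Type) [Ring R] [StarRing R] : Subgroup Rˣ :=
  Subgroup.closure {g | ∃ u : Rˣ, (u : R) * star (u : R) = 1 ∧ g = u * u}

section ring

variable {R : Type} [Ring R] [StarRing R] {u v : Rˣ}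

theorem sq_mem (hu : (u : R) * star (u : R) = 1) : u * u ∈ Sq R := Subgroup.subset_closure ⟨u, hu, rfl⟩

theorem uni_mul (hu : (u : R) * star (u : R) = 1) (hv : (v : R) * star (v : R) = 1) :
    ((u * v : Rˣ) : R) * star ((u * v : Rˣ) : R) = 1 := by
  rw [Units.val_mul, star_mul, mul_assoc, ← mul_assoc (v : R), hv, one_mul, hu]

theorem uni_pow (hu : (u : R) * star (u : R) = 1) (j : ℕ) : ((u ^ j : Rˣ) : R) * star ((u ^ j : Rˣ) : R) = 1 := by
  induction j with
  | zero => simp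
  | succ j ih => rw [pow_succ]; exact uni_mul ih hu

/-- elements of odd order -/
theorem sq_of_odd (hu : (u : R) * star (u : R) = 1) {N : ℕ} (hN : Odd N) (h : u ^ N = 1) : u ∈ Sq R := by
  obtain ⟨j, rfl⟩ := hN
  have h1 := sq_mem (uni_pow hu (j + 1))
  rwa [← pow_add, show j + 1 + (j + 1) = 2 * j + 1 + 1 by ring, pow_succ, h, one_mul] at h1

/-- commutators -/
theorem sq_of_comm {F : FR R} (hu : u ∈ (⁅F.Iso, F.Iso⁆ : Subgroup Rˣ)) : u ∈ Sq R := by
  refine Subgroup.commutator_le.2 (fun a ha b hb => ?_) hu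
  have h1 := mul_mem (mul_mem (sq_mem ha.1) (sq_mem (mul_mem (inv_mem ha) hb).1)) (sq_mem (inv_mem hb).1)
  rwa [show a * a * (a⁻¹ * b * (a⁻¹ * b)) * (b⁻¹ * b⁻¹) = ⁅a, b⁆ by rw [commutatorElement_def]; group] at h1

end ring

variable {K V : Type} [Field K] [Fintype K] [AddCommGroup V] [Module K V] [Finite V]

/-- alternating bilinear forms -/
def Alt (h : HF K V) : Prop := (∀ c, h.τ c = c) ∧ ∀ v, h.b v v = 0

/-- symmetric bilinear forms in odd characteristic -/
def Sym (h : HF K V) : Prop := (∀ c, h.τ c = c) ∧ (∀ u v, h.b u v = h.b v u) ∧ (2 : K) ≠ 0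

/-- a non-central element of order dividing `N` whose commutant has dimension at most `d` -/
structure El (h : HF K V) (g : h.EBˣ) (N d : ℕ) : Prop where
  sq : g ∈ Sq h.EB
  pow : g ^ N = 1
  cen : (g : h.EB) ∉ Subring.center h.EB
  ca : cA (g : h.EB) ≤ Fintype.card K ^ d

/-- the fixed space has dimension at most `κ` -/
def Fx (h : HF K V) (g : h.EB) (κ : ℕ) : Prop := Nat.card {v : V // h.ap g v = v} ≤ Fintype.card K ^ κ

/-- a statement about all forms -/
def All (P : ∀ (K V : Type) [Field K] [Fintype K] [AddCommGroup V] [Module K V] [Finite V], HF K V → Prop) : Prop :=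
  ∀ (K V : Type) [Field K] [Fintype K] [AddCommGroup V] [Module K V] [Finite V] (h : HF K V), P K V h

/-- regular unipotent elements, symplectic -/
def BoxUSp : Prop := All fun K V _ _ _ _ _ h => Alt h → ∀ k, finrank K V = 2 * k → 1 ≤ k → (3 ≤ k ∨ 3 ≤ Fintype.card K) →
  ∃ u j, El h u (Fintype.card K ^ j) (2 * k) ∧ Fx h u 1

/-- regular unipotent elements, orthogonal: blocks `a` or `(a - 1, 1)` -/
def BoxUO : Prop := All fun K V _ _ _ _ _ h => Sym h → 3 ≤ finrank K V →
  (∃ u j, El h u (Fintype.card K ^ j) (finrank K V + 2) ∧ Fx h u 2) ∧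
  (Odd (finrank K V) → ∃ u j, El h u (Fintype.card K ^ j) (finrank K V) ∧ Fx h u 1)

/-- Singer elements (the square of a generator; an element of order four in `Sp₂(3)`) -/
def BoxSSp : Prop := All fun K V _ _ _ _ _ h => Alt h → ∀ k, finrank K V = 2 * k → 1 ≤ k → (2 ≤ k ∨ 3 ≤ Fintype.card K) →
  ∃ s, El h s (Fintype.card K ^ k + 1) (2 * k) ∧ IrrV (h.ap s) ∧ ∀ j, 0 < j → (j ≤ 2 ∨ (2 ≤ k ∧ j ≤ 4)) → s ^ j ≠ 1

/-- `diag (c, c⁻¹)` in `Sp₂(2^f)`; an element of order three moving only a plane in `Sp₄(2)` -/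
def BoxLW : Prop := All fun K V _ _ _ _ _ h => Alt h →
  (finrank K V = 2 → Even (Fintype.card K) → 4 ≤ Fintype.card K → ∃ l, El h l (Fintype.card K - 1) 2) ∧
  (finrank K V = 4 → Fintype.card K = 2 → ∃ w, El h w 3 6)

/-- squares of rotations of a plane -/
def BoxZO : Prop := All fun K V _ _ _ _ _ h => Sym h →
  (3 ≤ finrank K V → ∃ z, El h z 2 ((finrank K V - 2) ^ 2 + 4)) ∧
  (finrank K V = 3 → 5 ≤ Fintype.card K → ∃ z N, N.Coprime (Fintype.card K) ∧ El h z N 3)

/-- the factors `O₂(q)`, `Sp₂(2)`, `O₃(3)` have a characteristic commutative subring -/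
def BoxX : Prop := All fun K V _ _ _ _ _ h =>
  (Sym h → finrank K V = 2 → (∀ x y : h.EB, star x = -x → star y = -y → x * y = y * x) ∧
    ∃ x : h.EB, star x = -x ∧ x ∉ Subring.center h.EB) ∧
  (Alt h → finrank K V = 2 → Fintype.card K = 2 → (∀ x y : h.EB, x * x + x + 1 = 0 → y * y + y + 1 = 0 → x * y = y * x) ∧
    ∃ x : h.EB, x * x + x + 1 = 0 ∧ x ∉ Subring.center h.EB) ∧
  (Sym h → finrank K V = 3 → Fintype.card K = 3 →
    (∀ x y : h.EB, star x = -x → star y = -y → x * x * x = -x → y * y * y = -y → x * x * (y * y) = y * y * (x * x)) ∧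
    ∃ x : h.EB, star x = -x ∧ x * x * x = -x ∧ x * x ∉ Subring.center h.EB)

end Cfsg.Agent.N2C.TenSO
end

-- part: N2/Cl/RD/C3E
section
set_option linter.all false
open scoped Cfsg.Agent.FastGrp

/-!
# N2 (S3519): the eigenvectors of an element of order `r ∣ q ^ 2 + q + 1` of `Sp₆(q)` (helper36)
-/

set_option autoImplicit false
set_option linter.unusedSectionVars false

namespace Cfsg.Agent.N2C.RD.C3

section eig

open Matrix Module Cfsg.Agent.N2C.Sz

variable {E k : Type} [Field E] [Fintype E] [Field k] [IsAlgClosed k]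

theorem sub3 : ∀ s : Finset (Fin 6), s.card = 3 → s = {0, 1, 2} ∨ s = {3, 4, 5} ∨ s ∈ ([{0, 1, 3}, {0, 1, 4}, {0, 1, 5}, {0, 2, 3},
    {0, 2, 4}, {0, 2, 5}, {0, 3, 4}, {0, 3, 5}, {0, 4, 5}, {1, 2, 3}, {1, 2, 4}, {1, 2, 5}, {1, 3, 4}, {1, 3, 5}, {1, 4, 5},
    {2, 3, 4}, {2, 3, 5}, {2, 4, 5}] : List (Finset (Fin 6))) := by
  decide +kernel

theorem exists_eig (j : E →+* k) (p : ℕ) [hp : Fact p.Prime] [CharP E p] [CharP k p] {r : ℕ} (hr : r.Prime) (h2 : r ≠ 2)
    (h3 : r ≠ 3) (hrp : r ≠ p) (hd : r ∣ Fintype.card E ^ 2 + Fintype.card E + 1) {m : symplecticGroup (Fin 3) E}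
    (hm : m ^ r = 1) (hm1 : m ≠ 1) : ∃ (w : Fin 6 → Fin 3 ⊕ Fin 3 → k) (l : Fin 6 → k), Submodule.span k (Set.range w) = ⊤ ∧
      (∀ a, m.1.map j *ᵥ w a = l a • w a) ∧ ∀ s : Finset (Fin 6), s.card = 3 → ∏ a ∈ s, l a = 1 → s = {0, 1, 2} ∨ s = {3, 4, 5} := by
  have : NeZero r := ⟨hr.ne_zero⟩
  have : NeZero (r : k) := ⟨fun e => hrp ((Nat.prime_dvd_prime_iff_eq hp.out hr).1 ((CharP.cast_eq_zero_iff k p r).1 e)).symm⟩
  obtain ⟨ζ, hζ⟩ := HasEnoughRootsOfUnity.exists_primitiveRoot k r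
  obtain ⟨a, -, ha⟩ := FiniteField.card E p
  obtain ⟨σ, hσ⟩ : ∃ σ : k →+* k, ∀ w, σ w = w ^ Fintype.card E := ⟨iterateFrobenius k p a, fun w => by rw [ha]; rfl⟩
  obtain ⟨N, hN⟩ : ∃ N, m.1.map j = N := ⟨_, rfl⟩
  have hNr : N ^ r = 1 := by
    rw [← hN, ← RingHom.mapMatrix_apply, ← map_pow, ← SubmonoidClass.coe_pow, hm, OneMemClass.coe_one, map_one]
  have hN1 : N ≠ 1 := fun e => hm1 (Subtype.ext (map_injective j.injective (by
    change m.1.map j = (1 : Matrix _ _ E).map j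
    rw [hN, e, Matrix.map_one _ (map_zero j) (map_one j)])))
  have e1 : ∀ c, ml N c ≠ 0 → ml N (σ c) ≠ 0 := fun c h => by
    rwa [← ml_map σ, ← hN, Matrix.map_map, show ⇑σ ∘ ⇑j = j from funext fun x => by
      rw [Function.comp_apply, hσ, ← map_pow, FiniteField.pow_card], hN] at h
  have e2 : ∀ c, c ≠ 0 → ml N c ≠ 0 → ml N c⁻¹ ≠ 0 := fun c h0 h => by
    have h4 : Nᵀ * J (Fin 3) k * N = J (Fin 3) k := by
      have h5 := congrArg (fun A => A.map j) (SymplecticGroup.mem_iff'.1 m.2)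
      simp only [Matrix.map_mul, transpose_map, hN] at h5
      have h6 : (J (Fin 3) E).map j = J (Fin 3) k := by
        rw [J, J, fromBlocks_map, Matrix.map_zero _ (map_zero j), Matrix.map_one _ (map_zero j) (map_one j),
          Matrix.map_neg _ (map_neg j), Matrix.map_one _ (map_zero j) (map_one j)]
      rwa [h6] at h5
    rwa [ml_inv (isUnit_det_J _ _).ne_zero h4 (inv_mul_cancel₀ h0), ml_transpose]
  obtain ⟨x, hx, x1, xr⟩ : ∃ x, ml N x ≠ 0 ∧ x ≠ 1 ∧ IsPrimitiveRoot x r := by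
    by_contra h
    refine hN1 (toLinAlgEquiv'.injective (ext_sp hζ hr.pos (T := toLinAlgEquiv' N) (by rw [← map_pow, hNr, map_one])
      fun b v hv => ?_))
    rw [End.mem_eigenspace_iff.1 hv, map_one, End.one_apply]
    by_cases h0 : v = 0
    · rw [h0, smul_zero]
    by_cases h1 : ζ ^ (b : ℕ) = 1
    · rw [h1, one_smul]
    refine absurd ⟨_, ml_ne_zero.2 ⟨v, h0, End.mem_eigenspace_iff.1 hv⟩, h1, hζ.pow_of_coprime _ ?_⟩ h
    exact (Nat.coprime_of_lt_prime (fun e => h1 (by rw [e, pow_zero])) b.2 hr).symm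
  obtain ⟨y, hy⟩ : ∃ y, σ x = y := ⟨_, rfl⟩
  obtain ⟨z, hz⟩ : ∃ z, σ y = z := ⟨_, rfl⟩
  have h1 : x * y * z = 1 := by
    rw [← hz, ← hy, hσ, hσ, ← pow_mul, ← (xr.pow_eq_one_iff_dvd _).2 hd]
    ring
  have h4 : σ z = x := by
    have k := congrArg σ h1
    rw [map_mul, map_mul, hy, hz, map_one] at k
    linear_combination x * k - σ z * h1
  have y1 : y ≠ 1 := fun e => x1 (σ.injective (by rw [hy, e, map_one]))
  have z1 : z ≠ 1 := fun e => y1 (σ.injective (by rw [hz, e, map_one]))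
  have x2 : x * x ≠ 1 := fun e =>
    h2 ((Nat.prime_dvd_prime_iff_eq hr Nat.prime_two).1 ((xr.pow_eq_one_iff_dvd 2).1 ((pow_two x).trans e)))
  have y2 : y * y ≠ 1 := fun e => x2 (σ.injective (by rw [map_mul, hy, e, map_one]))
  have z2 : z * z ≠ 1 := fun e => y2 (σ.injective (by rw [map_mul, hz, e, map_one]))
  have xy : x ≠ y := fun e => h3 ((Nat.prime_dvd_prime_iff_eq hr Nat.prime_three).1 ((xr.pow_eq_one_iff_dvd 3).1 (by
    rw [← h1, ← hz, ← e, hy, ← e]
    ring)))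
  have yz : y ≠ z := fun e => xy (σ.injective (by rw [hy, hz, e]))
  have zx : z ≠ x := fun e => yz (σ.injective (by rw [hz, h4, e]))
  have x0 : x ≠ 0 := by rintro rfl; simp at h1
  have y0 : y ≠ 0 := by rintro rfl; simp at h1
  have z0 : z ≠ 0 := by rintro rfl; simp at h1
  have hy' := hy ▸ e1 x hx
  have hz' := hz ▸ e1 y hy'
  obtain ⟨x', hx'⟩ : ∃ x', x' = x⁻¹ := ⟨_, rfl⟩
  obtain ⟨y', hy''⟩ : ∃ y', y' = y⁻¹ := ⟨_, rfl⟩
  obtain ⟨z', hz''⟩ : ∃ z', z' = z⁻¹ := ⟨_, rfl⟩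
  have hl : ∀ a, ∃ v, v ≠ 0 ∧ N *ᵥ v = ![x, y, z, x', y', z'] a • v := fun a => ml_ne_zero.1 (by
    fin_cases a
    exacts [hx, hy', hz', hx' ▸ e2 x x0 hx, hy'' ▸ e2 y y0 hy', hz'' ▸ e2 z z0 hz'])
  replace hx' : x * x' = 1 := hx' ▸ mul_inv_cancel₀ x0
  replace hy'' : y * y' = 1 := hy'' ▸ mul_inv_cancel₀ y0
  replace hz'' : z * z' = 1 := hz'' ▸ mul_inv_cancel₀ z0
  have n0 : x' ≠ 1 := fun e => x1 (by linear_combination hx' - x * e)
  have n1 : y' ≠ 1 := fun e => y1 (by linear_combination hy'' - y * e)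
  have n2 : z' ≠ 1 := fun e => z1 (by linear_combination hz'' - z * e)
  choose w w0 hw using hl
  clear hx hy' hz' e1 e2 hy hz h4 hσ xr
  refine ⟨w, _, ?_, hN ▸ hw, fun s hs h => ?_⟩
  · refine LinearIndependent.span_eq_top_of_card_eq_finrank (End.eigenvectors_linearIndependent' (toLin' N) _ ?_ w
      fun a => ⟨End.mem_eigenspace_iff.2 (hw a), w0 a⟩) (by simp)
    refine List.nodup_ofFn.1 (show [x, y, z, x', y', z'].Nodup from ?_)
    simp only [List.nodup_cons, List.mem_cons, List.not_mem_nil, or_false, not_or, not_false_eq_true, List.nodup_nil, and_true]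
    exact ⟨⟨xy, zx.symm, fun e => x2 (by linear_combination hx' + x * e), fun e => z1 (by linear_combination h1 - z * hy'' - z * y * e), fun e => y1 (by linear_combination h1 - y * hz'' - y * z * e)⟩,
      ⟨yz, fun e => z1 (by linear_combination h1 - z * hx' - z * x * e), fun e => y2 (by linear_combination hy'' + y * e), fun e => x1 (by linear_combination h1 - x * hz'' - x * z * e)⟩,
      ⟨fun e => y1 (by linear_combination h1 - y * hx' - y * x * e), fun e => x1 (by linear_combination h1 - x * hy'' - x * y * e), fun e => z2 (by linear_combination hz'' + z * e)⟩,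
      ⟨fun e => xy (by linear_combination y * hx' - x * hy'' - x * y * e), fun e => zx.symm (by linear_combination z * hx' - x * hz'' - x * z * e)⟩,
      fun e => yz (by linear_combination z * hy'' - y * hz'' - y * z * e)⟩
  · rcases sub3 s hs with h5 | h5 | h5
    · exact Or.inl h5
    · exact Or.inr h5
    have e : ∀ a b c : Fin 6, a ≠ b → a ≠ c → b ≠ c → ∀ f : Fin 6 → k, ∏ i ∈ {a, b, c}, f i = f a * (f b * f c) :=
      fun a b c h1 h2 h3 f => by
        rw [Finset.prod_insert (by rw [Finset.mem_insert, Finset.mem_singleton]; exact fun h => h.elim h1 h2), Finset.prod_pair h3]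
    simp only [List.mem_cons, List.not_mem_nil, or_false] at h5
    exfalso
    rcases h5 with rfl | rfl | rfl | rfl | rfl | rfl | rfl | rfl | rfl | rfl | rfl | rfl | rfl | rfl | rfl | rfl | rfl | rfl
    · replace h : x * (y * x') = 1 := (e _ _ _ (by decide) (by decide) (by decide) _).symm.trans h
      exact y1 (by linear_combination h - y * hx')
    · replace h : x * (y * y') = 1 := (e _ _ _ (by decide) (by decide) (by decide) _).symm.trans h
      exact x1 (by linear_combination h - x * hy'')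
    · replace h : x * (y * z') = 1 := (e _ _ _ (by decide) (by decide) (by decide) _).symm.trans h
      exact z2 (by linear_combination (-z * z) * h + z * z' * h1 + hz'')
    · replace h : x * (z * x') = 1 := (e _ _ _ (by decide) (by decide) (by decide) _).symm.trans h
      exact z1 (by linear_combination h - z * hx')
    · replace h : x * (z * y') = 1 := (e _ _ _ (by decide) (by decide) (by decide) _).symm.trans h
      exact y2 (by linear_combination (-y * y) * h + y * y' * h1 + hy'')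
    · replace h : x * (z * z') = 1 := (e _ _ _ (by decide) (by decide) (by decide) _).symm.trans h
      exact x1 (by linear_combination h - x * hz'')
    · replace h : x * (x' * y') = 1 := (e _ _ _ (by decide) (by decide) (by decide) _).symm.trans h
      exact n1 (by linear_combination h - y' * hx')
    · replace h : x * (x' * z') = 1 := (e _ _ _ (by decide) (by decide) (by decide) _).symm.trans h
      exact n2 (by linear_combination h - z' * hx')
    · replace h : x * (y' * z') = 1 := (e _ _ _ (by decide) (by decide) (by decide) _).symm.trans h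
      exact x2 (by linear_combination h + x * y' * z' * h1 - x * x * z * z' * hy'' - x * x * hz'')
    · replace h : y * (z * x') = 1 := (e _ _ _ (by decide) (by decide) (by decide) _).symm.trans h
      exact x2 (by linear_combination (-x * x) * h + x * x' * h1 + hx')
    · replace h : y * (z * y') = 1 := (e _ _ _ (by decide) (by decide) (by decide) _).symm.trans h
      exact z1 (by linear_combination h - z * hy'')
    · replace h : y * (z * z') = 1 := (e _ _ _ (by decide) (by decide) (by decide) _).symm.trans h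
      exact y1 (by linear_combination h - y * hz'')
    · replace h : y * (x' * y') = 1 := (e _ _ _ (by decide) (by decide) (by decide) _).symm.trans h
      exact n0 (by linear_combination h - x' * hy'')
    · replace h : y * (x' * z') = 1 := (e _ _ _ (by decide) (by decide) (by decide) _).symm.trans h
      exact y2 (by linear_combination h + y * x' * z' * h1 - y * y * z * z' * hx' - y * y * hz'')
    · replace h : y * (y' * z') = 1 := (e _ _ _ (by decide) (by decide) (by decide) _).symm.trans h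
      exact n2 (by linear_combination h - z' * hy'')
    · replace h : z * (x' * y') = 1 := (e _ _ _ (by decide) (by decide) (by decide) _).symm.trans h
      exact z2 (by linear_combination h + z * x' * y' * h1 - z * z * y * y' * hx' - z * z * hy'')
    · replace h : z * (x' * z') = 1 := (e _ _ _ (by decide) (by decide) (by decide) _).symm.trans h
      exact n0 (by linear_combination h - x' * hz'')
    · replace h : z * (y' * z') = 1 := (e _ _ _ (by decide) (by decide) (by decide) _).symm.trans h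
      exact n1 (by linear_combination h - y' * hz'')

end eig

end Cfsg.Agent.N2C.RD.C3
end
end
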